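/-
The tensor power of a symplectic form: isometries, factor elements and root elements.
-/
import Cfsg.Agent.Lib.Classical.UTPow.Ops
import Cfsg.Agent.Lib.Classical.TensorMax.Form.SpTools
import Cfsg.Agent.Lib.Classical.TensorPowerMax.Norm

set_option autoImplicit false
set_option linter.unusedSectionVars false

namespace Cfsg.Agent.Classical.TensorPowerMax.Symplectic

open Matrix Cfsg.Geo
open Cfsg.Agent.Classical
open Cfsg.Agent.Classical.TensorPowerMax
open Cfsg.Agent.Classical.TensorPowerMax.Unitary (tp gram_tp tp_spl kr_iso perm_tp fl nm)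
open Cfsg.Agent.Classical.TensorMax (kr kr_val kr_mul kr_one kr_inv)
open Cfsg.Agent.Classical.TensorMax.Form (SForm STv exists_stv tm tf ctr Data Rt kr_tm tf_tm ctr_tm)
open scoped Kronecker

variable {F : Type*} [Field F] [Fintype F] {m t : ℕ} {f : (Fin m → F) → (Fin m → F) → F}

local notation "idF" => RingEquiv.refl F

theorem tp_refl (S : SForm f) (t : ℕ) : IsReflexForm idF ((-1) ^ t) (tp idF f t) := by
  have hu : IsUnit (pureM fun _ : Fin t => gramMatrix f) := by
    obtain ⟨u, hu⟩ := S.refl.gram_isUnit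
    exact ⟨TensorPowerMax.pureGL (fun _ => u), by rw [TensorPowerMax.pureGL_val]; simp only [hu]⟩
  have hd := ((Matrix.isUnit_iff_isUnit_det _).1 hu).ne_zero
  have hsw : ∀ i j, (pureM fun _ : Fin t => gramMatrix f) j i =
      (-1) ^ t * idF ((pureM fun _ : Fin t => gramMatrix f) i j) := fun i j => by
    simp only [pureM, Matrix.of_apply, RingEquiv.refl_apply]
    rw [show ((-1 : F) ^ t) = ∏ _k : Fin t, (-1 : F) by simp, ← Finset.prod_mul_distrib]
    exact Finset.prod_congr rfl fun k _ => by rw [S.refl.gram_swap, RingEquiv.refl_apply]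
  have h := gramForm_reflex (ι := Fin t → Fin m) (σ := idF) (fun _ => rfl) hd hsw
  convert h using 1
  funext x y
  simp only [tp, formOfGram, gramForm, dotProduct, Matrix.mulVec, Function.comp_apply, Finset.mul_sum]
  exact Finset.sum_congr rfl fun a _ => Finset.sum_congr rfl fun b _ => by ring

theorem data (S : SForm f) (t : ℕ) : Data idF ((-1) ^ t) (-1) (tp idF f t) f := ⟨tp_refl S t, S.refl⟩

/-- The isometries of the tensor power. -/
def Iso (f : (Fin m → F) → (Fin m → F) → F) (t : ℕ) : Subgroup (GL (Fin t → Fin m) F) where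
  carrier := {g | ∀ x y, tp (RingEquiv.refl F) f t ((g : Matrix (Fin t → Fin m) (Fin t → Fin m) F) *ᵥ x)
    ((g : Matrix (Fin t → Fin m) (Fin t → Fin m) F) *ᵥ y) = tp (RingEquiv.refl F) f t x y}
  one_mem' := fun x y => by simp
  mul_mem' {g h} hg hh := fun x y => by rw [gl_mul_mulVec, gl_mul_mulVec, hg, hh]
  inv_mem' {g} hg := fun x y => by
    rw [← hg, gl_mulVec_inv_cancel, gl_mulVec_inv_cancel]

/-- The isometries of the single factors. -/
def Ks (f : (Fin m → F) → (Fin m → F) → F) (t : ℕ) : Subgroup (GL (Fin t → Fin m) F) :=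
  Subgroup.closure {g | ∃ (i : Fin t) (b : GL (Fin m) F),
    (∀ u v, f ((b : Matrix (Fin m) (Fin m) F) *ᵥ u) ((b : Matrix (Fin m) (Fin m) F) *ᵥ v) = f u v) ∧ g = facGL i b}

theorem mem_iso_iff (i : Fin (t + 1)) {g : GL ((Fin t → Fin m) × Fin m) F} :
    J i g ∈ Iso f (t + 1) ↔ ∀ x y,
      tf idF (tp idF f t) f ((g : Matrix ((Fin t → Fin m) × Fin m) ((Fin t → Fin m) × Fin m) F) *ᵥ x)
        ((g : Matrix ((Fin t → Fin m) × Fin m) ((Fin t → Fin m) × Fin m) F) *ᵥ y) = tf idF (tp idF f t) f x y := by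
  refine ⟨fun h x y => ?_, fun h x y => ?_⟩
  · have e := h (x ∘ (spl i).symm) (y ∘ (spl i).symm)
    rw [tp_spl i, tp_spl i, J_mulVec, J_mulVec] at e
    simpa [Function.comp_assoc] using e
  · rw [tp_spl i, tp_spl i, J_mulVec, J_mulVec, h]

theorem facGL_iso (S : SForm f) (i : Fin (t + 1)) {b : GL (Fin m) F}
    (hb : ∀ u v, f ((b : Matrix (Fin m) (Fin m) F) *ᵥ u) ((b : Matrix (Fin m) (Fin m) F) *ᵥ v) = f u v) :
    facGL i b ∈ Iso f (t + 1) := by
  rw [← J_kr_right]
  exact (mem_iso_iff i).2 (kr_iso (data S t) (μ := 1) (ν := 1) (fun u v => by simp) (fun u v => by rw [hb, one_mul])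
    (one_mul 1))

theorem ks_le_iso (S : SForm f) : ∀ t, Ks f t ≤ Iso f t
  | 0 => (Subgroup.closure_le _).2 fun g ⟨i, _⟩ => i.elim0
  | t + 1 => (Subgroup.closure_le _).2 fun g ⟨i, b, hb, hg⟩ => hg ▸ facGL_iso S i hb

theorem facGL_mem_ks (i : Fin t) {b : GL (Fin m) F}
    (hb : ∀ u v, f ((b : Matrix (Fin m) (Fin m) F) *ᵥ u) ((b : Matrix (Fin m) (Fin m) F) *ᵥ v) = f u v) :
    facGL i b ∈ Ks f t :=
  Subgroup.subset_closure ⟨i, b, hb, rfl⟩

theorem ks_le_std : Ks f t ≤ tensorWreathStandard m t F :=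
  (Subgroup.closure_le _).2 fun g ⟨i, b, _, hg⟩ => hg ▸ facGL_mem i b

theorem perm_iso (σ : Equiv.Perm (Fin t)) : factorPermGL m F σ ∈ Iso f t := fun x y => perm_tp σ x y

/-- The functional of a vector. -/
theorem fl_dot (S : SForm f) (o v : Fin m → F) : fl f o ⬝ᵥ v = f v o := by
  conv_rhs => rw [pi_eq_sum_univ' v, S.refl.sum_left]
  refine Finset.sum_congr rfl fun k _ => ?_
  rw [S.refl.semi.smul_left, fl, mul_comm]

theorem fl_ne_zero (S : SForm f) {o : Fin m → F} (ho : o ≠ 0) : fl f o ≠ 0 := fun e => by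
  obtain ⟨x, hx⟩ := (S.refl.nondeg o ho).1
  exact hx (by rw [← fl_dot S, e, zero_dotProduct])

theorem nm_mulVec (S : SForm f) (u v : Fin m → F) : nm f u *ᵥ v = f v u • u := by
  rw [nm, Matrix.vecMulVec_mulVec, fl_dot S, op_smul_eq_smul]

theorem nm_sq (S : SForm f) (u : Fin m → F) : nm f u * nm f u = 0 :=
  vecMulVec_sq (by rw [fl_dot S, S.alt])

theorem nm_ne_zero (S : SForm f) {u : Fin m → F} (hu : u ≠ 0) : nm f u ≠ 0 :=
  vecMulVec_ne_zero hu (fl_ne_zero S hu)

theorem exists_partner (S : SForm f) {o : Fin m → F} (ho : o ≠ 0) : ∃ o', f o' o = 1 ∧ f o o' = -1 := by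
  obtain ⟨x, hx⟩ := (S.refl.nondeg o ho).1
  refine ⟨(f x o)⁻¹ • x, by rw [S.refl.semi.smul_left, inv_mul_cancel₀ hx], ?_⟩
  rw [S.smul_right, S.swap x o]
  field_simp

/-- A transvection with centre `o` in the factor `j`. -/
def SRootAt (f : (Fin m → F) → (Fin m → F) → F) (j : Fin (t + 1)) (g : GL (Fin (t + 1) → Fin m) F) : Prop :=
  ∃ (o : Fin m → F) (c : F), o ≠ 0 ∧ c ≠ 0 ∧ Rt f o c ((J j).symm g)

/-- A root element. -/
def SRoot (f : (Fin m → F) → (Fin m → F) → F) (g : GL (Fin (t + 1) → Fin m) F) : Prop := ∃ j, SRootAt f j g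

theorem kr_right_rt {o : Fin m → F} {c : F} {b : GL (Fin m) F} (hb : STv f b o c) :
    Rt f o c (kr (1 : GL (Fin t → Fin m) F) b) := fun x => by
  funext p
  have e := congrFun (TensorMax.Form.kr_one_row (α := Fin t → Fin m) b x p.1) p.2
  rw [hb] at e
  simp only [TensorMax.Form.row, Pi.add_apply, Pi.smul_apply, smul_eq_mul] at e
  refine e.trans ?_
  simp only [Pi.add_apply, Pi.smul_apply, smul_eq_mul, TensorMax.Form.tm_apply]
  rfl

theorem stv_val (S : SForm f) {o : Fin m → F} {c : F} {b : GL (Fin m) F} (hb : STv f b o c) :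
    (b : Matrix (Fin m) (Fin m) F) = 1 + vecMulVec o (c • fl f o) :=
  Matrix.toLin'.injective (LinearMap.ext fun v => by
    rw [Matrix.toLin'_apply, Matrix.toLin'_apply, hb, Matrix.add_mulVec, Matrix.one_mulVec, Matrix.vecMulVec_mulVec,
      smul_dotProduct, fl_dot S, op_smul_eq_smul, smul_eq_mul])

theorem rt_eq_fac {j : Fin (t + 1)} {g : GL (Fin (t + 1) → Fin m) F} {o : Fin m → F} {c : F}
    {b : GL (Fin m) F} (hg : Rt f o c ((J j).symm g)) (hb : STv f b o c) : g = facGL j b := by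
  have h := TensorMax.Form.rt_unique hg (kr_right_rt (t := t) hb)
  rw [← J_kr_right, ← h, MulEquiv.apply_symm_apply]

theorem root_val (S : SForm f) {j : Fin (t + 1)} {g : GL (Fin (t + 1) → Fin m) F} {o : Fin m → F} {c : F}
    (hg : Rt f o c ((J j).symm g)) :
    (g : Matrix (Fin (t + 1) → Fin m) (Fin (t + 1) → Fin m) F) = facM j (1 + vecMulVec o (c • fl f o)) := by
  obtain ⟨b, hb, -, -⟩ := exists_stv S o c
  rw [rt_eq_fac hg hb, facGL_val, stv_val S hb]

theorem SRootAt.rootAt (S : SForm f) {j : Fin (t + 1)} {g : GL (Fin (t + 1) → Fin m) F} (h : SRootAt f j g) :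
    RootAt j g := by
  obtain ⟨o, c, ho, hc, hg⟩ := h
  exact ⟨o, c • fl f o, ho, smul_ne_zero hc (fl_ne_zero S ho), by rw [smul_dotProduct, fl_dot S, S.alt, smul_zero],
    root_val S hg⟩

theorem SRoot.isRoot (S : SForm f) {g : GL (Fin (t + 1) → Fin m) F} (h : SRoot f g) : IsRoot g :=
  h.imp fun _ hj => hj.rootAt S

theorem exists_srootAt (S : SForm f) (j : Fin (t + 1)) {o : Fin m → F} (ho : o ≠ 0) {c : F} (hc : c ≠ 0) :
    ∃ g ∈ Ks f (t + 1), Rt f o c ((J j).symm g) ∧ SRootAt f j g := by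
  obtain ⟨b, hb, -, hbi⟩ := exists_stv S o c
  have hR : Rt f o c ((J j).symm (facGL j b : GL (Fin (t + 1) → Fin m) F)) := by
    rw [← J_kr_right, MulEquiv.symm_apply_apply]
    exact kr_right_rt hb
  exact ⟨facGL j b, facGL_mem_ks j hbi, hR, o, c, ho, hc, hR⟩

theorem SRootAt.mem_ks (S : SForm f) {j : Fin (t + 1)} {g : GL (Fin (t + 1) → Fin m) F} (h : SRootAt f j g) :
    g ∈ Ks f (t + 1) := by
  obtain ⟨o, c, -, -, hg⟩ := h
  obtain ⟨b, hb, -, hbi⟩ := exists_stv S o c
  rw [rt_eq_fac hg hb]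
  exact facGL_mem_ks j hbi

theorem SRoot.mem_ks (S : SForm f) {g : GL (Fin (t + 1) → Fin m) F} (h : SRoot f g) : g ∈ Ks f (t + 1) := by
  obtain ⟨j, hj⟩ := h
  exact hj.mem_ks S

/-- A root element of the linear group that is an isometry is a symplectic one. -/
theorem srootAt_of_rootAt (S : SForm f) (hm : 2 ≤ m) {j : Fin (t + 1)} {g : GL (Fin (t + 1) → Fin m) F}
    (h : RootAt j g) (hg : g ∈ Iso f (t + 1)) : SRootAt f j g := by
  obtain ⟨v₀, l, hlf, hf, hl, rfl⟩ := h.eq
  rw [← J_kr_right, mem_iso_iff] at hg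
  have D := data S t
  obtain ⟨a₀⟩ : Nonempty (Fin t → Fin m) := ⟨fun _ => ⟨0, by omega⟩⟩
  obtain ⟨a', ha'⟩ := ((tp_refl S t).nondeg (Pi.single a₀ 1) (by simp)).2
  have hv : ∀ v, ((tv v₀ l hlf : GL (Fin m) F) : Matrix (Fin m) (Fin m) F) *ᵥ v = v + (l ⬝ᵥ v) • v₀ := fun v => by
    show (1 + vecMulVec v₀ l) *ᵥ v = _
    rw [Matrix.add_mulVec, Matrix.one_mulVec, Matrix.vecMulVec_mulVec, op_smul_eq_smul]
  have hexp : ∀ v w, (l ⬝ᵥ v) * f v₀ w + (l ⬝ᵥ w) * f v v₀ = 0 := fun v w => by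
    have e := hg (tm (Pi.single a₀ 1) v) (tm a' w)
    rw [kr_tm, kr_tm, Units.val_one, Matrix.one_mulVec, Matrix.one_mulVec, tf_tm D, tf_tm D] at e
    have e2 := mul_left_cancel₀ ha' e
    rw [hv, hv, S.expand, add_right_comm] at e2
    linear_combination e2
  obtain ⟨v₁, hv₁⟩ : ∃ v, l ⬝ᵥ v = 1 := by
    obtain ⟨i, hi⟩ := Function.ne_iff.mp hl
    exact ⟨Pi.single i (l i)⁻¹, by rw [dotProduct_single, mul_inv_cancel₀ hi]⟩
  obtain ⟨κ, hκ⟩ : ∃ k, k = f v₀ v₁ := ⟨_, rfl⟩
  have hlv : ∀ v, (l ⬝ᵥ v) * κ + f v v₀ = 0 := fun v => by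
    have := hexp v v₁
    rwa [hv₁, ← hκ, one_mul] at this
  have hκ0 : κ ≠ 0 := fun e => by
    obtain ⟨x, hx⟩ := (S.refl.nondeg v₀ hf).1
    exact hx (by have := hlv x; rwa [e, mul_zero, zero_add] at this)
  refine ⟨v₀, -κ⁻¹, hf, neg_ne_zero.mpr (inv_ne_zero hκ0), ?_⟩
  rw [← J_kr_right, MulEquiv.symm_apply_apply]
  refine kr_right_rt fun v => ?_
  rw [hv]
  congr 2
  field_simp
  linear_combination hlv v

theorem sroot_of_isRoot (S : SForm f) (hm : 2 ≤ m) {g : GL (Fin (t + 1) → Fin m) F} (h : IsRoot g)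
    (hg : g ∈ Iso f (t + 1)) : SRoot f g :=
  h.imp fun _ hj => srootAt_of_rootAt S hm hj hg

theorem SRoot.conj (S : SForm f) (hm : 2 ≤ m) {g h : GL (Fin (t + 1) → Fin m) F} (hg : SRoot f g)
    (hh : h ∈ tensorWreathStandard m (t + 1) F) (hhi : h ∈ Iso f (t + 1)) : SRoot f (h * g * h⁻¹) :=
  sroot_of_isRoot S hm ((hg.isRoot S).conj hh) (mul_mem (mul_mem hhi (ks_le_iso S _ (hg.mem_ks S))) (inv_mem hhi))

/-- The elementary maps of the form generate all matrices. -/
theorem alg_top (S : SForm f) (A : Submodule F (Matrix (Fin m) (Fin m) F))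
    (hmul : ∀ X Y, X ∈ A → Y ∈ A → X * Y ∈ A) (hone : ∀ o, o ≠ 0 → nm f o ∈ A)
    (Y : Matrix (Fin m) (Fin m) F) : Y ∈ A := by
  classical
  have hne : ∀ x y, x ≠ 0 → y ≠ 0 → f y x ≠ 0 → vecMulVec x (fl f y) ∈ A := by
    intro x y hx hy hne
    have := A.smul_mem (f y x)⁻¹ (hmul _ _ (hone x hx) (hone y hy))
    rwa [nm, nm, Matrix.vecMulVec_mul_vecMulVec, fl_dot S, Matrix.vecMulVec_smul, smul_smul, inv_mul_cancel₀ hne,
      one_smul] at this
  have hall : ∀ x y, vecMulVec x (fl f y) ∈ A := by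
    intro x y
    rcases eq_or_ne x 0 with rfl | hx
    · rw [Matrix.zero_vecMulVec]; exact A.zero_mem
    rcases eq_or_ne y 0 with rfl | hy
    · rw [show fl f (0 : Fin m → F) = 0 from funext fun k => S.refl.zero_right _, Matrix.vecMulVec_zero]
      exact A.zero_mem
    by_cases h : f y x = 0
    · obtain ⟨d, -, hxd, hyd⟩ := TensorMax.Form.exists_avoid S (W := ⊥) (u := x) (v := y) (by simpa using hx)
        (by simpa using hy)
      have hd : d ≠ 0 := fun e => hxd (by rw [e, S.refl.zero_right])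
      have hdx : f d x ≠ 0 := fun e => hxd (S.refl.eq_zero_swap e)
      have := A.smul_mem (f d x)⁻¹ (hmul _ _ (hone x hx) (hne d y hd hy hyd))
      rwa [nm, Matrix.vecMulVec_mul_vecMulVec, fl_dot S, Matrix.vecMulVec_smul, smul_smul, inv_mul_cancel₀ hdx,
        one_smul] at this
    · exact hne x y hx hy h
  induction Y using Matrix.induction_on' with
  | h_zero => exact A.zero_mem
  | h_add X Y hX hY => exact A.add_mem hX hY
  | h_std_basis a b c =>
    obtain ⟨u, hu⟩ := S.refl.gram_isUnit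
    have e : fl f (((u⁻¹ : (Matrix (Fin m) (Fin m) F)ˣ) : Matrix (Fin m) (Fin m) F) *ᵥ Pi.single b 1) =
        Pi.single b 1 := by
      funext k
      rw [fl, S.refl.apply_eq, show ((RingEquiv.refl F : F ≃+* F) : F → F) ∘ (((u⁻¹ : (Matrix (Fin m) (Fin m) F)ˣ) : Matrix (Fin m) (Fin m) F) *ᵥ Pi.single b 1) = ((u⁻¹ : (Matrix (Fin m) (Fin m) F)ˣ) : Matrix (Fin m) (Fin m) F) *ᵥ Pi.single b 1 from rfl,
        ← hu, Matrix.mulVec_mulVec, Units.mul_inv, Matrix.one_mulVec, single_dotProduct, one_mul]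
    have h' := A.smul_mem c (hall (Pi.single a 1)
      (((u⁻¹ : (Matrix (Fin m) (Fin m) F)ˣ) : Matrix (Fin m) (Fin m) F) *ᵥ Pi.single b 1))
    rwa [e, ← Matrix.single_eq_single_vecMulVec_single, Matrix.smul_single, smul_eq_mul, mul_one] at h'

/-- The factor groups act irreducibly. -/
theorem irreducible (S : SForm f) {W : Submodule F ((Fin t → Fin m) → F)}
    (hW : ∀ g ∈ Ks f t, ∀ w ∈ W, (g : Matrix (Fin t → Fin m) (Fin t → Fin m) F) *ᵥ w ∈ W) (hne : W ≠ ⊥) : W = ⊤ := by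
  classical
  have hfac : ∀ (k : Fin t) (Y : Matrix (Fin m) (Fin m) F), ∀ w ∈ W, facM k Y *ᵥ w ∈ W := by
    intro k
    let A : Submodule F (Matrix (Fin m) (Fin m) F) :=
      { carrier := {Y | ∀ w ∈ W, facM k Y *ᵥ w ∈ W}
        add_mem' := fun {X Y} hX hY w hw => by
          rw [facM_add, Matrix.add_mulVec]; exact W.add_mem (hX w hw) (hY w hw)
        zero_mem' := fun w hw => by
          rw [show (0 : Matrix (Fin m) (Fin m) F) = (0 : F) • 1 from (zero_smul _ _).symm, facM_smul, zero_smul,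
            Matrix.zero_mulVec]
          exact W.zero_mem
        smul_mem' := fun c X hX w hw => by rw [facM_smul, Matrix.smul_mulVec]; exact W.smul_mem c (hX w hw) }
    refine fun Y => alg_top S A (fun X Y hX hY w hw => ?_) (fun o ho w hw => ?_) Y
    · rw [← facM_mul, ← Matrix.mulVec_mulVec]; exact hX _ (hY w hw)
    · obtain ⟨b, hb, -, hbi⟩ := exists_stv S o 1
      have := W.sub_mem (hW _ (facGL_mem_ks k hbi) w hw) hw
      rwa [facGL_val, stv_val S hb, one_smul, facM_add, facM_one, Matrix.add_mulVec, Matrix.one_mulVec,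
        add_sub_cancel_left] at this
  have hpure : ∀ (A : Fin t → Matrix (Fin m) (Fin m) F) (T : Finset (Fin t)), ∀ w ∈ W,
      pureM (fun k => if k ∈ T then A k else 1) *ᵥ w ∈ W := by
    intro A T
    induction T using Finset.induction_on with
    | empty => intro w hw; simpa [pureM_one] using hw
    | insert k T hk ih =>
      intro w hw
      have e : pureM (fun j => if j ∈ insert k T then A j else 1) = facM k (A k) * pureM (fun j => if j ∈ T then A j else 1) := by
        rw [facM, pureM_mul]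
        congr 1
        funext j
        rcases eq_or_ne j k with rfl | hj
        · simp [hk]
        · simp [hj, Function.update_of_ne hj]
      rw [e, ← Matrix.mulVec_mulVec]
      exact hfac k _ _ (ih w hw)
  obtain ⟨w, hw, hw0⟩ := Submodule.exists_mem_ne_zero_of_ne_bot hne
  obtain ⟨y, hy⟩ := Function.ne_iff.1 hw0
  refine eq_top_iff.2 fun v _ => ?_
  rw [pi_eq_sum_univ' v]
  refine W.sum_mem fun x _ => W.smul_mem _ ?_
  have h := hpure (fun k => Matrix.single (x k) (y k) (1 : F)) Finset.univ w hw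
  simp only [Finset.mem_univ, if_true] at h
  have e : pureM (fun k => Matrix.single (x k) (y k) (1 : F)) = Matrix.single x y 1 := by
    ext a b
    simp only [pureM, Matrix.of_apply, Matrix.single_apply]
    by_cases h : x = a ∧ y = b
    · obtain ⟨rfl, rfl⟩ := h; simp
    · rw [if_neg h]
      obtain ⟨l, hl⟩ : ∃ l, ¬ (x l = a l ∧ y l = b l) := by
        by_contra hcon
        push Not at hcon
        exact h ⟨funext fun l => (hcon l).1, funext fun l => (hcon l).2⟩
      exact Finset.prod_eq_zero (Finset.mem_univ l) (if_neg hl)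
  rw [e] at h
  have e2 : Matrix.single x y (1 : F) *ᵥ w = w y • Pi.single x 1 := by
    funext a
    simp [Matrix.mulVec, dotProduct, Matrix.single_apply, Pi.single_apply, eq_comm, ite_and]
  rw [e2] at h
  have := W.smul_mem (w y)⁻¹ h
  rwa [smul_smul, inv_mul_cancel₀ (show w y ≠ 0 from hy), one_smul] at this

end Cfsg.Agent.Classical.TensorPowerMax.Symplectic
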