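/-
Square-zero standard elements in odd characteristic are root elements, also for two-dimensional factors.
-/
import Cfsg.Agent.Lib.Classical.STPow.Basic
import Cfsg.Agent.Lib.Classical.TensorPowerMax.Pure
import Cfsg.Agent.Lib.Classical.TensorPowerMax.Slice
import Cfsg.Agent.Lib.Classical.TensorPowerMax.Three
import Cfsg.Agent.Lib.Classical.TensorPowerMax.Moves

set_option autoImplicit false
set_option linter.unusedSectionVars false

namespace Cfsg.Agent.Classical.TensorPowerMax.Symplectic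

open Matrix Cfsg.Geo
open Cfsg.Agent.Classical
open Cfsg.Agent.Classical.TensorPowerMax

variable {F : Type*} [Field F] [Fintype F] {m t : ℕ}

theorem pv_dot (c d : Fin t → Fin m → F) : pv c ⬝ᵥ pv d = ∏ k, c k ⬝ᵥ d k := by
  simp only [dotProduct, pv, ← Finset.prod_mul_distrib]
  rw [Finset.prod_univ_sum, Fintype.piFinset_univ]

theorem exists_dual {a b : Fin m → F} (ha : a ≠ 0) (hab : ∀ r : F, b ≠ r • a) :
    ∃ l : Fin m → F, a ⬝ᵥ l = 0 ∧ b ⬝ᵥ l ≠ 0 := by
  by_contra hcon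
  push Not at hcon
  obtain ⟨i, hi⟩ := Function.ne_iff.1 ha
  have hi' : a i ≠ 0 := hi
  refine hab (b i / a i) (funext fun j => ?_)
  have := hcon (a i • Pi.single j 1 - a j • Pi.single i 1) (by
    rw [dotProduct_sub, dotProduct_smul, dotProduct_smul, dotProduct_single, dotProduct_single, smul_eq_mul,
      smul_eq_mul]; ring)
  rw [dotProduct_sub, dotProduct_smul, dotProduct_smul, dotProduct_single, dotProduct_single, smul_eq_mul,
    smul_eq_mul] at this
  rw [Pi.smul_apply, smul_eq_mul, div_mul_eq_mul_div, eq_div_iff hi']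
  linear_combination this

theorem exists_common_dual (h2 : (2 : F) ≠ 0) {a b : Fin m → F} (ha : a ≠ 0) (hb : b ≠ 0) :
    ∃ l : Fin m → F, a ⬝ᵥ l ≠ 0 ∧ b ⬝ᵥ l ≠ 0 := by
  obtain ⟨i, hi⟩ := Function.ne_iff.1 ha
  obtain ⟨j, hj⟩ := Function.ne_iff.1 hb
  by_cases hbi : b i = 0
  · by_cases haj : a j = 0
    · refine ⟨Pi.single i 1 + Pi.single j 1, ?_, ?_⟩
      · rw [dotProduct_add, dotProduct_single, dotProduct_single, mul_one, mul_one, haj, add_zero]; exact hi
      · rw [dotProduct_add, dotProduct_single, dotProduct_single, mul_one, mul_one, hbi, zero_add]; exact hj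
    · exact ⟨Pi.single j 1, by rw [dotProduct_single, mul_one]; exact haj, by rw [dotProduct_single, mul_one]; exact hj⟩
  · exact ⟨Pi.single i 1, by rw [dotProduct_single, mul_one]; exact hi, by rw [dotProduct_single, mul_one]; exact hbi⟩

/-- A combination of two pure tensors differing in two factors is not pure. -/
theorem not_pure_comb (h2 : (2 : F) ≠ 0) {a b d : Fin t → Fin m → F} (ha : ∀ k, a k ≠ 0) (hb : ∀ k, b k ≠ 0)
    {i j : Fin t} (hij : i ≠ j) (hi : ∀ r : F, b i ≠ r • a i) (hj : ∀ r : F, b j ≠ r • a j) {x y : F} (hx : x ≠ 0)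
    (hy : y ≠ 0) : x • pv a + y • pv b ≠ pv d := by
  classical
  have hflip : ∀ {k}, (∀ r : F, b k ≠ r • a k) → ∀ r : F, a k ≠ r • b k := fun {k} h r e => by
    rcases eq_or_ne r 0 with rfl | hr
    · exact ha k (e.trans (zero_smul F _))
    · exact h r⁻¹ (by rw [e, smul_smul, inv_mul_cancel₀ hr, one_smul])
  choose η hη using fun k : {k // ∀ r : F, b k ≠ r • a k} => exists_dual (ha k.1) k.2
  choose ξ hξ using fun k : {k // ∀ r : F, b k ≠ r • a k} => exists_dual (hb k.1) (hflip k.2)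
  choose l hl using fun k => exists_common_dual h2 (ha k) (hb k)
  let L : (Fin m → F) → (Fin m → F) → Fin t → Fin m → F := fun p r => Function.update (Function.update l i p) j r
  have hval : ∀ c : Fin t → Fin m → F, ∀ p r, pv c ⬝ᵥ pv (L p r) =
      (c i ⬝ᵥ p) * (c j ⬝ᵥ r) * ∏ k ∈ (Finset.univ.erase i).erase j, c k ⬝ᵥ l k := fun c p r => by
    rw [pv_dot, ← Finset.mul_prod_erase _ _ (Finset.mem_univ i),
      ← Finset.mul_prod_erase _ _ (Finset.mem_erase.2 ⟨hij.symm, Finset.mem_univ j⟩)]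
    simp only [L, Function.update_self, Function.update_of_ne hij]
    rw [← mul_assoc]
    congr 1
    refine Finset.prod_congr rfl fun k hk => ?_
    simp only [Finset.mem_erase] at hk
    rw [Function.update_of_ne hk.1, Function.update_of_ne hk.2.1]
  intro e
  have he : ∀ p r, x * (pv a ⬝ᵥ pv (L p r)) + y * (pv b ⬝ᵥ pv (L p r)) = pv d ⬝ᵥ pv (L p r) := fun p r => by
    rw [← e, add_dotProduct, smul_dotProduct, smul_dotProduct, smul_eq_mul, smul_eq_mul]
  simp only [hval] at he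
  obtain ⟨P, hP⟩ : ∃ P, P = ∏ k ∈ (Finset.univ.erase i).erase j, a k ⬝ᵥ l k := ⟨_, rfl⟩
  obtain ⟨Q, hQ⟩ : ∃ Q, Q = ∏ k ∈ (Finset.univ.erase i).erase j, b k ⬝ᵥ l k := ⟨_, rfl⟩
  have hP0 : P ≠ 0 := hP ▸ Finset.prod_ne_zero_iff.2 fun k _ => (hl k).1
  have hQ0 : Q ≠ 0 := hQ ▸ Finset.prod_ne_zero_iff.2 fun k _ => (hl k).2
  have e1 := he (ξ ⟨i, hi⟩) (ξ ⟨j, hj⟩)
  have e2 := he (η ⟨i, hi⟩) (η ⟨j, hj⟩)
  have e3 := he (ξ ⟨i, hi⟩) (η ⟨j, hj⟩)
  have e4 := he (η ⟨i, hi⟩) (ξ ⟨j, hj⟩)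
  simp only [(hξ ⟨i, hi⟩).1, (hξ ⟨j, hj⟩).1, (hη ⟨i, hi⟩).1, (hη ⟨j, hj⟩).1, zero_mul, mul_zero, zero_add, add_zero,
    ← hP, ← hQ] at e1 e2 e3 e4
  obtain ⟨T, hT⟩ : ∃ T, T = ∏ k ∈ (Finset.univ.erase i).erase j, d k ⬝ᵥ l k := ⟨_, rfl⟩
  rw [← hT] at e1 e2 e3 e4
  have key : (x * (a i ⬝ᵥ ξ ⟨i, hi⟩ * (a j ⬝ᵥ ξ ⟨j, hj⟩) * P)) * (y * (b i ⬝ᵥ η ⟨i, hi⟩ * (b j ⬝ᵥ η ⟨j, hj⟩) * Q)) = 0 := by
    rw [e1, e2]
    linear_combination (-(d i ⬝ᵥ η ⟨i, hi⟩) * (d j ⬝ᵥ ξ ⟨j, hj⟩) * T) * e3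
  simp only [mul_eq_zero, hx, hy, hP0, hQ0, (hξ ⟨i, hi⟩).2, (hξ ⟨j, hj⟩).2, (hη ⟨i, hi⟩).2, (hη ⟨j, hj⟩).2,
    or_self] at key

theorem exists_not_prop (hm : 2 ≤ m) {u : Fin m → F} (hu : u ≠ 0) : ∃ c : Fin m → F, c ≠ 0 ∧ ∀ r : F, u ≠ r • c := by
  classical
  obtain ⟨i, hi⟩ := Function.ne_iff.1 hu
  haveI : Nontrivial (Fin m) := Fin.nontrivial_iff_two_le.2 hm
  obtain ⟨j, hj⟩ := exists_ne i
  refine ⟨Pi.single j 1, by simp, fun r e => hi ?_⟩
  rw [e]
  simp [hj.symm]

/-- A map without non-eigenvectors is scalar. -/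
theorem exists_moved (hm : 0 < m) {A : GL (Fin m) F} (hA : ∀ c : F, (A : Matrix (Fin m) (Fin m) F) ≠ c • 1) :
    ∃ v : Fin m → F, v ≠ 0 ∧ ∀ r : F, (A : Matrix (Fin m) (Fin m) F) *ᵥ v ≠ r • v := by
  classical
  by_contra hcon
  push Not at hcon
  choose r hr using fun v : {v : Fin m → F // v ≠ 0} => hcon v.1 v.2
  let o : Fin m := ⟨0, hm⟩
  have he : ∀ k : Fin m, (Pi.single k (1 : F) : Fin m → F) ≠ 0 := fun k => by simp
  refine hA (r ⟨_, he o⟩) (Matrix.ext_of_mulVec_single fun k => ?_)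
  rw [Matrix.smul_mulVec, Matrix.one_mulVec, hr ⟨_, he k⟩]
  rcases eq_or_ne k o with rfl | hk
  · rfl
  have hs : (Pi.single k (1 : F) : Fin m → F) + Pi.single o 1 ≠ 0 := fun e => by
    have := congrFun e k
    simp [Pi.single_eq_of_ne hk] at this
  have e := hr ⟨_, hs⟩
  simp only [Matrix.mulVec_add, hr ⟨_, he k⟩, hr ⟨_, he o⟩, smul_add] at e
  have e1 := congrFun e k
  have e2 := congrFun e o
  simp [Pi.single_eq_of_ne hk, Pi.single_eq_of_ne (Ne.symm hk)] at e1 e2
  rw [e1, ← e2]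

/-- A quadratic standard element of the rank of a root element is one. -/
theorem classify (hm : (m = 2 ∧ (2 : F) ≠ 0) ∨ 4 ≤ m) {g : GL (Fin (t + 1) → Fin m) F}
    (hg : g ∈ tensorWreathStandard m (t + 1) F)
    (hsq : ((g : Matrix (Fin (t + 1) → Fin m) (Fin (t + 1) → Fin m) F) - 1) *
      ((g : Matrix (Fin (t + 1) → Fin m) (Fin (t + 1) → Fin m) F) - 1) = 0) (hne : g ≠ 1)
    (hr : ((g : Matrix (Fin (t + 1) → Fin m) (Fin (t + 1) → Fin m) F) - 1).rank ≤ m ^ t) : IsRoot g := by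
  classical
  obtain ⟨p, hp⟩ := CharP.exists F
  haveI : Fact p.Prime := ⟨CharP.char_is_prime F p⟩
  rcases hm with ⟨hm, h2⟩ | hm
  swap
  · exact (TensorPowerMax.classify p (by omega) hg hsq hne hr).resolve_right fun h => by omega
  have hprime : p.Prime := Fact.out
  have hodd : Odd p := hprime.odd_of_ne_two fun e => h2 (by
    subst e; exact_mod_cast CharP.cast_eq_zero F 2)
  have hgp : g ^ p = 1 := by
    refine Units.ext ?_
    haveI : Nonempty (Fin (t + 1) → Fin m) := ⟨fun _ => ⟨0, by omega⟩⟩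
    have e : ((g : Matrix (Fin (t + 1) → Fin m) (Fin (t + 1) → Fin m) F) - 1) ^ p = 0 := by
      rw [show p = 2 + (p - 2) by have := hprime.two_le; omega, pow_add, pow_two, hsq, zero_mul]
    rw [sub_pow_char_of_commute (p := p) (Commute.one_right _), one_pow, sub_eq_zero] at e
    rw [Units.val_pow_eq_pow_val, e, Units.val_one]
  obtain ⟨A, π, rfl⟩ := std_decomp hg
  -- no pure vector is moved in two factors
  have hmove : ∀ c : Fin (t + 1) → Fin m → F, (∀ k, c k ≠ 0) → ∀ i j, i ≠ j →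
      (∀ r : F, (A i : Matrix (Fin m) (Fin m) F) *ᵥ c (π.symm i) ≠ r • c i) →
      (∀ r : F, (A j : Matrix (Fin m) (Fin m) F) *ᵥ c (π.symm j) ≠ r • c j) → False := by
    intro c hc i j hij hi hj
    obtain ⟨G, hG⟩ : ∃ G, G = pureGL A * factorPermGL m F π := ⟨_, rfl⟩
    rw [← hG] at hsq
    let b : Fin (t + 1) → Fin m → F := fun k => (A k : Matrix (Fin m) (Fin m) F) *ᵥ c (π.symm k)
    let d : Fin (t + 1) → Fin m → F := fun k => (A k : Matrix (Fin m) (Fin m) F) *ᵥ b (π.symm k)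
    have e1 : (G : Matrix (Fin (t + 1) → Fin m) (Fin (t + 1) → Fin m) F) *ᵥ pv c = pv b := by rw [hG, std_pv]
    have e2 : (G : Matrix (Fin (t + 1) → Fin m) (Fin (t + 1) → Fin m) F) *ᵥ pv b = pv d := by rw [hG, std_pv]
    have e := congrArg (fun M => M *ᵥ pv c) hsq
    simp only [← Matrix.mulVec_mulVec, Matrix.sub_mulVec, Matrix.one_mulVec, Matrix.mulVec_sub, e1, e2,
      Matrix.zero_mulVec] at e
    refine not_pure_comb h2 hc (fun k e0 => hc (π.symm k) (gl_mulVec_injective (A k)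
      (e0.trans (Matrix.mulVec_zero _).symm))) hij hi hj (neg_ne_zero.2 one_ne_zero) h2 (d := d) ?_
    linear_combination (norm := module) -e
  have hπ : π = 1 := by
    by_contra hπ
    obtain ⟨j, hj⟩ : ∃ j, π j ≠ j := by
      by_contra h
      push Not at h
      exact hπ (Equiv.ext h)
    have hπp : π ^ p = 1 := by
      have hk : ∀ k : ℕ, ∃ B : Fin (t + 1) → GL (Fin m) F,
          (pureGL A * factorPermGL m F π) ^ k = pureGL B * factorPermGL m F (π ^ k) := fun k => by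
        induction k with
        | zero => exact ⟨1, by rw [pow_zero, pow_zero, map_one, perm_one, mul_one]⟩
        | succ k ih =>
          obtain ⟨B, hB⟩ := ih
          refine ⟨B * fun i => A ((π ^ k).symm i), ?_⟩
          rw [pow_succ, hB, pow_succ π, ← perm_mul, map_mul]
          simp only [mul_assoc]
          rw [← mul_assoc (factorPermGL m F (π ^ k)), perm_pure]
          simp only [mul_assoc]
      obtain ⟨B, hB⟩ := hk p
      exact perm_unique (by omega) (A := B) (B := 1) (σ := π ^ p) (τ := 1) (by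
        rw [← hB, hgp, map_one, perm_one, mul_one])
    have hjj : π (π j) ≠ j := fun e => hj (by
      obtain ⟨r, hr⟩ := hodd
      have hit : ∀ s : ℕ, (π ^ (2 * s)) j = j := fun s => by
        induction s with
        | zero => simp
        | succ s ih => rw [show 2 * (s + 1) = 2 * s + 1 + 1 by ring, pow_succ, pow_succ, Equiv.Perm.mul_apply,
            Equiv.Perm.mul_apply, e, ih]
      have := congrArg (fun σ : Equiv.Perm (Fin (t + 1)) => σ j) hπp
      simp only [hr, pow_succ', Equiv.Perm.mul_apply, hit, Equiv.Perm.one_apply] at this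
      exact this)
    obtain ⟨e₀, he₀⟩ : ∃ e₀ : Fin m → F, e₀ ≠ 0 := ⟨Pi.single ⟨0, by omega⟩ 1, by simp⟩
    obtain ⟨c₁, hc₁, hc₁'⟩ := exists_not_prop (by omega : 2 ≤ m) (u := (A (π j) : Matrix (Fin m) (Fin m) F) *ᵥ e₀)
      (fun e => he₀ (gl_mulVec_injective _ (e.trans (Matrix.mulVec_zero _).symm)))
    obtain ⟨c₂, hc₂, hc₂'⟩ := exists_not_prop (by omega : 2 ≤ m) (u := (A (π (π j)) : Matrix (Fin m) (Fin m) F) *ᵥ c₁)
      (fun e => hc₁ (gl_mulVec_injective _ (e.trans (Matrix.mulVec_zero _).symm)))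
    obtain ⟨c, hcdef⟩ : ∃ c : Fin (t + 1) → Fin m → F,
        c = Function.update (Function.update (fun _ => e₀) (π j) c₁) (π (π j)) c₂ := ⟨_, rfl⟩
    have hij : π j ≠ π (π j) := fun e => hj (π.injective e).symm
    have h1 : c j = e₀ := by rw [hcdef, Function.update_of_ne (Ne.symm hjj), Function.update_of_ne (Ne.symm hj)]
    have h1' : c (π j) = c₁ := by rw [hcdef, Function.update_of_ne hij, Function.update_self]
    have h1'' : c (π (π j)) = c₂ := by rw [hcdef, Function.update_self]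
    refine hmove c (fun k => ?_) (π j) (π (π j)) hij (fun r => ?_) (fun r => ?_)
    · rw [hcdef]
      rcases eq_or_ne k (π (π j)) with rfl | h
      · rw [Function.update_self]; exact hc₂
      rw [Function.update_of_ne h]
      rcases eq_or_ne k (π j) with rfl | h'
      · rw [Function.update_self]; exact hc₁
      · rw [Function.update_of_ne h']; exact he₀
    · rw [Equiv.symm_apply_apply, h1, h1']; exact hc₁' r
    · rw [Equiv.symm_apply_apply, h1', h1'']; exact hc₂' r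
  subst hπ
  rw [perm_one, mul_one] at hsq hne ⊢
  by_cases htwo : ∃ i j, i ≠ j ∧ (∀ c : F, (A i : Matrix (Fin m) (Fin m) F) ≠ c • 1) ∧
      ∀ c : F, (A j : Matrix (Fin m) (Fin m) F) ≠ c • 1
  · exfalso
    obtain ⟨i, j, hij, hi, hj⟩ := htwo
    obtain ⟨vi, hvi, hvi'⟩ := exists_moved (by omega) hi
    obtain ⟨vj, hvj, hvj'⟩ := exists_moved (by omega) hj
    obtain ⟨c, hcdef⟩ : ∃ c : Fin (t + 1) → Fin m → F, c = Function.update (fun _ => vi) j vj := ⟨_, rfl⟩
    refine hmove c (fun k => ?_) i j hij (fun r => ?_) (fun r => ?_)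
    · rw [hcdef]
      rcases eq_or_ne k j with rfl | h
      · rwa [Function.update_self]
      · rwa [Function.update_of_ne h]
    · rw [Equiv.Perm.one_symm, Equiv.Perm.one_apply, hcdef, Function.update_of_ne hij]; exact hvi' r
    · rw [Equiv.Perm.one_symm, Equiv.Perm.one_apply, hcdef, Function.update_self]; exact hvj' r
  push Not at htwo
  obtain ⟨i, hi⟩ : ∃ i, ∀ j, j ≠ i → ∃ c : F, (A j : Matrix (Fin m) (Fin m) F) = c • 1 := by
    by_cases h : ∃ i, ∀ c : F, (A i : Matrix (Fin m) (Fin m) F) ≠ c • 1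
    · obtain ⟨i, hi⟩ := h
      exact ⟨i, fun j hj => htwo i j (Ne.symm hj) hi⟩
    · push Not at h
      exact ⟨0, fun j _ => h j⟩
  choose c hc using fun j : {j // j ≠ i} => hi j.1 j.2
  obtain ⟨C, hC⟩ : ∃ C : Fin (t + 1) → F, C = fun j => if h : j = i then 1 else c ⟨j, h⟩ := ⟨_, rfl⟩
  obtain ⟨Y, hY⟩ : ∃ Y, Y = (∏ j, C j) • (A i : Matrix (Fin m) (Fin m) F) := ⟨_, rfl⟩
  have hgv : (pureGL A : Matrix (Fin (t + 1) → Fin m) (Fin (t + 1) → Fin m) F) = facM i Y := by
    rw [hY, facM_smul, facM, pureGL_val, ← pureM_smul]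
    congr 1
    funext j
    rcases eq_or_ne j i with rfl | hj
    · simp [hC]
    · rw [Function.update_of_ne hj, hC]
      simp only [dif_neg hj]
      exact hc ⟨j, hj⟩
  obtain ⟨N, hN⟩ : ∃ N, N = Y - 1 := ⟨_, rfl⟩
  have hgN : (pureGL A : Matrix (Fin (t + 1) → Fin m) (Fin (t + 1) → Fin m) F) - 1 = facM i N := by
    rw [hgv, hN, sub_eq_add_neg Y, show -(1 : Matrix (Fin m) (Fin m) F) = (-1 : F) • 1 by rw [neg_one_smul], facM_add,
      facM_smul, facM_one, neg_one_smul, sub_eq_add_neg]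
  have hN2 : N * N = 0 := by
    refine facM_inj (F := F) (by omega) i ?_
    rw [← facM_mul, ← hgN, hsq]
    ext x y; simp [facM_apply]
  have hN0 : N ≠ 0 := fun e => hne (Units.ext (sub_eq_zero.1 (by
    rw [Units.val_one, hgN, e]; ext x y; simp [facM_apply])))
  obtain ⟨v, hv⟩ : ∃ v, N *ᵥ v ≠ 0 := by
    by_contra! h
    exact hN0 (Matrix.ext_of_mulVec_single fun k => by rw [h, Matrix.zero_mulVec])
  -- rank one in dimension two
  have hker : Module.finrank F ↥(LinearMap.ker N.mulVecLin) ≤ 1 := by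
    by_contra hk
    have : LinearMap.ker N.mulVecLin = ⊤ := Submodule.eq_top_of_finrank_eq (le_antisymm (Submodule.finrank_le _)
      (by rw [Module.finrank_fin_fun]; omega))
    exact hv ((LinearMap.mem_ker (f := N.mulVecLin)).1 (this ▸ Submodule.mem_top))
  have hran : LinearMap.range N.mulVecLin ≤ Submodule.span F {N *ᵥ v} := by
    have hle : LinearMap.range N.mulVecLin ≤ LinearMap.ker N.mulVecLin := by
      rintro _ ⟨x, rfl⟩
      rw [LinearMap.mem_ker, Matrix.mulVecLin_apply, Matrix.mulVecLin_apply, Matrix.mulVec_mulVec, hN2,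
        Matrix.zero_mulVec]
    refine (Submodule.eq_of_le_of_finrank_le ?_ ?_).ge
    · rw [Submodule.span_singleton_le_iff_mem]; exact ⟨v, rfl⟩
    · rw [finrank_span_singleton hv]; exact (Submodule.finrank_mono hle).trans hker
  choose l hl using fun k => Submodule.mem_span_singleton.1 (hran ⟨Pi.single k 1, rfl⟩)
  have hNe : N = vecMulVec (N *ᵥ v) l := Matrix.ext_of_mulVec_single fun k => by
    rw [Matrix.vecMulVec_mulVec, dotProduct_single, mul_one, op_smul_eq_smul]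
    exact (hl k).symm
  refine ⟨i, N *ᵥ v, l, hv, fun e => hN0 (by rw [hNe, e, Matrix.vecMulVec_zero]), ?_, ?_⟩
  · by_contra h
    have e : (l ⬝ᵥ (N *ᵥ v)) • (N *ᵥ v) = 0 := by
      rw [← op_smul_eq_smul, ← Matrix.vecMulVec_mulVec, ← hNe, Matrix.mulVec_mulVec, hN2, Matrix.zero_mulVec]
    exact hv ((smul_eq_zero.1 e).resolve_left h)
  · rw [hgv]
    congr 1
    rw [← hNe, hN, add_sub_cancel]

end Cfsg.Agent.Classical.TensorPowerMax.Symplectic
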