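/-
An element carrying root elements of the tensor power to root elements is standard.
-/
import Cfsg.Agent.Lib.Classical.STPow.Classify

set_option autoImplicit false
set_option linter.unusedSectionVars false

namespace Cfsg.Agent.Classical.TensorPowerMax.Symplectic

open Matrix Cfsg.Geo
open Cfsg.Agent.Classical
open Cfsg.Agent.Classical.TensorPowerMax
open Cfsg.Agent.Classical.TensorPowerMax.Unitary (fl nm)
open Cfsg.Agent.Classical.TensorMax.Form (SForm STv exists_stv exists_avoid Rt)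

variable {F : Type*} [Field F] [Fintype F] {m t : ℕ} {f : (Fin m → F) → (Fin m → F) → F}

theorem mem_std_of_sroots (S : SForm f) (hm : (m = 2 ∧ (2 : F) ≠ 0) ∨ 4 ≤ m)
    (g : GL (Fin (t + 1) → Fin m) F) (h : ∀ j z, SRootAt f j z → IsRoot (g * z * g⁻¹)) :
    g ∈ tensorWreathStandard m (t + 1) F := by
  classical
  have hm0 : 2 ≤ m := by omega
  have hex : ∀ (j : Fin (t + 1)) (o : Fin m → F), o ≠ 0 → ∃ z : GL (Fin (t + 1) → Fin m) F,
      Rt f o 1 ((J j).symm z) ∧ SRootAt f j z := fun j o ho => by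
    obtain ⟨z, -, hR, hz⟩ := exists_srootAt S j ho (one_ne_zero (α := F))
    exact ⟨z, hR, hz⟩
  choose z hzR hzU using hex
  choose s hs using fun j o ho => (h j _ (hzU j o ho) : ∃ k, RootAt k _)
  have hadj : ∀ j o ho o' ho', f o o' ≠ 0 → s j o ho = s j o' ho' := by
    intro j o ho o' ho' hne
    by_contra hne'
    have e := (hs j o ho).commute hne' (hs j o' ho')
    have e' : z j o ho * z j o' ho' = z j o' ho' * z j o ho := by
      simp only [mul_assoc, inv_mul_cancel_left, mul_right_inj] at e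
      rwa [← mul_assoc, ← mul_assoc (z j o' ho'), mul_left_inj] at e
    obtain ⟨b, hb, -, -⟩ := exists_stv S o (1 : F)
    obtain ⟨b', hb', -, -⟩ := exists_stv S o' (1 : F)
    rw [rt_eq_fac (hzR j o ho) hb, rt_eq_fac (hzR j o' ho') hb', ← map_mul, ← map_mul] at e'
    have e'' := facM_inj (F := F) (by omega) j ((facGL_val j _).symm.trans ((congrArg (fun u : GL (Fin (t + 1) → Fin m) F =>
      (u : Matrix (Fin (t + 1) → Fin m) (Fin (t + 1) → Fin m) F)) e').trans (facGL_val j _)))
    have e3 := congrArg (fun M : Matrix (Fin m) (Fin m) F => M *ᵥ o') e''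
    simp only [Units.val_mul, ← Matrix.mulVec_mulVec, hb _, hb' _, S.refl.semi.add_left, S.refl.semi.smul_left, S.alt,
      mul_zero, zero_smul, add_zero] at e3
    have hne2 : f o' o ≠ 0 := fun e0 => hne (S.refl.eq_zero_swap e0)
    have h1 : (f o' o * f o o') • o' = 0 := by linear_combination (norm := module) -e3
    exact smul_ne_zero (mul_ne_zero hne2 hne) ho' h1
  obtain ⟨o₀, ho₀⟩ : ∃ o₀ : Fin m → F, o₀ ≠ 0 := ⟨Pi.single ⟨0, by omega⟩ 1, by simp⟩
  let π : Fin (t + 1) → Fin (t + 1) := fun j => s j o₀ ho₀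
  have hall : ∀ j o ho, s j o ho = π j := by
    intro j o ho
    obtain ⟨w, -, how, how₀⟩ := exists_avoid S (W := ⊥) (u := o) (v := o₀) (by simpa using ho) (by simpa using ho₀)
    have hw : w ≠ 0 := fun e => how (by rw [e, S.refl.zero_right])
    exact (hadj j o ho w hw how).trans (hadj j o₀ ho₀ w hw how₀).symm
  obtain ⟨G, hG⟩ : ∃ G, G = (g : Matrix (Fin (t + 1) → Fin m) (Fin (t + 1) → Fin m) F) := ⟨_, rfl⟩
  have hmap : ∀ j Y, ∃ Y', G * facM j Y = facM (π j) Y' * G := by
    intro j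
    let A : Submodule F (Matrix (Fin m) (Fin m) F) :=
      { carrier := {Y | ∃ Y', G * facM j Y = facM (π j) Y' * G}
        add_mem' := by
          rintro X Y ⟨X', hX⟩ ⟨Y', hY⟩
          exact ⟨X' + Y', by rw [facM_add, facM_add, mul_add, add_mul, hX, hY]⟩
        zero_mem' := ⟨(0 : F) • 1, by
          rw [show (0 : Matrix (Fin m) (Fin m) F) = (0 : F) • 1 from (zero_smul _ _).symm, facM_smul, facM_smul,
            zero_smul, zero_smul, mul_zero, zero_mul]⟩
        smul_mem' := by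
          rintro c X ⟨X', hX⟩
          exact ⟨c • X', by rw [facM_smul, facM_smul, mul_smul_comm, smul_mul_assoc, hX]⟩ }
    refine alg_top S A (fun X Y => ?_) fun o ho => ?_
    · rintro ⟨X', hX⟩ ⟨Y', hY⟩
      exact ⟨X' * Y', by rw [← facM_mul, ← facM_mul, ← mul_assoc, hX, mul_assoc, hY, mul_assoc]⟩
    · obtain ⟨v, l, -, -, -, hv⟩ := hs j o ho
      rw [hall j o ho] at hv
      have h1 : (1 : Matrix (Fin m) (Fin m) F) ∈ A := ⟨1, by rw [facM_one, facM_one, mul_one, one_mul]⟩
      obtain ⟨b, hb, -, -⟩ := exists_stv S o (1 : F)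
      have hr : (b : Matrix (Fin m) (Fin m) F) ∈ A := ⟨1 + vecMulVec v l, by
        rw [← hv, Units.val_mul, Units.val_mul, ← hG, Matrix.mul_assoc, hG, Units.inv_mul, Matrix.mul_one,
          rt_eq_fac (hzR j o ho) hb, facGL_val]⟩
      have := A.sub_mem hr h1
      rwa [stv_val S hb, one_smul, add_sub_cancel_left] at this
  refine mem_std_of_roots hm0 (Nat.succ_pos t) g fun i a b hab => ?_
  obtain ⟨Y, hY⟩ := hmap i (1 + Matrix.single a b 1)
  obtain ⟨w, hw⟩ : ∃ w, w = g * stdRoot (F := F) i hab * g⁻¹ := ⟨_, rfl⟩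
  have hwv : (w : Matrix (Fin (t + 1) → Fin m) (Fin (t + 1) → Fin m) F) = facM (π i) Y := by
    rw [hw, Units.val_mul, Units.val_mul, stdRoot_val, ← hG, hY, Matrix.mul_assoc, hG, Units.mul_inv, Matrix.mul_one]
  haveI : Nonempty (Fin m) := ⟨⟨0, by omega⟩⟩
  have hYu : IsUnit Y := by
    refine (Matrix.isUnit_iff_isUnit_det _).2 ?_
    have hd : IsUnit (facM (π i) Y).det := (Matrix.isUnit_iff_isUnit_det _).1 (hwv ▸ w.isUnit)
    rw [det_facM, isUnit_pow_iff (pow_ne_zero _ (by omega))] at hd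
    exact hd
  have hwf : w = facGL (π i) hYu.unit := Units.ext (by rw [facGL_val, IsUnit.unit_spec, hwv])
  have hsq : ((w : Matrix (Fin (t + 1) → Fin m) (Fin (t + 1) → Fin m) F) - 1) *
      ((w : Matrix (Fin (t + 1) → Fin m) (Fin (t + 1) → Fin m) F) - 1) = 0 := hw ▸ conj_sq g _ (rootAt_std i hab).sq
  have hrank : ((w : Matrix (Fin (t + 1) → Fin m) (Fin (t + 1) → Fin m) F) - 1).rank = m ^ t := by
    rw [hw, rank_conj, (rootAt_std i hab).rank (by omega)]
  have hne : w ≠ 1 := fun e => by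
    rw [e, Units.val_one, sub_self, Matrix.rank_zero] at hrank
    exact absurd hrank.symm (pow_ne_zero _ (by omega))
  rw [← hw]
  exact classify hm (hwf ▸ facGL_mem _ _) hsq hne hrank.le

end Cfsg.Agent.Classical.TensorPowerMax.Symplectic
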