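/-
Overgroups of the factor groups with scalar central operators; Kronecker products in them are standard.
-/
import Cfsg.Agent.Lib.Classical.STPow.Roots
import Cfsg.Agent.Lib.Classical.TensorMax.Form.UCentre
import Cfsg.Agent.Lib.Classical.TensorMax.Form.OSlot

set_option autoImplicit false
set_option linter.unusedSectionVars false

namespace Cfsg.Agent.Classical.TensorPowerMax.Symplectic

open Matrix Cfsg.Geo
open Cfsg.Agent.Classical
open Cfsg.Agent.Classical.TensorPowerMax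
open Cfsg.Agent.Classical.TensorPowerMax.Unitary (tp fl nm kr_iso)
open Cfsg.Agent.Classical.TensorMax (kr kr_val kr_mul kr_one kr_inv)
open Cfsg.Agent.Classical.TensorMax.Form (SForm CenOp Rt tm tf ctr Data kr_tm tf_tm tm_apply Slot InS SCtx tgen_iso
  ext_pure ctr_tm)
open scoped Kronecker

variable {F : Type*} [Field F] [Fintype F] {m t : ℕ} {f : (Fin m → F) → (Fin m → F) → F}
  {X : Subgroup (GL (Fin (t + 1) → Fin m) F)}

local notation "idF" => RingEquiv.refl F

/-- All central radical operators are scalar. -/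
def Cen (f : (Fin m → F) → (Fin m → F) → F) (X : Subgroup (GL (Fin (t + 1) → Fin m) F)) : Prop :=
  ∀ (i : Fin (t + 1)) (o : Fin m → F) (φ : ((Fin t → Fin m) → F) → (Fin t → Fin m) → F), o ≠ 0 →
    CenOp f (XI X i) o φ → ∃ l : F, ∀ v, φ v = l • v

/-- All slots of two perpendicular centres are scalar. -/
def SlotScal (f : (Fin m → F) → (Fin m → F) → F) (X : Subgroup (GL (Fin (t + 1) → Fin m) F)) : Prop :=
  ∀ (i : Fin (t + 1)) (φ : Matrix (Fin t → Fin m) (Fin t → Fin m) F),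
    InS (tp (RingEquiv.refl F) f t) f (XI X i) φ → ∃ l : F, φ = l • 1

/-- The statement for fewer factors. -/
def Small (f : (Fin m → F) → (Fin m → F) → F) (t : ℕ) : Prop :=
  ∀ s, t = s + 1 → ∀ X : Subgroup (GL (Fin (s + 1) → Fin m) F), Ks f (s + 1) ≤ X → X ≤ Iso f (s + 1) → Cen f X →
    ((2 : F) ≠ 0 ∨ (6 ≤ m ∧ SlotScal f X)) → X ≤ tensorWreathStandard m (s + 1) F

/-- An overgroup with scalar central operators. -/
structure Over (f : (Fin m → F) → (Fin m → F) → F) (X : Subgroup (GL (Fin (t + 1) → Fin m) F)) : Prop where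
  sf : SForm f
  hc : (2 : F) ≠ 0 ∨ (6 ≤ m ∧ SlotScal f X)
  hm : m = 2 ∨ 4 ≤ m
  hex : ¬ (Fintype.card F = 3 ∧ m = 2)
  ht : 0 < t
  le : Ks f (t + 1) ≤ X
  iso : X ≤ Iso f (t + 1)
  cen : Cen f X
  ih : Small f t

theorem Over.two_le (H : Over f X) : 2 ≤ m := by rcases H.hm with h | h <;> omega

theorem Over.h2 (H : Over f X) (hm2 : m = 2) : (2 : F) ≠ 0 := H.hc.resolve_right fun h => by omega

theorem Over.hm' (H : Over f X) : (m = 2 ∧ (2 : F) ≠ 0) ∨ 4 ≤ m := H.hm.imp_left fun h => ⟨h, H.h2 h⟩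

theorem J_kr_fac (i : Fin (t + 1)) (j : Fin t) (b : GL (Fin m) F) :
    J i (kr (facGL j b) (1 : GL (Fin m) F)) = facGL (i.succAbove j) b := by
  show J i (kr (pureGL (Pi.mulSingle j b)) 1) = pureGL (Pi.mulSingle (i.succAbove j) b)
  rw [J_kr_pure]
  congr 1
  funext k
  rcases Fin.eq_self_or_eq_succAbove i k with rfl | ⟨k, rfl⟩
  · rw [Fin.insertNth_apply_same, Pi.mulSingle_eq_of_ne (Fin.ne_succAbove k j)]
  · rw [Fin.insertNth_apply_succAbove]
    simp only [Pi.mulSingle_apply, i.succAbove_right_injective.eq_iff]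

theorem Over.iso' (H : Over f X) (i : Fin (t + 1)) {g : GL ((Fin t → Fin m) × Fin m) F} (hg : g ∈ XI X i)
    (x y : (Fin t → Fin m) × Fin m → F) :
    tf idF (tp idF f t) f ((g : Matrix ((Fin t → Fin m) × Fin m) ((Fin t → Fin m) × Fin m) F) *ᵥ x)
      ((g : Matrix ((Fin t → Fin m) × Fin m) ((Fin t → Fin m) × Fin m) F) *ᵥ y) = tf idF (tp idF f t) f x y :=
  (mem_iso_iff i).1 (H.iso hg) x y

theorem Over.right (H : Over f X) (i : Fin (t + 1)) {b : GL (Fin m) F}
    (hb : ∀ u v, f ((b : Matrix (Fin m) (Fin m) F) *ᵥ u) ((b : Matrix (Fin m) (Fin m) F) *ᵥ v) = f u v) :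
    kr (1 : GL (Fin t → Fin m) F) b ∈ XI X i := by
  rw [mem_XI, J_kr_right]
  exact H.le (facGL_mem_ks i hb)

theorem Over.left (H : Over f X) (i : Fin (t + 1)) {a : GL (Fin t → Fin m) F} (ha : a ∈ Ks f t) :
    kr a (1 : GL (Fin m) F) ∈ XI X i := by
  induction ha using Subgroup.closure_induction with
  | mem a ha =>
    obtain ⟨j, b, hb, rfl⟩ := ha
    rw [mem_XI, J_kr_fac]
    exact H.le (facGL_mem_ks _ hb)
  | one => rw [kr_one]; exact one_mem _
  | mul a b _ _ ha hb =>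
    rw [show kr (a * b) (1 : GL (Fin m) F) = kr a 1 * kr b 1 by rw [kr_mul, one_mul]]
    exact mul_mem ha hb
  | inv a _ ha =>
    rw [show kr a⁻¹ (1 : GL (Fin m) F) = (kr a 1)⁻¹ by rw [kr_inv, inv_one]]
    exact inv_mem ha

/-- A Kronecker product with an elementary map. -/
theorem kron_nm {α : Type} [Fintype α] [DecidableEq α] (S : SForm f) (M : Matrix α α F) (o : Fin m → F) (x : α × Fin m → F) :
    (M ⊗ₖ nm f o) *ᵥ x = tm (M *ᵥ ctr f o x) o := by
  funext p
  simp only [Matrix.mulVec, dotProduct, kroneckerMap_apply, Fintype.sum_prod_type, tm_apply, Finset.sum_mul, nm,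
    vecMulVec_apply, ctr]
  refine Finset.sum_congr rfl fun a _ => ?_
  rw [← fl_dot S, dotProduct, Finset.mul_sum, Finset.sum_mul]
  exact Finset.sum_congr rfl fun b _ => by simp only [TensorMax.Form.row]; ring

/-- A central element in coordinates. -/
theorem cen_entries (S : SForm f) {g : GL ((Fin t → Fin m) × Fin m) F} {o : Fin m → F}
    {M : Matrix (Fin t → Fin m) (Fin t → Fin m) F} :
    (∀ x, (g : Matrix ((Fin t → Fin m) × Fin m) ((Fin t → Fin m) × Fin m) F) *ᵥ x = x + tm (M *ᵥ ctr f o x) o) ↔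
      (g : Matrix ((Fin t → Fin m) × Fin m) ((Fin t → Fin m) × Fin m) F) = 1 + M ⊗ₖ nm f o := by
  have key : ∀ x, (M ⊗ₖ nm f o) *ᵥ x = tm (M *ᵥ ctr f o x) o := fun x => kron_nm S M o x
  refine ⟨fun h => Matrix.toLin'.injective (LinearMap.ext fun x => ?_), fun h x => ?_⟩
  · rw [Matrix.toLin'_apply, Matrix.toLin'_apply, h, Matrix.add_mulVec, Matrix.one_mulVec, key]
  · rw [h, Matrix.add_mulVec, Matrix.one_mulVec, key]

/-- A central operator is linear. -/
theorem cen_linear {g : GL ((Fin t → Fin m) × Fin m) F} (S : SForm f) {o : Fin m → F} (ho : o ≠ 0)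
    {φ : ((Fin t → Fin m) → F) → (Fin t → Fin m) → F}
    (hg : ∀ x, (g : Matrix ((Fin t → Fin m) × Fin m) ((Fin t → Fin m) × Fin m) F) *ᵥ x = x + tm (φ (ctr f o x)) o) :
    ∃ M : Matrix (Fin t → Fin m) (Fin t → Fin m) F, ∀ v, φ v = M *ᵥ v := by
  have D := data S t
  obtain ⟨o', ho'⟩ := TensorMax.Form.partner D ho
  obtain ⟨k₀, hk₀⟩ := Function.ne_iff.mp ho
  have hφ : ∀ v, φ v = fun i => ((g : Matrix ((Fin t → Fin m) × Fin m) ((Fin t → Fin m) × Fin m) F) *ᵥ tm v o' - tm v o') (i, k₀) / o k₀ :=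
    fun v => funext fun i => by
      rw [hg, TensorMax.Form.ctr_tm D, ho', one_smul, add_sub_cancel_left, tm_apply, mul_div_cancel_right₀ _ hk₀]
  let L : ((Fin t → Fin m) → F) →ₗ[F] ((Fin t → Fin m) → F) :=
    { toFun := φ
      map_add' := fun a b => by
        rw [hφ, hφ, hφ]
        funext i
        simp [TensorMax.Form.tm_add_left, Matrix.mulVec_add, add_div, sub_div]
        ring
      map_smul' := fun r a => by
        rw [hφ, hφ]
        funext i
        simp [TensorMax.Form.tm_smul_left, Matrix.mulVec_smul]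
        ring }
  exact ⟨LinearMap.toMatrix' L, fun v => by rw [← Matrix.toLin'_apply, Matrix.toLin'_toMatrix']; rfl⟩

/-- An element of the other factors at one of them, with an identity inserted. -/
theorem lift_left {s : ℕ} {X : Subgroup (GL (Fin (s + 1 + 1) → Fin m) F)} (i : Fin (s + 1 + 1))
    {G : Subgroup (GL (Fin (s + 1) → Fin m) F)} (hG : ∀ c ∈ G, kr c (1 : GL (Fin m) F) ∈ XI X i) (j : Fin (s + 1)) :
    ∃ (k : Fin (s + 1 + 1)) (r : Fin (s + 1)), ∀ g ∈ XI G j, ∃ G' ∈ XI X k, ∀ u a v b,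
      (G' : Matrix ((Fin (s + 1) → Fin m) × Fin m) ((Fin (s + 1) → Fin m) × Fin m) F) (u, a) (v, b) =
        (g : Matrix ((Fin s → Fin m) × Fin m) ((Fin s → Fin m) × Fin m) F) (u ∘ r.succAbove, a) (v ∘ r.succAbove, b) *
          if u r = v r then 1 else 0 := by
  classical
  obtain ⟨k, hk⟩ : ∃ k, k = i.succAbove j := ⟨_, rfl⟩
  obtain ⟨r, hr⟩ := Fin.exists_succAbove_eq (x := i) (y := k) (by rw [hk]; exact Fin.ne_succAbove i j)
  have hrange : Set.range (k.succAbove ∘ r.succAbove) = Set.range (i.succAbove ∘ j.succAbove) := by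
    rw [Set.range_comp, Set.range_comp, Fin.range_succAbove, Fin.range_succAbove,
      Set.image_compl_eq_range_diff_image Fin.succAbove_right_injective,
      Set.image_compl_eq_range_diff_image Fin.succAbove_right_injective, Fin.range_succAbove, Fin.range_succAbove,
      Set.image_singleton, Set.image_singleton, hr, ← hk]
    ext x
    simp [and_comm]
  have hπ : ∀ l, k.succAbove (r.succAbove l) = i.succAbove (j.succAbove l) := congrFun
    ((StrictMono.range_inj ((Fin.strictMono_succAbove k).comp (Fin.strictMono_succAbove r))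
      ((Fin.strictMono_succAbove i).comp (Fin.strictMono_succAbove j))).1 hrange)
  refine ⟨k, r, fun g hg => ?_⟩
  obtain ⟨G', hG'⟩ := (J (F := F) k).surjective (J i (kr (J j g) 1))
  refine ⟨G', by rw [mem_XI, hG']; exact hG _ hg, fun u a v b => ?_⟩
  have e := congrFun (congrFun (congrArg (fun z : GL (Fin (s + 1 + 1) → Fin m) F =>
    (z : Matrix (Fin (s + 1 + 1) → Fin m) (Fin (s + 1 + 1) → Fin m) F)) hG') (spl k (u, a))) (spl k (v, b))
  rw [J_apply, Equiv.symm_apply_apply, Equiv.symm_apply_apply, J_apply, spl_symm_apply, spl_symm_apply, kr_val,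
    kroneckerMap_apply, J_apply, spl_symm_apply, spl_symm_apply] at e
  rw [e]
  have hi : ∀ (w : Fin (s + 1) → Fin m) (c : Fin m), spl k (w, c) i = w r := fun w c => by
    conv_lhs => rw [← hr]
    simp [spl]
  have hj : ∀ (w : Fin (s + 1) → Fin m) (c : Fin m), spl k (w, c) (i.succAbove j) = c := fun w c => by
    rw [← hk]; simp [spl]
  have hl : ∀ (w : Fin (s + 1) → Fin m) (c : Fin m) l,
      spl k (w, c) (i.succAbove (j.succAbove l)) = w (r.succAbove l) := fun w c l => by rw [← hπ l]; simp [spl]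
  simp only [hi, hj, hl, Matrix.one_apply, Units.val_one, Function.comp_def]

/-- The inserted identity on a product. -/
theorem lift_kron {s : ℕ} (r : Fin (s + 1)) (M : Matrix (Fin s → Fin m) (Fin s → Fin m) F)
    (N : Matrix (Fin m) (Fin m) F) (u v : Fin (s + 1) → Fin m) (a b : Fin m) :
    (M ⊗ₖ N) (u ∘ r.succAbove, a) (v ∘ r.succAbove, b) * (if u r = v r then (1 : F) else 0) =
      (Emb r 1 M ⊗ₖ N) (u, a) (v, b) := by
  obtain ⟨⟨u', c⟩, rfl⟩ := (spl r).surjective u
  obtain ⟨⟨v', d⟩, rfl⟩ := (spl r).surjective v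
  simp only [kroneckerMap_apply, emb_apply, Matrix.one_apply]
  simp [spl, Function.comp_def]

theorem emb_one_one {s : ℕ} (r : Fin (s + 1)) :
    Emb r (1 : Matrix (Fin m) (Fin m) F) (1 : Matrix (Fin s → Fin m) (Fin s → Fin m) F) = 1 := by
  rw [emb_one, facM_one]

/-- An inserted scalar. -/
theorem of_emb_eq_smul {s : ℕ} (hm : 0 < m) (r : Fin (s + 1)) {M : Matrix (Fin s → Fin m) (Fin s → Fin m) F} {l : F}
    (h : Emb r 1 M = l • 1) : M = l • 1 := by
  ext x y
  have e := congrFun (congrFun h (spl r (x, ⟨0, hm⟩))) (spl r (y, ⟨0, hm⟩))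
  rw [emb_apply, Matrix.one_apply_eq, mul_one, Matrix.smul_apply, Matrix.one_apply] at e
  rw [e, Matrix.smul_apply, Matrix.one_apply]
  simp [(spl r).injective.eq_iff]

/-- The elements of the other factors have scalar central operators. -/
theorem cen_left {s : ℕ} {X : Subgroup (GL (Fin (s + 1 + 1) → Fin m) F)} (H : Over f X) (i : Fin (s + 1 + 1))
    {G : Subgroup (GL (Fin (s + 1) → Fin m) F)} (hG : ∀ c ∈ G, kr c (1 : GL (Fin m) F) ∈ XI X i) : Cen f G := by
  intro j o φ ho hφ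
  obtain ⟨g, hg, hgx⟩ := hφ
  obtain ⟨M, hM⟩ := cen_linear H.sf ho hgx
  simp only [hM] at hgx
  rw [cen_entries H.sf] at hgx
  obtain ⟨k, r, hlift⟩ := lift_left i hG j
  obtain ⟨G', hG', hv⟩ := hlift g hg
  have hG'v : (G' : Matrix ((Fin (s + 1) → Fin m) × Fin m) ((Fin (s + 1) → Fin m) × Fin m) F) =
      1 + Emb r 1 M ⊗ₖ nm f o := by
    ext ⟨u, a⟩ ⟨v, b⟩
    rw [hv, hgx, ← Matrix.one_kronecker_one, Matrix.add_apply, add_mul, lift_kron, lift_kron, emb_one_one,
      Matrix.one_kronecker_one, Matrix.add_apply]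
  obtain ⟨l, hl⟩ := H.cen k o (fun v => Emb r 1 M *ᵥ v) ho ⟨G', hG', (cen_entries H.sf).2 hG'v⟩
  refine ⟨l, fun v => ?_⟩
  rw [hM, of_emb_eq_smul (M := M) (l := l) (by have := H.two_le; omega) r (Matrix.toLin'.injective (LinearMap.ext fun v => by
    rw [Matrix.toLin'_apply, Matrix.toLin'_apply, hl, Matrix.smul_mulVec, Matrix.one_mulVec])),
    Matrix.smul_mulVec, Matrix.one_mulVec]

theorem kron_vmv {α : Type} [Fintype α] [DecidableEq α] (S : SForm f) (M : Matrix α α F) (a b : Fin m → F)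
    (x : α × Fin m → F) : (M ⊗ₖ vecMulVec a (fl f b)) *ᵥ x = tm (M *ᵥ ctr f b x) a := by
  funext p
  simp only [Matrix.mulVec, dotProduct, kroneckerMap_apply, Fintype.sum_prod_type, tm_apply, Finset.sum_mul,
    vecMulVec_apply, ctr]
  refine Finset.sum_congr rfl fun i _ => ?_
  rw [← fl_dot S, dotProduct, Finset.mul_sum, Finset.sum_mul]
  exact Finset.sum_congr rfl fun k _ => by simp only [TensorMax.Form.row]; ring

/-- An element with two centres as a matrix. -/
theorem slot_entries (S : SForm f) {g : GL ((Fin t → Fin m) × Fin m) F} {o z : Fin m → F}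
    {A B : Matrix (Fin t → Fin m) (Fin t → Fin m) F} :
    (∀ a w, (g : Matrix ((Fin t → Fin m) × Fin m) ((Fin t → Fin m) × Fin m) F) *ᵥ tm a w =
        tm a w + f w o • tm (A *ᵥ a) z + f w z • tm (B *ᵥ a) o) ↔
      (g : Matrix ((Fin t → Fin m) × Fin m) ((Fin t → Fin m) × Fin m) F) =
        1 + A ⊗ₖ vecMulVec z (fl f o) + B ⊗ₖ vecMulVec o (fl f z) := by
  have key : ∀ a w, (1 + A ⊗ₖ vecMulVec z (fl f o) + B ⊗ₖ vecMulVec o (fl f z)) *ᵥ tm a w =
      tm a w + f w o • tm (A *ᵥ a) z + f w z • tm (B *ᵥ a) o := fun a w => by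
    rw [Matrix.add_mulVec, Matrix.add_mulVec, Matrix.one_mulVec, kron_vmv S, kron_vmv S, ctr_tm (data S t),
      ctr_tm (data S t), Matrix.mulVec_smul, Matrix.mulVec_smul, TensorMax.Form.tm_smul_left,
      TensorMax.Form.tm_smul_left]
  refine ⟨fun h => Matrix.toLin'.injective (LinearMap.ext fun x => ?_), fun h a w => by rw [h, key]⟩
  rw [Matrix.toLin'_apply, Matrix.toLin'_apply]
  exact ext_pure (fun a w => (h a w).trans (key a w).symm) x

/-- The adjoint of an operator with an inserted identity. -/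
theorem adj_emb (S : SForm f) {s : ℕ} (r : Fin (s + 1)) (φ : Matrix (Fin s → Fin m) (Fin s → Fin m) F) :
    formAdj idF (tp idF f (s + 1)) (Emb r 1 φ) = Emb r 1 (formAdj idF (tp idF f s) φ) := by
  have D := data S s
  have hre : ∀ (M : Matrix (Fin s → Fin m) (Fin s → Fin m) F) (x : (Fin (s + 1) → Fin m) → F),
      (Emb r 1 M *ᵥ x) ∘ spl r = (M ⊗ₖ (1 : Matrix (Fin m) (Fin m) F)) *ᵥ (x ∘ spl r) := fun M x => by
    rw [Emb, Matrix.reindex_apply, Matrix.submatrix_mulVec_equiv, Equiv.symm_symm, Function.comp_assoc,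
      Equiv.symm_comp_self, Function.comp_id]
  have hctr : ∀ (M : Matrix (Fin s → Fin m) (Fin s → Fin m) F) (X : (Fin s → Fin m) × Fin m → F) w,
      ctr f w ((M ⊗ₖ (1 : Matrix (Fin m) (Fin m) F)) *ᵥ X) = M *ᵥ ctr f w X := fun M X w => by
    funext i
    have e : TensorMax.Form.row ((M ⊗ₖ (1 : Matrix (Fin m) (Fin m) F)) *ᵥ X) i =
        ∑ j, M i j • TensorMax.Form.row X j := by
      funext k
      simp only [TensorMax.Form.row, Finset.sum_apply, Pi.smul_apply, smul_eq_mul, Matrix.mulVec, dotProduct,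
        kroneckerMap_apply, Fintype.sum_prod_type, Matrix.one_apply, mul_ite, ite_mul, mul_one, mul_zero, zero_mul,
        Finset.sum_ite_eq, Finset.mem_univ, if_true]
    simp only [ctr, e, S.refl.sum_left, S.refl.semi.smul_left, Matrix.mulVec, dotProduct]
  refine (tp_refl S (s + 1)).adj_unique fun x y => ?_
  rw [Unitary.tp_spl r, Unitary.tp_spl r, hre, hre, TensorMax.Form.sum_rows (y ∘ spl r), Matrix.mulVec_sum]
  have hsum : ∀ (Z : (Fin s → Fin m) × Fin m → F) (g : (Fin s → Fin m) → (Fin s → Fin m) × Fin m → F),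
      tf idF (tp idF f s) f Z (∑ i, g i) = ∑ i, tf idF (tp idF f s) f Z (g i) := fun Z g => by
    have := TensorMax.Form.tf_semi D
    induction (Finset.univ : Finset (Fin s → Fin m)) using Finset.induction_on with
    | empty =>
      rw [Finset.sum_empty, Finset.sum_empty, ← zero_smul F (0 : (Fin s → Fin m) × Fin m → F), this.smul_right,
        map_zero, zero_mul]
    | insert a T ha ih => rw [Finset.sum_insert ha, Finset.sum_insert ha, this.add_right, ih]
  rw [hsum, hsum]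
  refine Finset.sum_congr rfl fun i _ => ?_
  rw [show (formAdj idF (tp idF f s) φ ⊗ₖ (1 : Matrix (Fin m) (Fin m) F)) *ᵥ
      tm (Pi.single i 1) (TensorMax.Form.row (y ∘ spl r) i) =
      tm (formAdj idF (tp idF f s) φ *ᵥ Pi.single i 1) (TensorMax.Form.row (y ∘ spl r) i) by
    rw [show tm (Pi.single i (1 : F)) (TensorMax.Form.row (y ∘ spl r) i) = (fun p : (Fin s → Fin m) × Fin m =>
      (Pi.single i (1 : F) : (Fin s → Fin m) → F) p.1 * TensorMax.Form.row (y ∘ spl r) i p.2) from rfl,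
      TensorPowerMax.kron_mulVec, Matrix.one_mulVec]
    rfl, TensorMax.Form.tf_tm_right D, TensorMax.Form.tf_tm_right D, hctr, (tp_refl S s).adj_spec]

/-- The elements of the other factors have scalar slots. -/
theorem slotScal_left {s : ℕ} {X : Subgroup (GL (Fin (s + 1 + 1) → Fin m) F)} (S : SForm f) (hm : 0 < m)
    (hX : SlotScal f X) (i : Fin (s + 1 + 1)) {G : Subgroup (GL (Fin (s + 1) → Fin m) F)}
    (hG : ∀ c ∈ G, kr c (1 : GL (Fin m) F) ∈ XI X i) : SlotScal f G := by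
  intro j φ hφ
  obtain ⟨k, r, hlift⟩ := lift_left i hG j
  obtain ⟨l, hl⟩ := hX k (Emb r 1 φ) fun o z ho hoz hz => by
    obtain ⟨g, hg, hgx⟩ := hφ o z ho hoz hz
    rw [slot_entries S] at hgx
    obtain ⟨G', hG', hv⟩ := hlift g hg
    refine ⟨G', hG', (slot_entries S).2 ?_⟩
    rw [adj_emb S]
    ext ⟨u, a⟩ ⟨v, b⟩
    rw [hv, hgx, ← Matrix.one_kronecker_one, Matrix.add_apply, Matrix.add_apply, add_mul, add_mul, lift_kron,
      lift_kron, lift_kron, emb_one_one, Matrix.one_kronecker_one, Matrix.add_apply, Matrix.add_apply]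
  exact ⟨l, of_emb_eq_smul hm r hl⟩

/-- The left part of an isometric Kronecker product is a similitude. -/
theorem sim_left (S : SForm f) (hm : 0 < m) {i : Fin (t + 1)} {a : GL (Fin t → Fin m) F} {b : GL (Fin m) F}
    (h : J i (kr a b) ∈ Iso f (t + 1)) : ∃ μ : F, μ ≠ 0 ∧ ∀ x y,
      tp idF f t ((a : Matrix (Fin t → Fin m) (Fin t → Fin m) F) *ᵥ x) ((a : Matrix (Fin t → Fin m) (Fin t → Fin m) F) *ᵥ y) =
        μ * tp idF f t x y := by
  have D := data S t
  obtain ⟨w, hw⟩ : ∃ w : Fin m → F, w ≠ 0 := ⟨Pi.single ⟨0, hm⟩ 1, by simp⟩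
  obtain ⟨v, hv, -⟩ := exists_partner S hw
  obtain ⟨ν, hν⟩ : ∃ ν, ν = f ((b : Matrix (Fin m) (Fin m) F) *ᵥ v) ((b : Matrix (Fin m) (Fin m) F) *ᵥ w) := ⟨_, rfl⟩
  have hsim : ∀ x y, tp idF f t ((a : Matrix (Fin t → Fin m) (Fin t → Fin m) F) *ᵥ x)
      ((a : Matrix (Fin t → Fin m) (Fin t → Fin m) F) *ᵥ y) * ν = tp idF f t x y := fun x y => by
    have e := (mem_iso_iff i).1 h (tm x v) (tm y w)
    rwa [kr_tm, kr_tm, tf_tm D, tf_tm D, hv, mul_one, ← hν] at e
  have hν0 : ν ≠ 0 := fun e0 => by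
    obtain ⟨x, hx⟩ : ∃ x : (Fin t → Fin m) → F, x ≠ 0 := ⟨Pi.single (fun _ => ⟨0, hm⟩) 1, by simp⟩
    obtain ⟨y, hy⟩ := ((tp_refl S t).nondeg x hx).2
    exact hy (by rw [← hsim x y, e0, mul_zero])
  exact ⟨ν⁻¹, inv_ne_zero hν0, fun x y => by rw [← hsim x y, mul_comm _ ν, inv_mul_cancel_left₀ hν0]⟩

/-- A Kronecker product in the overgroup is standard. -/
theorem Over.kr_std (H : Over f X) (i : Fin (t + 1)) {a : GL (Fin t → Fin m) F} {b : GL (Fin m) F}
    (hab : kr a b ∈ XI X i) : J i (kr a b) ∈ tensorWreathStandard m (t + 1) F := by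
  classical
  have S := H.sf
  have hm := H.two_le
  obtain ⟨s, rfl⟩ : ∃ s, t = s + 1 := ⟨t - 1, by have := H.ht; omega⟩
  refine J_kr_mem i ?_ b
  let G : Subgroup (GL (Fin (s + 1) → Fin m) F) :=
    (XI X i).comap (MonoidHom.mk' (fun c => kr c (1 : GL (Fin m) F)) (fun c d => by rw [kr_mul, mul_one])) ⊓ Iso f (s + 1)
  have hGs : G ≤ tensorWreathStandard m (s + 1) F :=
    H.ih s rfl G (fun c hc => ⟨H.left i hc, ks_le_iso S _ hc⟩) inf_le_right (cen_left H i fun c hc => hc.1)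
      (H.hc.imp_right fun h => ⟨h.1, slotScal_left S (by omega) h.2 i fun c hc => hc.1⟩)
  obtain ⟨μ, hμ, hsim⟩ := sim_left S (by omega) (H.iso hab)
  refine mem_std_of_sroots S H.hm' a fun j z hz => ?_
  have hzG : a * z * a⁻¹ ∈ G := by
    refine ⟨?_, fun x y => mul_left_cancel₀ (inv_ne_zero hμ) ?_⟩
    · show kr (a * z * a⁻¹) (1 : GL (Fin m) F) ∈ XI X i
      rw [show kr (a * z * a⁻¹) (1 : GL (Fin m) F) = kr a b * kr z 1 * (kr a b)⁻¹ by
        rw [kr_inv, kr_mul, kr_mul, mul_one, mul_inv_cancel]]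
      exact mul_mem (mul_mem hab (H.left i (hz.mem_ks S))) (inv_mem hab)
    · simp only [gl_mul_mulVec]
      rw [hsim, ks_le_iso S _ (hz.mem_ks S)]
      conv_rhs => rw [← gl_mulVec_inv_cancel a x, ← gl_mulVec_inv_cancel a y, hsim]
  refine classify H.hm' (hGs hzG) (conj_sq a z (hz.rootAt S).sq) (fun e => ?_)
    (by rw [rank_conj, (hz.rootAt S).rank (by omega)])
  exact (hz.rootAt S).not_scalar hm 1 (by rw [conj_eq_one_iff.mp e, Units.val_one, one_smul])

end Cfsg.Agent.Classical.TensorPowerMax.Symplectic
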