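/-
The radical of a fibre: its operators are scalar.
-/
import Cfsg.Agent.Lib.Classical.STPow.Over
import Cfsg.Agent.Lib.Classical.UTPow.Fibres

set_option autoImplicit false
set_option linter.unusedSectionVars false

namespace Cfsg.Agent.Classical.TensorPowerMax.Symplectic

open Matrix Cfsg.Geo
open Cfsg.Agent.Classical
open Cfsg.Agent.Classical.TensorPowerMax
open Cfsg.Agent.Classical.TensorPowerMax.Unitary (tp tp_spl fl nm)
open Cfsg.Agent.Classical.TensorMax (kr kr_val kr_mul kr_one kr_inv Kr)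
open Cfsg.Agent.Classical.TensorMax.Form (SForm STv exists_stv tgen_iso tmove tmove_one tm tf ctr Data CenOp exists_uel
  exists_rt uel_fix uel_mid kr_tm ctr_tm ctr_add ctr_sub ctr_smul ctr_eq eq_tm_of_ctr tf_tm tf_tm_left tf_tm_right tf_semi
  tm_apply tm_add_left tm_add_right tm_sub_left tm_sub_right tm_smul_left tm_smul_right tm_zero_left tm_zero_right
  partner sum_rows)
open scoped Kronecker

variable {F : Type*} [Field F] [Fintype F] {m t : ℕ} {f : (Fin m → F) → (Fin m → F) → F}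
  {X : Subgroup (GL (Fin (t + 1) → Fin m) F)}

local notation "idF" => RingEquiv.refl F
local notation:max g:max " ⬝ₘ " x:max =>
  ((g : GL ((Fin t → Fin m) × Fin m) F) : Matrix ((Fin t → Fin m) × Fin m) ((Fin t → Fin m) × Fin m) F) *ᵥ x

theorem nm_conj (S : SForm f) {b : GL (Fin m) F}
    (hb : ∀ u v, f ((b : Matrix (Fin m) (Fin m) F) *ᵥ u) ((b : Matrix (Fin m) (Fin m) F) *ᵥ v) = f u v) (u : Fin m → F) :
    (b : Matrix (Fin m) (Fin m) F) * nm f u * ((b⁻¹ : GL (Fin m) F) : Matrix (Fin m) (Fin m) F) =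
      nm f ((b : Matrix (Fin m) (Fin m) F) *ᵥ u) :=
  Matrix.toLin'.injective (LinearMap.ext fun x => by
    simp only [Matrix.toLin'_apply, ← Matrix.mulVec_mulVec, nm_mulVec S, Matrix.mulVec_smul]
    rw [← hb, gl_mulVec_inv_cancel])

/-- An invariant family with scalar anticommutators vanishes on the diagonal of a factor. -/
theorem diag_zero {s : ℕ} (S : SForm f) (h2 : (2 : F) ≠ 0) (hm : 4 ≤ m)
    (P : Matrix ((Fin s → Fin m) × Fin m) ((Fin s → Fin m) × Fin m) F → Prop)
    (hadd : ∀ {K L}, P K → P L → P (K + L)) (hneg : ∀ {K}, P K → P (-K))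
    (hleft : ∀ h ∈ Ks f s, ∀ {K}, P K → P ((kr h (1 : GL (Fin m) F) : GL ((Fin s → Fin m) × Fin m) F).1 * K *
      ((kr h (1 : GL (Fin m) F))⁻¹ : GL ((Fin s → Fin m) × Fin m) F).1))
    (hright : ∀ b : GL (Fin m) F,
      (∀ u v, f ((b : Matrix (Fin m) (Fin m) F) *ᵥ u) ((b : Matrix (Fin m) (Fin m) F) *ᵥ v) = f u v) →
      ∀ {K}, P K → P ((kr (1 : GL (Fin s → Fin m) F) b : GL ((Fin s → Fin m) × Fin m) F).1 * K *
        ((kr (1 : GL (Fin s → Fin m) F) b)⁻¹ : GL ((Fin s → Fin m) × Fin m) F).1))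
    (hanti : ∀ {K L}, P K → P L → ∃ l : F, K * L + L * K = l • 1)
    {K : Matrix ((Fin s → Fin m) × Fin m) ((Fin s → Fin m) × Fin m) F} (hK : P K) (u : Fin m → F)
    (v : (Fin s → Fin m) → F) : ctr f u (K *ᵥ tm v u) = 0 := by
  classical
  have D := data S s
  by_cases hu : u = 0
  · rw [hu, tm_zero_right, Matrix.mulVec_zero]
    funext x
    exact S.refl.zero_right _
  let L₀ : ((Fin s → Fin m) → F) →ₗ[F] ((Fin s → Fin m) → F) :=
    { toFun := fun v => ctr f u (K *ᵥ tm v u)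
      map_add' := fun a b => by rw [tm_add_left, Matrix.mulVec_add, ctr_add D]
      map_smul' := fun c a => by rw [tm_smul_left, Matrix.mulVec_smul, ctr_smul D, RingHom.id_apply] }
  obtain ⟨B, hB⟩ : ∃ B, B = LinearMap.toMatrix' L₀ := ⟨_, rfl⟩
  have hBv : ∀ v, B *ᵥ v = ctr f u (K *ᵥ tm v u) := fun v => by
    rw [hB, ← Matrix.toLin'_apply, Matrix.toLin'_toMatrix']; rfl
  suffices hB0 : B = 0 by rw [← hBv, hB0, Matrix.zero_mulVec]
  -- the second difference along a transvection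
  obtain ⟨P₁, hP₁⟩ : ∃ P₁, P₁ = (1 : Matrix (Fin s → Fin m) (Fin s → Fin m) F) ⊗ₖ nm f u := ⟨_, rfl⟩
  have hP₁2 : P₁ * P₁ = 0 := by rw [hP₁, ← Matrix.mul_kronecker_mul, nm_sq S, Matrix.kronecker_zero]
  have hPKP : P₁ * K * P₁ = B ⊗ₖ nm f u := Matrix.toLin'.injective (LinearMap.ext fun x => by
    rw [Matrix.toLin'_apply, Matrix.toLin'_apply, ← Matrix.mulVec_mulVec, ← Matrix.mulVec_mulVec, hP₁, kron_nm S,
      kron_nm S, kron_nm S, Matrix.one_mulVec, Matrix.one_mulVec, hBv])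
  obtain ⟨b, hb, -, hbi⟩ := exists_stv S u (1 : F)
  obtain ⟨g, hg⟩ : ∃ g : GL ((Fin s → Fin m) × Fin m) F, g = kr 1 b := ⟨_, rfl⟩
  have hgv : (g : Matrix ((Fin s → Fin m) × Fin m) ((Fin s → Fin m) × Fin m) F) = 1 + P₁ := by
    rw [hg, kr_val, stv_val S hb, one_smul, Units.val_one, Matrix.kronecker_add, Matrix.one_kronecker_one, hP₁]
    rfl
  have hgi : ((g⁻¹ : GL ((Fin s → Fin m) × Fin m) F) : Matrix ((Fin s → Fin m) × Fin m) ((Fin s → Fin m) × Fin m) F) =
      1 - P₁ := Units.inv_eq_of_mul_eq_one_right (by rw [hgv]; exact one_add_sq_inv hP₁2)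
  have hbi' : ∀ x y, f (((b⁻¹ : GL (Fin m) F) : Matrix (Fin m) (Fin m) F) *ᵥ x)
      (((b⁻¹ : GL (Fin m) F) : Matrix (Fin m) (Fin m) F) *ᵥ y) = f x y := fun x y => by
    conv_rhs => rw [← gl_mulVec_inv_cancel b x, ← gl_mulVec_inv_cancel b y, hbi]
  have hK₁ : P ((-2 : F) • (B ⊗ₖ nm f u)) := by
    have h1 := hright b hbi hK
    have h3 := hright b⁻¹ hbi' hK
    rw [show kr (1 : GL (Fin s → Fin m) F) b⁻¹ = g⁻¹ by rw [hg, kr_inv, inv_one]] at h3
    rw [inv_inv] at h3
    rw [← hg] at h1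
    have := hadd (hadd h1 h3) (hadd (hneg hK) (hneg hK))
    convert this using 1
    rw [← hPKP, hgv, hgi]
    simp only [add_mul, mul_add, sub_mul, mul_sub, one_mul, mul_one, neg_smul, two_smul]
    abel
  obtain ⟨v₁, hv₁, hv₁'⟩ := exists_partner S hu
  have hv₁0 : v₁ ≠ 0 := fun e => one_ne_zero (hv₁.symm.trans (by rw [e, S.refl.zero_left]))
  obtain ⟨w, hw0, hwu, hwv⟩ : ∃ w, w ≠ 0 ∧ f w u = 0 ∧ f w v₁ = 0 := by
    let L : (Fin m → F) →ₗ[F] F × F :=
      { toFun := fun w => (f w u, f w v₁)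
        map_add' := fun a b => by simp [S.refl.semi.add_left]
        map_smul' := fun c a => by simp [S.refl.semi.smul_left] }
    obtain ⟨w, hw, hw0⟩ := Submodule.exists_mem_ne_zero_of_ne_bot (p := LinearMap.ker L) fun e => by
      have e1 := LinearMap.finrank_range_add_finrank_ker L
      have e2 := Submodule.finrank_le (LinearMap.range L)
      rw [e, finrank_bot, Module.finrank_fin_fun] at e1
      rw [Module.finrank_prod, Module.finrank_self] at e2
      omega
    rw [LinearMap.mem_ker] at hw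
    exact ⟨w, hw0, congrArg Prod.fst hw, congrArg Prod.snd hw⟩
  obtain ⟨c, hc, hcu⟩ := tmove_one S hu hv₁0
  have hci := (tgen_iso S hc).2
  have hBB : ∀ h ∈ Ks f s, B * (h : Matrix (Fin s → Fin m) (Fin s → Fin m) F) * B = 0 := by
    intro h hh
    obtain ⟨B', hB'⟩ : ∃ B', B' = (h : Matrix (Fin s → Fin m) (Fin s → Fin m) F) * B *
        ((h⁻¹ : GL (Fin s → Fin m) F) : Matrix (Fin s → Fin m) (Fin s → Fin m) F) := ⟨_, rfl⟩
    have hL : P ((-2 : F) • (B' ⊗ₖ nm f v₁)) := by
      have := hleft h hh (hright c hci hK₁)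
      convert this using 1
      rw [hB', ← hcu, ← nm_conj S hci, kr_inv, kr_inv, inv_one, inv_one]
      simp only [kr_val, Units.val_one, Matrix.mul_smul, Matrix.smul_mul, ← Matrix.mul_kronecker_mul, one_mul, mul_one]
    obtain ⟨l, hl⟩ := hanti hK₁ hL
    have hev : ∀ (x : (Fin s → Fin m) → F) (y : Fin m → F),
        ((4 : F) * (f y v₁ * f v₁ u)) • tm ((B * B') *ᵥ x) u +
          ((4 : F) * (f y u * f u v₁)) • tm ((B' * B) *ᵥ x) v₁ = l • tm x y := fun x y => by
      have e := congrArg (fun M => M *ᵥ tm x y) hl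
      simp only [Matrix.add_mulVec, ← Matrix.mulVec_mulVec, Matrix.smul_mulVec, Matrix.mulVec_smul, kron_nm S,
        Matrix.one_mulVec, ctr_tm D, tm_smul_left, Matrix.mulVec_smul] at e
      rw [← e, ← Matrix.mulVec_mulVec, ← Matrix.mulVec_mulVec]
      module
    obtain ⟨x₀, hx₀⟩ : ∃ x : (Fin s → Fin m) → F, x ≠ 0 :=
      ⟨Pi.single (fun _ => ⟨0, by omega⟩) 1, by simp⟩
    have hl0 : l = 0 := by
      have e := hev x₀ w
      rw [hwu, hwv] at e
      simp only [zero_mul, mul_zero, zero_smul, add_zero] at e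
      exact (smul_eq_zero.1 e.symm).resolve_right (TensorMax.Form.tm_ne_zero hx₀ hw0)
    have hBB' : B * B' = 0 := Matrix.toLin'.injective (LinearMap.ext fun x => by
      have e := hev x u
      rw [hl0, S.alt u, hv₁, hv₁', zero_smul] at e
      simp only [zero_mul, mul_zero, zero_smul, add_zero] at e
      have h4 : (4 : F) * (-1 * 1) ≠ 0 := by
        rw [show (4 : F) = 2 * 2 by norm_num]
        exact mul_ne_zero (mul_ne_zero h2 h2) (by simp)
      rw [Matrix.toLin'_apply, map_zero, LinearMap.zero_apply]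
      exact (TensorMax.Form.tm_eq_zero ((smul_eq_zero.1 e).resolve_left h4)).resolve_right hu)
    have e := congrArg (fun M => M * (h : Matrix (Fin s → Fin m) (Fin s → Fin m) F)) hBB'
    simp only [zero_mul, hB', Matrix.mul_assoc, Units.inv_mul, Matrix.mul_one] at e
    rwa [← Matrix.mul_assoc] at e
  -- a subspace invariant under the factors
  by_contra hB0
  obtain ⟨W, hW⟩ : ∃ W, W = Submodule.span F {y | ∃ h ∈ Ks f s, ∃ x,
      y = (h : Matrix (Fin s → Fin m) (Fin s → Fin m) F) *ᵥ (B *ᵥ x)} := ⟨_, rfl⟩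
  have hker : W ≤ LinearMap.ker B.mulVecLin := by
    rw [hW, Submodule.span_le]
    rintro _ ⟨h, hh, x, rfl⟩
    rw [SetLike.mem_coe, LinearMap.mem_ker, Matrix.mulVecLin_apply, Matrix.mulVec_mulVec, Matrix.mulVec_mulVec,
      hBB h hh, Matrix.zero_mulVec]
  have hinv : ∀ g ∈ Ks f s, ∀ y ∈ W, (g : Matrix (Fin s → Fin m) (Fin s → Fin m) F) *ᵥ y ∈ W := by
    intro g hg y hy
    rw [hW] at hy ⊢
    induction hy using Submodule.span_induction with
    | mem y hy =>
      obtain ⟨h, hh, x, rfl⟩ := hy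
      exact Submodule.subset_span ⟨g * h, mul_mem hg hh, x, by rw [gl_mul_mulVec]⟩
    | zero => rw [Matrix.mulVec_zero]; exact Submodule.zero_mem _
    | add a b _ _ ha hb => rw [Matrix.mulVec_add]; exact Submodule.add_mem _ ha hb
    | smul r a _ ha => rw [Matrix.mulVec_smul]; exact Submodule.smul_mem _ r ha
  obtain ⟨x, hx⟩ : ∃ x, B *ᵥ x ≠ 0 := by
    by_contra! hh
    exact hB0 (Matrix.ext_of_mulVec_single fun i => by rw [hh, Matrix.zero_mulVec])
  have hne : W ≠ ⊥ := fun e => hx (by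
    have : B *ᵥ x ∈ W := hW ▸ Submodule.subset_span ⟨1, one_mem _, x, by rw [Units.val_one, Matrix.one_mulVec]⟩
    rwa [e, Submodule.mem_bot] at this)
  exact hx ((LinearMap.mem_ker (f := B.mulVecLin)).1 (hker (irreducible S hinv hne ▸ Submodule.mem_top (x := x))))

/-- A skew map alternating in every factor vanishes. -/
theorem skew_zero (S : SForm f) (h2 : (2 : F) ≠ 0) {K : Matrix (Fin t → Fin m) (Fin t → Fin m) F}
    (hskew : ∀ x y, tp idF f t (K *ᵥ x) y + tp idF f t x (K *ᵥ y) = 0)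
    (halt : ∀ (a : Fin t) (x y : Fin t → Fin m), tp idF f t (K *ᵥ Pi.single x 1) (Pi.single y 1) =
      -tp idF f t (K *ᵥ Pi.single (Function.update x a (y a)) 1) (Pi.single (Function.update y a (x a)) 1)) : K = 0 := by
  classical
  obtain ⟨β, hβ⟩ : ∃ β : (Fin t → Fin m) → (Fin t → Fin m) → F,
      β = fun x y => tp idF f t (K *ᵥ Pi.single x 1) (Pi.single y 1) := ⟨_, rfl⟩
  have hall : ∀ (T : Finset (Fin t)) x y, β x y = (-1) ^ T.card * β (fun k => if k ∈ T then y k else x k)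
      (fun k => if k ∈ T then x k else y k) := by
    intro T
    induction T using Finset.induction_on with
    | empty => intro x y; simp
    | insert a T ha ih =>
      intro x y
      rw [ih x y, Finset.card_insert_of_notMem ha]
      conv_lhs => rw [hβ]; simp only; rw [halt a]
      rw [pow_succ, hβ]
      simp only [mul_neg, mul_one, neg_mul]
      congr 2
      congr 1
      · congr 1
        congr 1
        funext k
        rcases eq_or_ne k a with rfl | hk
        · simp [ha]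
        · simp [hk]
      · congr 1
        funext k
        rcases eq_or_ne k a with rfl | hk
        · simp [ha]
        · simp [hk]
  have hflip : ∀ x y, β x y = (-1) ^ t * β y x := fun x y => by
    rw [hall Finset.univ x y]; simp
  have hsw : ∀ x y, β x y = -((-1) ^ t * β y x) := fun x y => by
    have e := hskew (Pi.single x 1) (Pi.single y 1)
    rw [(tp_refl S t).swap (K *ᵥ Pi.single y 1) (Pi.single x 1), RingEquiv.refl_apply] at e
    rw [hβ]
    linear_combination e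
  refine Matrix.ext_of_mulVec_single fun x => ?_
  rw [Matrix.zero_mulVec]
  by_contra hne
  obtain ⟨z, hz⟩ := ((tp_refl S t).nondeg _ hne).2
  refine hz ?_
  rw [pi_eq_sum_univ' z]
  have hsum : ∀ (T : Finset (Fin t → Fin m)), tp idF f t (K *ᵥ Pi.single x 1) (∑ y ∈ T, z y • Pi.single y 1) = 0 := by
    intro T
    induction T using Finset.induction_on with
    | empty => rw [Finset.sum_empty, (tp_refl S t).zero_right]
    | insert y T hy ih =>
      rw [Finset.sum_insert hy, (tp_refl S t).semi.add_right, ih, add_zero, (tp_refl S t).semi.smul_right]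
      have e : β x y = 0 := (mul_eq_zero.1 (show 2 * β x y = 0 by linear_combination hflip x y + hsw x y)).resolve_left h2
      rw [hβ] at e
      simp only at e
      rw [e, mul_zero]
  exact hsum _

/-- The middle operator attached to a vector. -/
def Mid (f : (Fin m → F) → (Fin m → F) → F) (X : Subgroup (GL (Fin (t + 1) → Fin m) F)) (i : Fin (t + 1))
    (o y : Fin m → F) (K : Matrix (Fin t → Fin m) (Fin t → Fin m) F) : Prop :=
  ∃ h ∈ XI X i, (∀ a, h ⬝ₘ (tm a o) = tm a o) ∧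
    ∀ a w, f w o = 0 → h ⬝ₘ (tm a w) = tm a w + tm (f w y • (K *ᵥ a)) o

theorem Mid.add {i : Fin (t + 1)} {o y : Fin m → F} {K L : Matrix (Fin t → Fin m) (Fin t → Fin m) F}
    (hK : Mid f X i o y K) (hL : Mid f X i o y L) : Mid f X i o y (K + L) := by
  obtain ⟨h, hh, h1, h2⟩ := hK
  obtain ⟨k, hk, k1, k2⟩ := hL
  refine ⟨h * k, mul_mem hh hk, fun a => by rw [gl_mul_mulVec, k1, h1], fun a w hw => ?_⟩
  rw [gl_mul_mulVec, k2 a w hw, Matrix.mulVec_add, h1, h2 a w hw, Matrix.add_mulVec, smul_add, tm_add_left, add_assoc]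

theorem Mid.neg {i : Fin (t + 1)} {o y : Fin m → F} {K : Matrix (Fin t → Fin m) (Fin t → Fin m) F}
    (hK : Mid f X i o y K) : Mid f X i o y (-K) := by
  obtain ⟨h, hh, h1, h2⟩ := hK
  have hi : ∀ a, h⁻¹ ⬝ₘ (tm a o) = tm a o := fun a => by conv_lhs => rw [← h1 a, gl_inv_mulVec_cancel]
  refine ⟨h⁻¹, inv_mem hh, hi, fun a w hw => gl_mulVec_injective h ?_⟩
  show h ⬝ₘ (h⁻¹ ⬝ₘ (tm a w)) = h ⬝ₘ (tm a w + tm (f w y • ((-K) *ᵥ a)) o)
  rw [gl_mulVec_inv_cancel, Matrix.mulVec_add, h2 a w hw, h1, Matrix.neg_mulVec, smul_neg, ← neg_smul,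
    tm_smul_left, tm_smul_left]
  module

theorem Mid.scal (H : Over f X) (i : Fin (t + 1)) {o : Fin m → F} {y : Fin m → F} (hy : f y o = 0) (ρ : F) :
    Mid f X i o y (ρ • (1 : Matrix (Fin t → Fin m) (Fin t → Fin m) F)) := by
  have S := H.sf
  have D := data S t
  obtain ⟨b, -, hbi, hU⟩ := exists_uel (α := Fin t → Fin m) D (w := ρ • y) (c := 0) (S.alt o)
    (by rw [S.refl.semi.smul_left, hy, mul_zero]) (by rw [S.alt]; simp)
  refine ⟨kr 1 b, H.right i hbi, fun a => uel_fix D (S.alt o) (by rw [S.refl.semi.smul_left, hy, mul_zero]) hU a,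
    fun a w hw => ?_⟩
  rw [uel_mid D hU hw, S.smul_right, Matrix.smul_mulVec, Matrix.one_mulVec, smul_smul, RingEquiv.refl_apply]
  congr 3
  ring

theorem Mid.left (H : Over f X) {i : Fin (t + 1)} {o y : Fin m → F} {K : Matrix (Fin t → Fin m) (Fin t → Fin m) F}
    (hK : Mid f X i o y K) {c : GL (Fin t → Fin m) F} (hc : c ∈ Ks f t) :
    Mid f X i o y ((c : Matrix (Fin t → Fin m) (Fin t → Fin m) F) * K *
      ((c⁻¹ : GL (Fin t → Fin m) F) : Matrix (Fin t → Fin m) (Fin t → Fin m) F)) := by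
  obtain ⟨h, hh, h1, h2⟩ := hK
  have hn := H.left i hc
  refine ⟨kr c 1 * h * (kr c 1)⁻¹, mul_mem (mul_mem hn hh) (inv_mem hn), fun a => ?_, fun a w hw => ?_⟩
  · rw [kr_inv, inv_one, gl_mul_mulVec, gl_mul_mulVec, kr_tm, Units.val_one, Matrix.one_mulVec, h1, kr_tm,
      gl_mulVec_inv_cancel, Units.val_one, Matrix.one_mulVec]
  · rw [kr_inv, inv_one, gl_mul_mulVec, gl_mul_mulVec, kr_tm, Units.val_one, Matrix.one_mulVec, h2 _ w hw,
      Matrix.mulVec_add, kr_tm, kr_tm, gl_mulVec_inv_cancel, Units.val_one, Matrix.one_mulVec, Matrix.one_mulVec,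
      Matrix.mulVec_smul, ← Matrix.mulVec_mulVec, ← Matrix.mulVec_mulVec]

theorem Mid.transfer (H : Over f X) {i : Fin (t + 1)} {o y y' : Fin m → F}
    {K : Matrix (Fin t → Fin m) (Fin t → Fin m) F} (hK : Mid f X i o y K) (hy : f y o = 0)
    (hy' : f y' o = 0) (hyo : y ∉ Submodule.span F {o}) (hyo' : y' ∉ Submodule.span F {o}) :
    Mid f X i o y' K := by
  have S := H.sf
  obtain ⟨h, hh, h1, h2⟩ := hK
  obtain ⟨b, hb, hby, hbo⟩ := tmove S (W := Submodule.span F {o}) hyo hyo' fun x hx => by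
    obtain ⟨r, rfl⟩ := Submodule.mem_span_singleton.mp hx
    rw [S.refl.semi.smul_left, S.refl.semi.smul_left, S.refl.eq_zero_swap hy, S.refl.eq_zero_swap hy']
  have hbi := (tgen_iso S hb).2
  have hbo' := hbo o (Submodule.mem_span_singleton_self o)
  have hibo : ((b⁻¹ : GL (Fin m) F) : Matrix (Fin m) (Fin m) F) *ᵥ o = o := by
    conv_lhs => rw [← hbo', gl_inv_mulVec_cancel]
  have hn := H.right i hbi
  refine ⟨kr 1 b * h * (kr 1 b)⁻¹, mul_mem (mul_mem hn hh) (inv_mem hn), fun a => ?_, fun a w hw => ?_⟩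
  · rw [kr_inv, inv_one, gl_mul_mulVec, gl_mul_mulVec, kr_tm, Units.val_one, Matrix.one_mulVec, hibo, h1, kr_tm,
      Units.val_one, Matrix.one_mulVec, hbo']
  · have hw' : f (((b⁻¹ : GL (Fin m) F) : Matrix (Fin m) (Fin m) F) *ᵥ w) o = 0 := by
      rw [← hbi, gl_mulVec_inv_cancel, hbo', hw]
    rw [kr_inv, inv_one, gl_mul_mulVec, gl_mul_mulVec, kr_tm, Units.val_one, Matrix.one_mulVec, h2 _ _ hw',
      Matrix.mulVec_add, kr_tm, kr_tm, gl_mulVec_inv_cancel, Units.val_one, Matrix.one_mulVec, Matrix.one_mulVec, hbo']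
    congr 3
    rw [← hbi, gl_mulVec_inv_cancel, hby]

/-- Anticommutators of middle operators are central. -/
theorem Mid.anti (H : Over f X) {i : Fin (t + 1)} {o y y' : Fin m → F} (ho : o ≠ 0) (hy : f y o = 0)
    (hy' : f y' o = 0) (hne : f y y' ≠ 0) {K L : Matrix (Fin t → Fin m) (Fin t → Fin m) F}
    (hK : Mid f X i o y K) (hL : Mid f X i o y' L)
    (hKs : ∀ u v, tp idF f t (K *ᵥ u) v + tp idF f t u (K *ᵥ v) = 0)
    (hLs : ∀ u v, tp idF f t (L *ᵥ u) v + tp idF f t u (L *ᵥ v) = 0) : ∃ l : F, K * L + L * K = l • 1 := by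
  classical
  have S := H.sf
  have D := data S t
  have UA := tp_refl S t
  obtain ⟨o', ho', -⟩ := exists_partner S ho
  -- an element moves the partner fibre inside a plane
  have hform : ∀ (h : GL ((Fin t → Fin m) × Fin m) F) (y : Fin m → F) (M : Matrix (Fin t → Fin m) (Fin t → Fin m) F),
      h ∈ XI X i → (∀ a, h ⬝ₘ (tm a o) = tm a o) →
      (∀ a w, f w o = 0 → h ⬝ₘ (tm a w) = tm a w + tm (f w y • (M *ᵥ a)) o) →
      (∀ u v, tp idF f t (M *ᵥ u) v + tp idF f t u (M *ᵥ v) = 0) →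
      ∀ a, ∃ ψ, h ⬝ₘ (tm a o') = tm a o' - tm (M *ᵥ a) y + tm ψ o := by
    intro h y M hh h1 h2 hs a
    obtain ⟨ψ, hψ⟩ := eq_tm_of_ctr D (S := o) (x := h ⬝ₘ (tm a o') - tm a o' + tm (M *ᵥ a) y) fun w hw => by
      refine ctr_eq D fun b => ?_
      have e0 : ∀ b, tf idF (tp idF f t) f (h ⬝ₘ (tm a o')) (tm b o) = tp idF f t a b := fun b => by
        rw [← h1 b, H.iso' i hh, tf_tm D, ho', mul_one]
      have e1 := H.iso' i hh (tm a o') (tm b w)
      rw [h2 b w hw, (tf_semi D).add_right, tm_smul_left, (tf_semi D).smul_right, e0, RingEquiv.refl_apply, tf_tm D] at e1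
      rw [sub_eq_add_neg, (tf_semi D).add_left, (tf_semi D).add_left, ← neg_one_smul F (tm a o'),
        (tf_semi D).smul_left, tf_tm D, tf_tm D, UA.zero_left, S.swap w y]
      linear_combination e1 + (-(f w y)) * hs a b
    exact ⟨ψ, by rw [← hψ]; abel⟩
  obtain ⟨h, hh, h1, h2⟩ := id hK
  obtain ⟨k, hk, k1, k2⟩ := id hL
  have hfix : ∀ x, ctr f o x = 0 → (h * k) ⬝ₘ x = (k * h) ⬝ₘ x := fun x hx => by
    rw [sum_rows x, Matrix.mulVec_sum, Matrix.mulVec_sum]
    refine Finset.sum_congr rfl fun r _ => ?_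
    have hr : f (TensorMax.Form.row x r) o = 0 := congrFun hx r
    rw [gl_mul_mulVec, gl_mul_mulVec, k2 _ _ hr, h2 _ _ hr, Matrix.mulVec_add, Matrix.mulVec_add, h1, k1, h2 _ _ hr,
      k2 _ _ hr]
    abel
  obtain ⟨c, hc⟩ : ∃ c, c = h * k * (k * h)⁻¹ := ⟨_, rfl⟩
  have hcX : c ∈ XI X i := hc ▸ mul_mem (mul_mem hh hk) (inv_mem (mul_mem hk hh))
  have hkh : ∀ x, ctr f o ((k * h) ⬝ₘ x) = ctr f o x := fun x => ctr_eq D fun a => by
    rw [← tf_tm_right D, ← H.iso' i (mul_mem hk hh) x (tm a o), gl_mul_mulVec k h (tm a o), h1, k1]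
  have hφ : ∀ x, c ⬝ₘ x = x + tm (f y y' • ((K * L + L * K) *ᵥ ctr f o x)) o := by
    intro x
    obtain ⟨x', rfl⟩ : ∃ x', x = (k * h) ⬝ₘ x' := ⟨_, (gl_mulVec_inv_cancel (k * h) x).symm⟩
    rw [hc, gl_mul_mulVec, gl_inv_mulVec_cancel, hkh]
    obtain ⟨a, ha⟩ : ∃ a, a = ctr f o x' := ⟨_, rfl⟩
    rw [← ha]
    obtain ⟨ψ, hψ⟩ := hform h y K hh h1 h2 hKs a
    obtain ⟨χ, hχ⟩ := hform k y' L hk k1 k2 hLs a
    have e0 := hfix (x' - tm a o') (by rw [ctr_sub D, ctr_tm D, ho', one_smul, ha, sub_self])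
    have e1 : (h * k) ⬝ₘ (tm a o') = (k * h) ⬝ₘ (tm a o') + tm (f y y' • ((K * L + L * K) *ᵥ a)) o := by
      rw [gl_mul_mulVec, gl_mul_mulVec, hχ, hψ, Matrix.mulVec_add, Matrix.mulVec_sub, Matrix.mulVec_add,
        Matrix.mulVec_sub, h1, k1, hψ, hχ, h2 _ _ hy', k2 _ _ hy, Matrix.add_mulVec, ← Matrix.mulVec_mulVec,
        ← Matrix.mulVec_mulVec, S.swap y y', smul_add, tm_add_left]
      simp only [tm_smul_left]
      module
    rw [Matrix.mulVec_sub, Matrix.mulVec_sub, e1] at e0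
    linear_combination (norm := module) e0
  obtain ⟨l, hl⟩ := H.cen i o (fun v => f y y' • ((K * L + L * K) *ᵥ v)) ho ⟨c, hcX, hφ⟩
  refine ⟨(f y y')⁻¹ * l, Matrix.toLin'.injective (LinearMap.ext fun v => ?_)⟩
  rw [Matrix.toLin'_apply, Matrix.toLin'_apply, Matrix.smul_mulVec, Matrix.one_mulVec, ← smul_smul, ← hl v, smul_smul,
    inv_mul_cancel₀ hne, one_smul]

/-- Skew middle operators vanish. -/
theorem Mid.skew_eq_zero (H : Over f X) (h2 : (2 : F) ≠ 0) (hm : 4 ≤ m) {i : Fin (t + 1)} {o y : Fin m → F} (ho : o ≠ 0) (hy : f y o = 0)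
    (hyo : y ∉ Submodule.span F {o}) {K : Matrix (Fin t → Fin m) (Fin t → Fin m) F}
    (hK : Mid f X i o y K) (hKs : ∀ u v, tp idF f t (K *ᵥ u) v + tp idF f t u (K *ᵥ v) = 0) : K = 0 := by
  classical
  have S := H.sf
  obtain ⟨s, rfl⟩ : ∃ s, t = s + 1 := ⟨t - 1, by have := H.ht; omega⟩
  obtain ⟨d, hd, hdy⟩ : ∃ d, f d o = 0 ∧ f y d ≠ 0 := by
    by_contra hcon
    push Not at hcon
    refine hyo ?_
    rw [← S.refl.perp_perp (Submodule.span F {o})]
    exact fun w hw => hcon w (hw o (Submodule.mem_span_singleton_self o))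
  have hdo : d ∉ Submodule.span F {o} := fun e => hdy (by
    obtain ⟨r, rfl⟩ := Submodule.mem_span_singleton.mp e
    rw [S.smul_right, hy, mul_zero])
  refine skew_zero S h2 hKs fun a x z => ?_
  let P : Matrix ((Fin s → Fin m) × Fin m) ((Fin s → Fin m) × Fin m) F → Prop := fun M =>
    Mid f X i o y (Matrix.reindex (spl a) (spl a) M) ∧
      ∀ u v, tp idF f (s + 1) (Matrix.reindex (spl a) (spl a) M *ᵥ u) v +
        tp idF f (s + 1) u (Matrix.reindex (spl a) (spl a) M *ᵥ v) = 0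
  have hre : ∀ M N : Matrix ((Fin s → Fin m) × Fin m) ((Fin s → Fin m) × Fin m) F,
      Matrix.reindex (spl a) (spl a) (M * N) = Matrix.reindex (spl a) (spl a) M * Matrix.reindex (spl a) (spl a) N :=
    fun M N => by simp only [← Matrix.coe_reindexAlgEquiv F F, map_mul]
  have hconj : ∀ c : GL ((Fin s → Fin m) × Fin m) F, J a c ∈ Ks f (s + 1) → ∀ {M}, P M →
      P (c.1 * M * (c⁻¹).1) := by
    intro c hc M hM
    have e : Matrix.reindex (spl a) (spl a) (c.1 * M * (c⁻¹).1) = (J a c).1 * Matrix.reindex (spl a) (spl a) M *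
        ((J a c)⁻¹).1 := by rw [hre, hre, ← map_inv, J_val, J_val]
    refine ⟨e ▸ hM.1.left H hc, fun u v => ?_⟩
    rw [e]
    simp only [← Matrix.mulVec_mulVec]
    have hci : ∀ p r, tp idF f (s + 1) ((J a c).1 *ᵥ p) r = tp idF f (s + 1) p (((J a c)⁻¹).1 *ᵥ r) := fun p r => by
      conv_lhs => rw [← gl_mulVec_inv_cancel (J a c) r]
      exact ks_le_iso S _ hc p _
    have hci' : ∀ p r, tp idF f (s + 1) p ((J a c).1 *ᵥ r) = tp idF f (s + 1) (((J a c)⁻¹).1 *ᵥ p) r := fun p r => by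
      conv_lhs => rw [← gl_mulVec_inv_cancel (J a c) p]
      exact ks_le_iso S _ hc _ r
    rw [hci, hci']
    exact hM.2 _ _
  have hβ : ∀ (v v' : (Fin s → Fin m) → F) (u u' : Fin m → F),
      tp idF f (s + 1) (K *ᵥ tens a v u) (tens a v' u') + tp idF f (s + 1) (K *ᵥ tens a v u') (tens a v' u) = 0 := by
    intro v v' u u'
    have h0 : ∀ w, tp idF f (s + 1) (K *ᵥ tens a v w) (tens a v' w) = 0 := fun w => by
      have hz := diag_zero S h2 hm P (fun {M N} hM hN => ⟨?_, ?_⟩) (fun {M} hM => ⟨?_, ?_⟩)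
        (fun h hh {M} hM => hconj _ ?_ hM) (fun b hb {M} hM => hconj _ ?_ hM) (fun {M N} hM hN => ?_)
        (K := K.submatrix (spl a) (spl a)) ?_ w v
      · rw [Unitary.tens_tm, Unitary.tens_tm, tp_spl a]
        have e : (K *ᵥ (tm v w ∘ (spl a).symm)) ∘ (spl a) = K.submatrix (spl a) (spl a) *ᵥ tm v w := by
          rw [Matrix.submatrix_mulVec_equiv]
        rw [e, Function.comp_assoc, Equiv.symm_comp_self, Function.comp_id, tf_tm_right (data S s), hz,
          (tp_refl S s).zero_left]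
      · exact hM.1.add hN.1
      · intro p r
        have e1 := hM.2 p r
        have e2 := hN.2 p r
        rw [show Matrix.reindex (spl a) (spl a) (M + N) =
          Matrix.reindex (spl a) (spl a) M + Matrix.reindex (spl a) (spl a) N from rfl, Matrix.add_mulVec,
          Matrix.add_mulVec, (tp_refl S (s + 1)).semi.add_left, (tp_refl S (s + 1)).semi.add_right]
        linear_combination e1 + e2
      · exact hM.1.neg
      · intro p r
        have e1 := hM.2 p r
        rw [show Matrix.reindex (spl a) (spl a) (-M) = -Matrix.reindex (spl a) (spl a) M from rfl, Matrix.neg_mulVec,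
          Matrix.neg_mulVec, (tp_refl S (s + 1)).neg_left, ← neg_one_smul F (Matrix.reindex (spl a) (spl a) M *ᵥ r),
          (tp_refl S (s + 1)).semi.smul_right, RingEquiv.refl_apply]
        linear_combination -e1
      · -- left elements
        induction hh using Subgroup.closure_induction with
        | mem g hg =>
          obtain ⟨j, b, hb, rfl⟩ := hg
          rw [J_kr_fac]
          exact facGL_mem_ks _ hb
        | one => rw [kr_one, map_one]; exact one_mem _
        | mul g g' _ _ hg hg' =>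
          rw [show kr (g * g') (1 : GL (Fin m) F) = kr g 1 * kr g' 1 by rw [kr_mul, one_mul], map_mul]
          exact mul_mem hg hg'
        | inv g _ hg =>
          rw [show kr g⁻¹ (1 : GL (Fin m) F) = (kr g 1)⁻¹ by rw [kr_inv, inv_one], map_inv]
          exact inv_mem hg
      · rw [J_kr_right]
        exact facGL_mem_ks a hb
      · obtain ⟨l, hl⟩ := Mid.anti H ho hy hd hdy hM.1 (hN.1.transfer H hy hd hyo hdo) hM.2 hN.2
        refine ⟨l, (Matrix.reindex (spl a) (spl a)).injective ?_⟩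
        have e1 : ∀ A B : Matrix ((Fin s → Fin m) × Fin m) ((Fin s → Fin m) × Fin m) F,
          Matrix.reindex (spl a) (spl a) (A + B) =
            Matrix.reindex (spl a) (spl a) A + Matrix.reindex (spl a) (spl a) B := fun _ _ => rfl
        rw [e1, hre, hre, hl]
        simp only [← Matrix.coe_reindexAlgEquiv F F, map_smul, map_one]
      · have e : Matrix.reindex (spl a) (spl a) (K.submatrix (spl a) (spl a)) = K := by
          ext p r; simp [Matrix.reindex_apply]
        exact ⟨by rw [e]; exact hK, by rw [e]; exact hKs⟩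
    have e := h0 (u + u')
    rw [Unitary.tens_add_right, Unitary.tens_add_right, Matrix.mulVec_add, (tp_refl S (s + 1)).semi.add_left,
      (tp_refl S (s + 1)).semi.add_right, (tp_refl S (s + 1)).semi.add_right, h0, h0, zero_add, add_zero] at e
    exact e
  have hsingle : ∀ p : Fin (s + 1) → Fin m, (Pi.single p 1 : (Fin (s + 1) → Fin m) → F) =
      tens a (Pi.single (fun j => p (a.succAbove j)) 1) (Pi.single (p a) 1) := fun p => by
    funext r
    obtain ⟨⟨r₀, c⟩, rfl⟩ := (spl a).surjective r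
    rw [Unitary.tens_tm, Function.comp_apply, Equiv.symm_apply_apply, tm_apply]
    have e : spl a (r₀, c) = p ↔ r₀ = (fun j => p (a.succAbove j)) ∧ c = p a := by
      rw [← Equiv.eq_symm_apply, spl_symm_apply, Prod.mk.injEq]
    by_cases h : spl a (r₀, c) = p
    · obtain ⟨h1, h2⟩ := e.1 h
      simp [h, ← h1, ← h2]
    · rw [Pi.single_eq_of_ne h]
      by_cases h1 : r₀ = fun j => p (a.succAbove j)
      · rw [Pi.single_eq_of_ne (M := fun _ => F) (i := p a) (i' := c) fun h2 => h (e.2 ⟨h1, h2⟩), mul_zero]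
      · rw [Pi.single_eq_of_ne h1, zero_mul]
  have hu : ∀ (p r : Fin (s + 1) → Fin m), Function.update p a (r a) a = r a ∧
      (fun j => Function.update p a (r a) (a.succAbove j)) = fun j => p (a.succAbove j) := fun p r =>
    ⟨Function.update_self _ _ _, funext fun j => Function.update_of_ne (Fin.succAbove_ne a j) _ _⟩
  rw [hsingle x, hsingle z, hsingle (Function.update x a (z a)), hsingle (Function.update z a (x a)), (hu x z).1,
    (hu x z).2, (hu z x).1, (hu z x).2]
  exact eq_neg_of_add_eq_zero_left (hβ _ _ _ _)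

/-- In characteristic two the tensor power is alternating. -/
theorem tp_sform_two (S : SForm f) (h2 : (2 : F) = 0) {n : ℕ} (hn : 0 < n) : SForm (tp idF f n) := by
  classical
  have hneg : (-1 : F) = 1 := by linear_combination -h2
  have R := tp_refl S n
  rw [hneg, one_pow, ← hneg] at R
  refine ⟨R, fun v => ?_⟩
  have hsingle : ∀ p : Fin n → Fin m, tp idF f n (Pi.single p 1) (Pi.single p 1) = 0 := fun p => by
    simp only [tp, formOfGram]
    rw [Finset.sum_eq_single p (fun c _ hc => by simp [Pi.single_eq_of_ne hc]) (by simp),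
      Finset.sum_eq_single p (fun c _ hc => by simp [Pi.single_eq_of_ne hc]) (by simp)]
    simp only [Pi.single_eq_same, one_mul, mul_one, pureM, Matrix.of_apply, map_one]
    exact Finset.prod_eq_zero (i := ⟨0, hn⟩) (Finset.mem_univ _) (S.alt _)
  rw [pi_eq_sum_univ' v]
  induction (Finset.univ : Finset (Fin n → Fin m)) using Finset.induction_on with
  | empty => rw [Finset.sum_empty, R.zero_left]
  | insert a T ha ih =>
    rw [Finset.sum_insert ha, R.semi.add_left, R.semi.add_right, R.semi.add_right, R.semi.smul_left, R.semi.smul_right,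
      hsingle, mul_zero, mul_zero, zero_add, ih, add_zero]
    have := R.swap (v a • Pi.single a 1) (∑ i ∈ T, v i • Pi.single i (1 : F))
    rw [this, RingEquiv.refl_apply, neg_one_mul, add_neg_cancel]

/-- In characteristic two the setting of two alternating forms. -/
theorem Over.sctx (H : Over f X) (h2 : (2 : F) = 0) (h6 : 6 ≤ m) (i : Fin (t + 1)) :
    TensorMax.Form.SCtx (tp idF f t) f (XI X i) :=
  ⟨tp_sform_two H.sf h2 H.ht, H.sf, fun _ hg => H.iso' i hg, fun _ hb => H.right i (tgen_iso H.sf hb).2,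
    by rw [Fintype.card_fin]; exact h6⟩

/-- The radical of a fibre is in the stabiliser. -/
theorem Over.toOver (H : Over f X) (i : Fin (t + 1)) :
    TensorMax.Form.Over idF (tp idF f t) f (XI X i) := by
  classical
  have UA := tp_refl H.sf t
  have S := H.sf
  by_cases h2 : (2 : F) = 0
  · obtain ⟨h6, hS⟩ := H.hc.resolve_left (fun h => h h2)
    exact TensorMax.Form.toOverO (H.sctx h2 h6 i) fun φ hφ => hS i φ hφ
  refine ⟨fun g hg => H.iso' i hg, fun b _ hiso => H.right i hiso, fun o ho hoo g hg hfix hmid => ?_⟩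
  have D := data S t
  haveI : Nonempty (Fin t → Fin m) := ⟨fun _ => ⟨0, by have := H.two_le; omega⟩⟩
  obtain ⟨i₀⟩ := ‹Nonempty (Fin t → Fin m)›
  obtain ⟨k₀, hk₀⟩ := Function.ne_iff.mp ho
  let R : (Fin m → F) → ((Fin t → Fin m) → F) →ₗ[F] ((Fin t → Fin m) → F) := fun w =>
    { toFun := fun a i => (g ⬝ₘ (tm a w) - tm a w) (i, k₀) / o k₀
      map_add' := fun a b => funext fun i => by simp [tm_add_left, Matrix.mulVec_add]; ring
      map_smul' := fun r a => funext fun i => by simp [tm_smul_left, Matrix.mulVec_smul]; ring }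
  let M : (Fin m → F) → Matrix (Fin t → Fin m) (Fin t → Fin m) F := fun w => LinearMap.toMatrix' (R w)
  have hMa : ∀ w a i, (M w *ᵥ a) i = (g ⬝ₘ (tm a w) - tm a w) (i, k₀) / o k₀ := fun w a i => by
    rw [← Matrix.toLin'_apply, Matrix.toLin'_toMatrix']; rfl
  have hM : ∀ w, f w o = 0 → ∀ a, g ⬝ₘ (tm a w) = tm a w + tm (M w *ᵥ a) o := fun w hw a => by
    obtain ⟨a', ha'⟩ := hmid a w hw
    have : M w *ᵥ a = a' := funext fun i => by
      rw [hMa, ha', add_sub_cancel_left, tm_apply, mul_div_cancel_right₀ _ hk₀]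
    rw [this, ha']
  have hMs : ∀ (r : F) w, M (r • w) = r • M w := fun r w => by
    refine Matrix.toLin'.injective (LinearMap.ext fun a => funext fun i => ?_)
    rw [Matrix.toLin'_apply, Matrix.toLin'_apply, Matrix.smul_mulVec, Pi.smul_apply, hMa, hMa, smul_eq_mul,
      tm_smul_right, Matrix.mulVec_smul, ← smul_sub, Pi.smul_apply, smul_eq_mul, mul_div_assoc]
  have hMo : M o = 0 := Matrix.toLin'.injective (LinearMap.ext fun a => funext fun i => by
    rw [Matrix.toLin'_apply, hMa, hfix, sub_self, Pi.zero_apply, zero_div, map_zero, LinearMap.zero_apply,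
      Pi.zero_apply])
  -- the commutator with a Siegel element
  have hcomm : ∀ w, f w o = 0 → ∃ l : F, ∀ u v,
      tp idF f t (M w *ᵥ u) v + tp idF f t u (M w *ᵥ v) = l * tp idF f t u v := by
    intro w hw
    obtain ⟨b, -, hiso, hU⟩ := exists_uel (α := Fin t → Fin m) D (c := 0) hoo hw (by rw [S.alt]; simp)
    obtain ⟨n, hn⟩ : ∃ n, n = kr (1 : GL (Fin t → Fin m) F) b := ⟨_, rfl⟩
    have hnX : n ∈ XI X i := hn ▸ H.right i hiso
    have hco : ∀ y, ctr f o (g⁻¹ ⬝ₘ y) = ctr f o y := fun y => ctr_eq D fun a => by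
      rw [← H.iso' i hg, gl_mulVec_inv_cancel, hfix, tf_tm_right D]
    have hcw : ∀ y, ctr f w (g⁻¹ ⬝ₘ y) = ctr f w y + formAdj idF (tp idF f t) (M w) *ᵥ ctr f o y := fun y =>
      ctr_eq D fun a => by
      rw [← H.iso' i hg, gl_mulVec_inv_cancel, hM w hw, (tf_semi D).add_right, tf_tm_right D, tf_tm_right D,
        UA.semi.add_left, UA.adj_spec']
    have hC : CenOp f (XI X i) o fun v => (M w + formAdj idF (tp idF f t) (M w)) *ᵥ v := by
      refine ⟨g * n * g⁻¹ * n⁻¹, mul_mem (mul_mem (mul_mem hg hnX) (inv_mem hg)) (inv_mem hnX), fun x => ?_⟩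
      obtain ⟨y, rfl⟩ : ∃ y, x = n ⬝ₘ y := ⟨_, (gl_mulVec_inv_cancel n x).symm⟩
      have hny : ctr f o (n ⬝ₘ y) = ctr f o y := by
        rw [hn, hU, ctr_add D, ctr_add D, ctr_tm D, ctr_tm D, hw, hoo, zero_smul, zero_smul, add_zero, add_zero]
      rw [gl_mul_mulVec, gl_inv_mulVec_cancel, gl_mul_mulVec, gl_mul_mulVec, hny, hn, hU, hU, Matrix.mulVec_add,
        Matrix.mulVec_add, gl_mulVec_inv_cancel, hM w hw, hfix, hco, hcw]
      simp only [Matrix.add_mulVec, RingEquiv.refl_apply, zero_smul, zero_sub, neg_smul, one_smul, neg_neg,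
        tm_add_left]
      abel
    obtain ⟨l, hl⟩ := H.cen i o _ ho hC
    refine ⟨l, fun u v => ?_⟩
    rw [UA.adj_spec', ← UA.semi.add_left, ← Matrix.add_mulVec, hl, UA.semi.smul_left]
  have hscalar : ∀ w, f w o = 0 → ∃ r : F, M w = r • 1 := fun w hw => by
    by_cases hwo : w ∈ Submodule.span F {o}
    · obtain ⟨r, rfl⟩ := Submodule.mem_span_singleton.mp hwo
      exact ⟨0, by rw [hMs, hMo, smul_zero, zero_smul]⟩
    rcases H.hm with hm | hm
    · exfalso
      refine hwo ?_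
      rw [← S.refl.perp_perp (Submodule.span F {o})]
      intro x hx
      have hdim := S.refl.finrank_perp (Submodule.span F {o})
      rw [finrank_span_singleton ho, Fintype.card_fin] at hdim
      have hle : Submodule.span F {o} ≤ S.refl.perp (Submodule.span F {o}) := by
        rw [Submodule.span_singleton_le_iff_mem]
        intro z hz
        obtain ⟨r, rfl⟩ := Submodule.mem_span_singleton.mp hz
        rw [S.smul_right, hoo, mul_zero]
      have heq := Submodule.eq_of_le_of_finrank_le hle (by rw [finrank_span_singleton ho]; omega)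
      rw [← heq] at hx
      obtain ⟨r, rfl⟩ := Submodule.mem_span_singleton.mp hx
      rw [S.smul_right, hw, mul_zero]
    obtain ⟨b, hb, -, hbi⟩ := exists_stv S w (1 : F)
    obtain ⟨n, hn⟩ : ∃ n, n = kr (1 : GL (Fin t → Fin m) F) b := ⟨_, rfl⟩
    have hnX : n ∈ XI X i := hn ▸ H.right i hbi
    have hno : ∀ a, n ⬝ₘ (tm a o) = tm a o := fun a => by
      rw [hn, kr_tm, Units.val_one, Matrix.one_mulVec, hb, one_mul, S.refl.eq_zero_swap hw, zero_smul, add_zero]
    have hnw : ∀ a v, n ⬝ₘ (tm a v) = tm a v + f v w • tm a w := fun a v => by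
      rw [hn, kr_tm, Units.val_one, Matrix.one_mulVec, hb, one_mul, tm_add_right, tm_smul_right]
    have hgi : ∀ a, g⁻¹ ⬝ₘ (tm a o) = tm a o := fun a => by conv_lhs => rw [← hfix a, gl_inv_mulVec_cancel]
    have hMid : Mid f X i o w (M w) := by
      refine ⟨g * n * g⁻¹ * n⁻¹, mul_mem (mul_mem (mul_mem hg hnX) (inv_mem hg)) (inv_mem hnX), fun a => ?_,
        fun a v hv => gl_mulVec_injective (g * n * g⁻¹)⁻¹ ?_⟩
      · rw [gl_mul_mulVec, gl_mul_mulVec, gl_mul_mulVec]
        conv_lhs => rw [← hno a, gl_inv_mulVec_cancel, hgi, hno, hfix]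
      · have hni : n⁻¹ ⬝ₘ (tm a v) = tm a v - f v w • tm a w := by
          refine gl_mulVec_injective n ?_
          show n ⬝ₘ (n⁻¹ ⬝ₘ (tm a v)) = n ⬝ₘ (tm a v - f v w • tm a w)
          rw [gl_mulVec_inv_cancel, Matrix.mulVec_sub, Matrix.mulVec_smul, hnw, hnw, S.alt]
          module
        have hgi' : ∀ b u, f u o = 0 → g⁻¹ ⬝ₘ (tm b u) = tm b u - tm (M u *ᵥ b) o := fun b u hu => by
          refine gl_mulVec_injective g ?_
          show g ⬝ₘ (g⁻¹ ⬝ₘ (tm b u)) = g ⬝ₘ (tm b u - tm (M u *ᵥ b) o)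
          rw [gl_mulVec_inv_cancel, Matrix.mulVec_sub, hM u hu, hfix]
          abel
        have hni' : ∀ b, n⁻¹ ⬝ₘ (tm b o) = tm b o := fun b => by conv_lhs => rw [← hno b, gl_inv_mulVec_cancel]
        show (g * n * g⁻¹)⁻¹ ⬝ₘ ((g * n * g⁻¹ * n⁻¹) ⬝ₘ (tm a v)) = (g * n * g⁻¹)⁻¹ ⬝ₘ (tm a v + tm (f v w • (M w *ᵥ a)) o)
        rw [gl_mul_mulVec (g * n * g⁻¹), gl_inv_mulVec_cancel, hni, show (g * n * g⁻¹)⁻¹ = g * n⁻¹ * g⁻¹ by group,
          gl_mul_mulVec, gl_mul_mulVec, Matrix.mulVec_add, hgi, hgi' a v hv, Matrix.mulVec_add, Matrix.mulVec_sub,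
          hni, hni', hni', Matrix.mulVec_add, Matrix.mulVec_sub, Matrix.mulVec_sub, Matrix.mulVec_smul, hfix, hfix,
          hM v hv, hM w hw, tm_smul_left]
        module
    obtain ⟨l, hl⟩ := hcomm w hw
    have h0 := Mid.skew_eq_zero H h2 hm ho hw hwo (hMid.add (Mid.scal H i hw (-(l * 2⁻¹)))) fun u v => by
      simp only [Matrix.add_mulVec, Matrix.smul_mulVec, Matrix.one_mulVec, UA.semi.add_left, UA.semi.add_right,
        UA.semi.smul_left, UA.semi.smul_right, RingEquiv.refl_apply]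
      have h2' : (2 : F) * 2⁻¹ = 1 := mul_inv_cancel₀ h2
      linear_combination hl u v - l * tp idF f t u v * h2'
    exact ⟨l * 2⁻¹, by linear_combination (norm := module) h0⟩
  -- the middle part is one element of the stabiliser
  have hMii : ∀ w, (M w) i₀ i₀ = (g ⬝ₘ (tm (Pi.single i₀ (1 : F) : (Fin t → Fin m) → F) w) -
      tm (Pi.single i₀ (1 : F) : (Fin t → Fin m) → F) w) (i₀, k₀) / o k₀ := fun w => by
    rw [← hMa]; simp
  obtain ⟨k, hk⟩ : ∃ k : (Fin m → F) →ₗ[F] F, ∀ w, k w = (M w) i₀ i₀ := ⟨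
    { toFun := fun w => (M w) i₀ i₀
      map_add' := fun w w' => by
        simp only [hMii, tm_add_right, Matrix.mulVec_add, Pi.sub_apply, Pi.add_apply]
        ring
      map_smul' := fun r w => by rw [hMs]; simp }, fun w => rfl⟩
  obtain ⟨y, hy⟩ : ∃ y, ∀ v, f v y = k v := by
    have hinj : Function.Injective fun y : (Fin m → F) => fun i => f (Pi.single i 1) y := fun y y' e => by
      by_contra hne
      obtain ⟨x, hx⟩ := (S.refl.nondeg _ (sub_ne_zero.mpr hne)).1
      apply hx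
      rw [S.sub_right, pi_eq_sum_univ' x, S.refl.sum_left, S.refl.sum_left, ← Finset.sum_sub_distrib]
      refine Finset.sum_eq_zero fun i _ => ?_
      rw [S.refl.semi.smul_left, S.refl.semi.smul_left]
      linear_combination (x i) * congrFun e i
    obtain ⟨y, hy⟩ := (Finite.injective_iff_surjective.mp hinj) fun i => k (Pi.single i 1)
    refine ⟨y, fun v => ?_⟩
    rw [pi_eq_sum_univ' v, S.refl.sum_left, map_sum]
    refine Finset.sum_congr rfl fun i _ => ?_
    rw [S.refl.semi.smul_left, map_smul, smul_eq_mul, ← congrFun hy i]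
  have hyo : f y o = 0 := S.refl.eq_zero_swap (by rw [hy o, hk, hMo, Matrix.zero_apply])
  obtain ⟨b, -, hiso, hU⟩ := exists_uel (α := Fin t → Fin m) D (c := 0) hoo hyo (by rw [S.alt]; simp)
  obtain ⟨n, hn⟩ : ∃ n, n = kr (1 : GL (Fin t → Fin m) F) b := ⟨_, rfl⟩
  have hnX : n ∈ XI X i := hn ▸ H.right i hiso
  obtain ⟨g', hg'⟩ : ∃ g', g' = n⁻¹ * g := ⟨_, rfl⟩
  have hg'X : g' ∈ XI X i := hg' ▸ mul_mem (inv_mem hnX) hg
  have hg'tm : ∀ a v, f v o = 0 → g' ⬝ₘ (tm a v) = tm a v := fun a v hv => by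
    obtain ⟨r, hr⟩ := hscalar v hv
    have hmk : r = f v y := by rw [hy, hk, hr]; simp
    rw [hg', gl_mul_mulVec, hM v hv, hr, Matrix.smul_mulVec, Matrix.one_mulVec, hmk]
    have := uel_mid D hU hv a
    rw [RingEquiv.refl_apply, neg_one_mul, neg_neg] at this
    rw [← this, ← hn, gl_inv_mulVec_cancel]
  have hg'fix : ∀ x, ctr f o x = 0 → g' ⬝ₘ x = x := fun x hx => by
    rw [sum_rows x, Matrix.mulVec_sum]
    exact Finset.sum_congr rfl fun i _ => hg'tm _ _ (congrFun hx i)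
  obtain ⟨o', ho', -⟩ := exists_partner S ho
  have hcen : ∀ c, ∃ u, g' ⬝ₘ (tm c o') - tm c o' = tm u o := fun c => eq_tm_of_ctr D fun v' hv' => by
    rw [ctr_sub D, sub_eq_zero]
    refine ctr_eq D fun a => ?_
    conv_lhs => rw [← hg'tm a v' hv', H.iso' i hg'X, tf_tm_right D]
  choose φ hφ using hcen
  have hC : CenOp f (XI X i) o φ := ⟨g', hg'X, fun x => by
    obtain ⟨x₁, hx₁⟩ : ∃ x₁, x₁ = x - tm (ctr f o x) o' := ⟨_, rfl⟩
    have h1 : ctr f o x₁ = 0 := by rw [hx₁, ctr_sub D, ctr_tm D, ho', one_smul, sub_self]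
    have h2 := hg'fix x₁ h1
    rw [hx₁, Matrix.mulVec_sub] at h2
    rw [← hφ]
    linear_combination (norm := module) h2⟩
  obtain ⟨l, hl⟩ := H.cen i o φ ho hC
  obtain ⟨t', -, -, hR⟩ := exists_rt (α := Fin t → Fin m) D hoo (c := l) (by simp)
  have hK : g' = kr 1 t' := gl_ext_mulVec fun x => by
    obtain ⟨x₁, hx₁⟩ : ∃ x₁, x₁ = x - tm (ctr f o x) o' := ⟨_, rfl⟩
    have h1 : ctr f o x₁ = 0 := by rw [hx₁, ctr_sub D, ctr_tm D, ho', one_smul, sub_self]
    have h2 := hg'fix x₁ h1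
    rw [hx₁, Matrix.mulVec_sub] at h2
    rw [hR, ← hl, ← hφ]
    linear_combination (norm := module) h2
  have : g = n * g' := by rw [hg', mul_inv_cancel_left]
  rw [this, hK, hn]
  exact mul_mem ⟨1, b, rfl⟩ ⟨1, t', rfl⟩

end Cfsg.Agent.Classical.TensorPowerMax.Symplectic
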