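/-
The three types of factors of an elementary square-zero isometry of the tensor power, and their combination.
-/
import Cfsg.Agent.Lib.Classical.STPow.Rad
import Mathlib.FieldTheory.Finite.Basic

set_option autoImplicit false
set_option linter.unusedSectionVars false

namespace Cfsg.Agent.Classical.TensorPowerMax.Symplectic

open Matrix Cfsg.Geo
open Cfsg.Agent.Classical
open Cfsg.Agent.Classical.TensorPowerMax
open Cfsg.Agent.Classical.TensorPowerMax.Unitary (tp fl nm)
open Cfsg.Agent.Classical.TensorMax.Form (SForm exists_stv tgen_iso tmove_one tmove_pair)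

variable {F : Type*} [Field F] [Fintype F] {m t : ℕ} {f : (Fin m → F) → (Fin m → F) → F}

local notation "idF" => RingEquiv.refl F
local notation "Mm" => Matrix (Fin m) (Fin m) F

/-- The operator of an orthogonal pair. -/
def lam (f : (Fin m → F) → (Fin m → F) → F) (u v : Fin m → F) : Mm :=
  vecMulVec v (fl f u) - vecMulVec u (fl f v)

/-- The three types of factors. -/
inductive Ty where
  | N
  | L
  | O
  deriving DecidableEq

/-- A matrix of the given type. -/
def Re (f : (Fin m → F) → (Fin m → F) → F) : Ty → Mm → Prop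
  | Ty.N, A => ∃ u, u ≠ 0 ∧ A = nm f u
  | Ty.L, A => ∃ u v, u ≠ 0 ∧ v ∉ Submodule.span F {u} ∧ f u v = 0 ∧ A = lam f u v
  | Ty.O, A => A = 1

/-- The sign of the adjoint. -/
def sg (F : Type*) [Field F] : Ty → F
  | Ty.N => -1
  | Ty.L => 1
  | Ty.O => 1

variable (S : SForm f)

include S

theorem lam_mulVec (u v x : Fin m → F) : lam f u v *ᵥ x = f x u • v - f x v • u := by
  rw [lam, Matrix.sub_mulVec, Matrix.vecMulVec_mulVec, Matrix.vecMulVec_mulVec, fl_dot S, fl_dot S, op_smul_eq_smul,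
    op_smul_eq_smul]

theorem lam_sq {u v : Fin m → F} (h : f u v = 0) : lam f u v * lam f u v = 0 :=
  Matrix.toLin'.injective (LinearMap.ext fun x => by
    rw [Matrix.toLin'_apply, ← Matrix.mulVec_mulVec, lam_mulVec S, lam_mulVec S, map_zero, LinearMap.zero_apply,
      S.sub_left, S.sub_left, S.refl.semi.smul_left, S.refl.semi.smul_left, S.refl.semi.smul_left,
      S.refl.semi.smul_left, S.alt, S.alt, h, S.refl.eq_zero_swap h]
    simp)

theorem lam_conj {b : GL (Fin m) F}
    (hb : ∀ u v, f ((b : Mm) *ᵥ u) ((b : Mm) *ᵥ v) = f u v) (u v : Fin m → F) :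
    (b : Mm) * lam f u v * ((b⁻¹ : GL (Fin m) F) : Mm) = lam f ((b : Mm) *ᵥ u) ((b : Mm) *ᵥ v) :=
  Matrix.toLin'.injective (LinearMap.ext fun x => by
    simp only [Matrix.toLin'_apply, ← Matrix.mulVec_mulVec, lam_mulVec S, Matrix.mulVec_sub, Matrix.mulVec_smul]
    conv_rhs => rw [← gl_mulVec_inv_cancel b x, hb, hb])

theorem nm_sandwich (u : Fin m → F) (M : Mm) : nm f u * M * nm f u = f (M *ᵥ u) u • nm f u :=
  Matrix.toLin'.injective (LinearMap.ext fun x => by
    simp only [Matrix.toLin'_apply, ← Matrix.mulVec_mulVec, nm_mulVec S, Matrix.mulVec_smul, Matrix.smul_mulVec,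
      S.refl.semi.smul_left, smul_smul, mul_comm])

theorem re_adj {a : Ty} {A : Mm} (hA : Re f a A) (x y : Fin m → F) :
    f (A *ᵥ x) y = sg F a * f x (A *ᵥ y) := by
  cases a with
  | N =>
    obtain ⟨u, -, rfl⟩ := hA
    rw [nm_mulVec S, nm_mulVec S, S.refl.semi.smul_left, S.smul_right, S.swap y u]
    simp [sg]
    ring
  | L =>
    obtain ⟨u, v, -, -, -, rfl⟩ := hA
    rw [lam_mulVec S, lam_mulVec S, S.sub_left, S.sub_right, S.refl.semi.smul_left, S.refl.semi.smul_left,
      S.smul_right, S.smul_right, S.swap y v, S.swap y u]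
    simp [sg]
    ring
  | O => rw [show A = 1 from hA, Matrix.one_mulVec, Matrix.one_mulVec]; simp [sg]

theorem re_sq {a : Ty} {A : Mm} (hA : Re f a A) (ha : a ≠ Ty.O) : A * A = 0 := by
  cases a with
  | N => obtain ⟨u, -, rfl⟩ := hA; exact nm_sq S u
  | L => obtain ⟨u, v, -, -, h, rfl⟩ := hA; exact lam_sq S h
  | O => exact absurd rfl ha

theorem re_ne_zero (hm : 0 < m) {a : Ty} {A : Mm} (hA : Re f a A) : A ≠ 0 := by
  have : Nonempty (Fin m) := ⟨⟨0, hm⟩⟩
  cases a with
  | N => obtain ⟨u, hu, rfl⟩ := hA; exact nm_ne_zero S hu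
  | L =>
    obtain ⟨u, v, hu, hv, -, rfl⟩ := hA
    intro e
    obtain ⟨x, hx⟩ := (S.refl.nondeg u hu).1
    have h := lam_mulVec S u v x
    rw [e, Matrix.zero_mulVec, eq_comm, sub_eq_zero] at h
    refine hv (Submodule.mem_span_singleton.2 ⟨(f x u)⁻¹ * f x v, ?_⟩)
    rw [← smul_smul, ← h, smul_smul, inv_mul_cancel₀ hx, one_smul]
  | O => rw [show A = 1 from hA]; exact one_ne_zero

/-- An element of the type `N` kills the other types from both sides. -/
theorem nsq_zero {b : Ty} (hb : b ≠ Ty.N) {A B : Mm} (hA : Re f Ty.N A) (hB : Re f b B) : A * B * A = 0 := by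
  obtain ⟨u, -, rfl⟩ := hA
  rw [nm_sandwich S]
  have h0 : f (B *ᵥ u) u = 0 := by
    cases b with
    | N => exact absurd rfl hb
    | L =>
      obtain ⟨v, w, -, -, -, rfl⟩ := hB
      rw [lam_mulVec S, S.sub_left, S.refl.semi.smul_left, S.refl.semi.smul_left, S.swap u w, S.swap u v]
      ring
    | O => rw [show B = 1 from hB, Matrix.one_mulVec, S.alt]
  rw [h0, zero_smul]

theorem flip_coeff {a b : Ty} {A B : Mm} (hA : Re f a A) (hB : Re f b B) (w : Fin m → F) :
    f ((B * A) *ᵥ w) w = -(sg F a * sg F b) * f ((A * B) *ᵥ w) w := by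
  rw [← Matrix.mulVec_mulVec, ← Matrix.mulVec_mulVec, re_adj S hB, re_adj S hA, S.swap (A *ᵥ (B *ᵥ w)) w]
  ring

/-- Realisations with non-zero projection. -/
theorem exists_coeff {a b : Ty} (ha : a ≠ Ty.O) (hb : b ≠ Ty.O) (hra : ∃ A, Re f a A) (hrb : ∃ B, Re f b B) :
    ∃ A B w, Re f a A ∧ Re f b B ∧ w ≠ 0 ∧ f ((A * B) *ᵥ w) w ≠ 0 := by
  classical
  have hframe : ∀ {u v : Fin m → F}, u ≠ 0 → v ∉ Submodule.span F {u} → f u v = 0 → ∃ g₁ g₂,
      f g₁ u = 1 ∧ f g₁ v = 0 ∧ f g₂ v = 1 ∧ f g₂ u = 0 ∧ f g₂ g₁ = 0 := by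
    intro u v hu hv huv
    have key : ∀ {p r : Fin m → F}, p ∉ Submodule.span F {r} → ∃ g, f g p = 1 ∧ f g r = 0 := by
      intro p r hp
      obtain ⟨g, hg1, hg0⟩ : ∃ g, f g r = 0 ∧ f g p ≠ 0 := by
        by_contra hcon
        push Not at hcon
        refine hp ?_
        rw [← S.refl.perp_perp (Submodule.span F {r})]
        exact fun g hg => S.refl.eq_zero_swap (hcon g (hg r (Submodule.mem_span_singleton_self r)))
      exact ⟨(f g p)⁻¹ • g, by rw [S.refl.semi.smul_left, inv_mul_cancel₀ hg0],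
        by rw [S.refl.semi.smul_left, hg1, mul_zero]⟩
    have hu' : u ∉ Submodule.span F {v} := fun e => by
      obtain ⟨r, hr⟩ := Submodule.mem_span_singleton.1 e
      have hr0 : r ≠ 0 := fun e0 => hu (by rw [← hr, e0, zero_smul])
      exact hv (Submodule.mem_span_singleton.2 ⟨r⁻¹, by rw [← hr, smul_smul, inv_mul_cancel₀ hr0, one_smul]⟩)
    obtain ⟨g₁, h1, h2⟩ := key hu'
    obtain ⟨g₂, h3, h4⟩ := key hv
    refine ⟨g₁, g₂ + f g₂ g₁ • u, h1, h2, ?_, ?_, ?_⟩
    · rw [S.refl.semi.add_left, S.refl.semi.smul_left, huv, mul_zero, add_zero, h3]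
    · rw [S.refl.semi.add_left, S.refl.semi.smul_left, S.alt, mul_zero, add_zero, h4]
    · rw [S.refl.semi.add_left, S.refl.semi.smul_left, S.swap g₁ u, h1]
      ring
  have hNL : ∀ {u v : Fin m → F}, u ≠ 0 → v ∉ Submodule.span F {u} → f u v = 0 →
      ∃ A B w, Re f Ty.N A ∧ Re f Ty.L B ∧ w ≠ 0 ∧ f ((A * B) *ᵥ w) w ≠ 0 := by
    intro u v hu hv huv
    obtain ⟨g₁, g₂, h1, h2, h3, h4, h5⟩ := hframe hu hv huv
    have hvu := S.refl.eq_zero_swap huv
    have hv0 : v ≠ 0 := fun e => hv (e ▸ Submodule.zero_mem _)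
    have hg₁0 : g₁ ≠ 0 := fun e => one_ne_zero (h1.symm.trans (by rw [e, S.refl.zero_left]))
    refine ⟨nm f v, lam f g₁ g₂, u + g₂, ⟨v, hv0, rfl⟩, ⟨g₁, g₂, hg₁0, fun e => ?_, S.refl.eq_zero_swap h5, rfl⟩, ?_, ?_⟩
    · obtain ⟨r, hr⟩ := Submodule.mem_span_singleton.1 e
      rw [← hr, S.refl.semi.smul_left, h2, mul_zero] at h3
      exact zero_ne_one h3
    · intro e
      have := congrArg (fun x => f x v) e
      simp only [S.refl.semi.add_left, huv, h3, S.refl.zero_left, zero_add, one_ne_zero] at this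
    · rw [← Matrix.mulVec_mulVec, lam_mulVec S, nm_mulVec S]
      simp only [S.refl.semi.add_left, S.sub_left, S.refl.semi.smul_left, S.refl.semi.add_right, S.swap g₁ u, S.swap g₂ v,
        S.swap g₂ u, h1, h2, h3, h4, h5, S.alt, hvu]
      simp
  cases a with
  | O => exact absurd rfl ha
  | N =>
    cases b with
    | O => exact absurd rfl hb
    | N =>
      obtain ⟨A, u, hu, -⟩ := hra
      obtain ⟨g, hg, -⟩ := exists_partner S hu
      have hg0 : g ≠ 0 := fun e => one_ne_zero (hg.symm.trans (by rw [e, S.refl.zero_left]))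
      refine ⟨nm f u, nm f g, u + g, ⟨u, hu, rfl⟩, ⟨g, hg0, rfl⟩, fun e => ?_, ?_⟩
      · have := congrArg (fun x => f x u) e
        simp only [S.refl.semi.add_left, S.alt, hg, S.refl.zero_left, zero_add, one_ne_zero] at this
      · rw [← Matrix.mulVec_mulVec, nm_mulVec S, nm_mulVec S]
        simp only [S.refl.semi.add_left, S.refl.semi.smul_left, S.refl.semi.add_right, S.alt, hg, S.swap g u]
        simp
    | L =>
      obtain ⟨B, u, v, hu, hv, huv, -⟩ := hrb
      exact hNL hu hv huv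
  | L =>
    obtain ⟨A, u, v, hu, hv, huv, -⟩ := hra
    cases b with
    | O => exact absurd rfl hb
    | N =>
      obtain ⟨A', B', w, hA', hB', hw, h⟩ := hNL hu hv huv
      refine ⟨B', A', w, hB', hA', hw, ?_⟩
      rw [flip_coeff S hA' hB']
      simpa [sg] using h
    | L =>
      obtain ⟨g₁, g₂, h1, h2, h3, h4, h5⟩ := hframe hu hv huv
      have hvu := S.refl.eq_zero_swap huv
      have hg₁0 : g₁ ≠ 0 := fun e => one_ne_zero (h1.symm.trans (by rw [e, S.refl.zero_left]))
      refine ⟨lam f u v, lam f g₁ g₂, u + g₁, ⟨u, v, hu, hv, huv, rfl⟩,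
        ⟨g₁, g₂, hg₁0, fun e => ?_, S.refl.eq_zero_swap h5, rfl⟩, fun e => ?_, ?_⟩
      · obtain ⟨r, hr⟩ := Submodule.mem_span_singleton.1 e
        rw [← hr, S.refl.semi.smul_left, h2, mul_zero] at h3
        exact zero_ne_one h3
      · have := congrArg (fun x => f x u) e
        simp only [S.refl.semi.add_left, S.alt, h1, S.refl.zero_left, zero_add, one_ne_zero] at this
      · rw [← Matrix.mulVec_mulVec, lam_mulVec S, lam_mulVec S]
        simp only [S.refl.semi.add_left, S.sub_left, S.refl.semi.smul_left, S.refl.semi.add_right, S.swap g₁ u, S.swap g₂ u,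
          S.swap g₂ g₁, h1, h2, h3, h4, h5, S.alt, hvu]
        simp

omit S in
theorem pureM_update_smul {n : ℕ} (A : Fin n → Mm) (k : Fin n) (r : F) (Y : Mm) :
    pureM (Function.update A k (r • Y)) = r • pureM (Function.update A k Y) := by
  ext x y
  simp only [pureM, Matrix.of_apply, Matrix.smul_apply, smul_eq_mul]
  rw [← Finset.mul_prod_erase _ _ (Finset.mem_univ k), ← Finset.mul_prod_erase _ _ (Finset.mem_univ k),
    Function.update_self, Function.update_self, Matrix.smul_apply, smul_eq_mul, mul_assoc]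
  congr 2
  exact Finset.prod_congr rfl fun l hl => by
    rw [Function.update_of_ne (Finset.ne_of_mem_erase hl), Function.update_of_ne (Finset.ne_of_mem_erase hl)]

omit S in
theorem pureM_ne_zero {n : ℕ} {A : Fin n → Mm} (hA : ∀ k, A k ≠ 0) : pureM A ≠ 0 := by
  intro e
  have hx : ∀ l, ∃ x y, A l x y ≠ 0 := fun l => by
    by_contra hcon
    push Not at hcon
    exact hA l (Matrix.ext hcon)
  choose x y hxy using hx
  exact Finset.prod_ne_zero_iff.2 (fun l _ => hxy l) (by simpa [pureM] using congrFun (congrFun e x) y)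

omit S in
theorem pureM_eq_zero {n : ℕ} {A : Fin n → Mm} (k : Fin n) (hA : A k = 0) : pureM A = 0 := by
  ext x y
  exact Finset.prod_eq_zero (Finset.mem_univ k) (by rw [hA, Matrix.zero_apply])

omit S in
theorem facM_sandwich {n : ℕ} (k : Fin n) (P : Mm) (A : Fin n → Mm) :
    facM k P * pureM A * facM k P = pureM (Function.update A k (P * A k * P)) := by
  rw [facM, pureM_mul, pureM_mul]
  congr 1
  funext l
  rcases eq_or_ne l k with rfl | hl
  · simp
  · simp [Function.update_of_ne hl]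

omit S in
theorem facM_conj' {n : ℕ} (k : Fin n) (b : GL (Fin m) F) (A : Fin n → Mm) :
    (facGL k b : Matrix (Fin n → Fin m) (Fin n → Fin m) F) * pureM A *
      (((facGL k b)⁻¹ : GL (Fin n → Fin m) F) : Matrix (Fin n → Fin m) (Fin n → Fin m) F) =
      pureM (Function.update A k ((b : Mm) * A k * ((b⁻¹ : GL (Fin m) F) : Mm))) := by
  rw [← map_inv, facGL_val, facGL_val, facM, facM, pureM_mul, pureM_mul]
  congr 1
  funext l
  rcases eq_or_ne l k with rfl | hl
  · simp
  · simp [Function.update_of_ne hl]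

theorem re_move {a : Ty} {A A' : Mm} (hA : Re f a A) (hA' : Re f a A') :
    ∃ b : GL (Fin m) F, (∀ u v, f ((b : Mm) *ᵥ u) ((b : Mm) *ᵥ v) = f u v) ∧
      (b : Mm) * A * ((b⁻¹ : GL (Fin m) F) : Mm) = A' := by
  cases a with
  | N =>
    obtain ⟨u, hu, rfl⟩ := hA
    obtain ⟨u', hu', rfl⟩ := hA'
    obtain ⟨b, hb, e⟩ := tmove_one S hu hu'
    exact ⟨b, (tgen_iso S hb).2, by rw [nm_conj S (tgen_iso S hb).2, e]⟩
  | L =>
    obtain ⟨u, v, hu, hv, huv, rfl⟩ := hA
    obtain ⟨u', v', hu', hv', huv', rfl⟩ := hA'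
    obtain ⟨b, hb, e1, e2⟩ := tmove_pair S hu hu' huv huv' hv hv'
    exact ⟨b, (tgen_iso S hb).2, by rw [lam_conj S (tgen_iso S hb).2, e1, e2]⟩
  | O => exact ⟨1, fun u v => by simp, by rw [show A = 1 from hA, show A' = 1 from hA']; simp⟩

theorem pureM_adj {n : ℕ} {A : Fin n → Mm} {τ : Fin n → Ty} (hA : ∀ k, Re f (τ k) (A k))
    (x y : (Fin n → Fin m) → F) :
    tp idF f n (pureM A *ᵥ x) y = (∏ k, sg F (τ k)) * tp idF f n x (pureM A *ᵥ y) := by
  have hG : ∀ k, (A k)ᵀ * gramMatrix f = sg F (τ k) • (gramMatrix f * A k) := fun k => by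
    refine Matrix.ext fun a b => ?_
    have h := re_adj S (hA k) (Pi.single a 1) (Pi.single b 1)
    rw [S.refl.apply_eq, S.refl.apply_eq] at h
    simp only [RingEquiv.coe_refl, Function.id_comp] at h
    rw [Matrix.mulVec_mulVec, ← Matrix.vecMul_transpose, ← Matrix.dotProduct_mulVec, Matrix.mulVec_mulVec, single_dotProduct,
      single_dotProduct, one_mul, one_mul, Matrix.mulVec_single_one, Matrix.mulVec_single_one] at h
    rw [Matrix.smul_apply, smul_eq_mul]
    exact h
  simp only [tp, formOfGram]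
  have e : (pureM A)ᵀ * pureM (fun _ : Fin n => gramMatrix f) =
      (∏ k, sg F (τ k)) • (pureM (fun _ : Fin n => gramMatrix f) * pureM A) := by
    rw [pureM_transpose, pureM_mul, pureM_mul, ← pureM_smul]
    exact congrArg _ (funext hG)
  have hgram : ∀ u v : (Fin n → Fin m) → F, tp idF f n u v = u ⬝ᵥ (pureM (fun _ : Fin n => gramMatrix f) *ᵥ v) := by
    intro u v
    simp only [tp, formOfGram, dotProduct, Matrix.mulVec, Finset.mul_sum, RingEquiv.coe_refl, id]
    exact Finset.sum_congr rfl fun a _ => Finset.sum_congr rfl fun b _ => by ring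
  show tp idF f n (pureM A *ᵥ x) y = _ * tp idF f n x (pureM A *ᵥ y)
  rw [hgram, hgram, ← Matrix.vecMul_transpose, ← Matrix.dotProduct_mulVec, Matrix.mulVec_mulVec, e, Matrix.smul_mulVec,
    dotProduct_smul, smul_eq_mul, Matrix.mulVec_mulVec]

end Cfsg.Agent.Classical.TensorPowerMax.Symplectic
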