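/-
A non-zero module of operators invariant under the factor groups contains a product of the three types.
-/
import Cfsg.Agent.Lib.Classical.STPow.Over
import Cfsg.Agent.Lib.Classical.STPow.FullOps

set_option autoImplicit false
set_option linter.unusedSectionVars false

namespace Cfsg.Agent.Classical.TensorPowerMax.Symplectic

open Matrix Cfsg.Geo
open Cfsg.Agent.Classical
open Cfsg.Agent.Classical.TensorPowerMax
open Cfsg.Agent.Classical.TensorPowerMax.Unitary (tp fl nm emb_pureM J_conj)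
open Cfsg.Agent.Classical.TensorMax (kr kr_val kr_mul kr_one kr_inv)
open Cfsg.Agent.Classical.TensorMax.Form (SForm STv exists_stv Data tm ctr ext_pure eq_tm_of_ctr tm_inj tm_apply
  ctr_add ctr_tm ctr_smul ctr_add_vec ctr_smul_vec tm_add_left tm_add_right tm_smul_left tm_smul_right)
open scoped Kronecker

variable {F : Type*} [Field F] [Fintype F] {m t : ℕ} {f : (Fin m → F) → (Fin m → F) → F}

local notation "idF" => RingEquiv.refl F

/-- A one factor step. -/
theorem slot_cases {α : Type} [Fintype α] [DecidableEq α] {εA : F} {fA : (α → F) → (α → F) → F} (S : SForm f)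
    (D : Data idF εA (-1) fA f) (h2 : (2 : F) ≠ 0) (hm : 2 ≤ m) (T : Submodule F (Matrix (α × Fin m) (α × Fin m) F))
    (hconj : ∀ b : GL (Fin m) F,
      (∀ u v, f ((b : Matrix (Fin m) (Fin m) F) *ᵥ u) ((b : Matrix (Fin m) (Fin m) F) *ᵥ v) = f u v) → ∀ M ∈ T,
      (kr (1 : GL α F) b : Matrix (α × Fin m) (α × Fin m) F) * M *
        (((kr (1 : GL α F) b)⁻¹ : GL (α × Fin m) F) : Matrix (α × Fin m) (α × Fin m) F) ∈ T)
    {M : Matrix (α × Fin m) (α × Fin m) F} (hM : M ∈ T) :
    (∃ (B : Matrix α α F) (u : Fin m → F), B ≠ 0 ∧ u ≠ 0 ∧ B ⊗ₖ nm f u ∈ T) ∨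
      (∃ (B : Matrix α α F) (u v : Fin m → F), B ≠ 0 ∧ u ≠ 0 ∧ v ∉ Submodule.span F {u} ∧ f u v = 0 ∧
        B ⊗ₖ lam f u v ∈ T) ∨ ∃ B : Matrix α α F, M = B ⊗ₖ (1 : Matrix (Fin m) (Fin m) F) := by
  classical
  have hR : ∀ w u, ∃ R : Matrix α α F, ∀ a, R *ᵥ a = ctr f w (M *ᵥ tm a u) := fun w u => by
    let L : (α → F) →ₗ[F] (α → F) :=
      { toFun := fun a => ctr f w (M *ᵥ tm a u)
        map_add' := fun a b => by rw [tm_add_left, Matrix.mulVec_add, ctr_add D]
        map_smul' := fun r a => by rw [tm_smul_left, Matrix.mulVec_smul, ctr_smul D]; rfl }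
    exact ⟨LinearMap.toMatrix' L, fun a => by rw [← Matrix.toLin'_apply, Matrix.toLin'_toMatrix']; rfl⟩
  choose R hR using hR
  obtain ⟨P, hP⟩ : ∃ P : (Fin m → F) → Matrix (α × Fin m) (α × Fin m) F,
      ∀ u, P u = (1 : Matrix α α F) ⊗ₖ nm f u := ⟨_, fun _ => rfl⟩
  have hsand : ∀ u v, P u * M * P v = R u v ⊗ₖ vecMulVec u (fl f v) := fun u v =>
    Matrix.toLin'.injective (LinearMap.ext fun x => by
      simp only [Matrix.toLin'_apply, ← Matrix.mulVec_mulVec, hP, nm, kron_vmv S, Matrix.one_mulVec, hR])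
  have hPP : ∀ u v, f v u = 0 → P u * P v = 0 := fun u v h => by
    rw [hP, hP, ← Matrix.mul_kronecker_mul, nm, nm, Matrix.vecMulVec_mul_vecMulVec, fl_dot S, h, zero_smul,
      Matrix.vecMulVec_zero, Matrix.kronecker_zero]
  have hQD : ∀ u, ∀ N ∈ T, P u * N * P u ∈ T ∧ P u * N - N * P u ∈ T := by
    intro u N hN
    have key : ∀ c : F, c • (P u * N - N * P u) - (c * c) • (P u * N * P u) ∈ T := by
      intro c
      obtain ⟨b, hb, -, hbi⟩ := exists_stv S u c
      have e1 : (kr (1 : GL α F) b : Matrix (α × Fin m) (α × Fin m) F) = 1 + c • P u := by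
        rw [kr_val, stv_val S hb, hP, Matrix.vecMulVec_smul, Units.val_one, Matrix.kronecker_add,
          Matrix.one_kronecker_one, Matrix.kronecker_smul]
        rfl
      have e2 : (((kr (1 : GL α F) b)⁻¹ : GL (α × Fin m) F) : Matrix (α × Fin m) (α × Fin m) F) = 1 - c • P u :=
        Units.inv_eq_of_mul_eq_one_right (by
          rw [e1]; exact one_add_sq_inv (by rw [smul_mul_smul_comm, hPP u u (S.alt u), smul_zero]))
      have := T.sub_mem (hconj b hbi N hN) hN
      rw [e1, e2] at this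
      convert this using 1
      simp only [add_mul, mul_sub, one_mul, mul_one, Matrix.smul_mul, Matrix.mul_smul, smul_sub, smul_smul]
      abel
    have a := key 1
    have b := key (-1)
    refine ⟨?_, ?_⟩
    · convert T.smul_mem (-2 : F)⁻¹ (T.add_mem a b) using 1
      match_scalars <;> field_simp <;> ring
    · convert T.smul_mem (2 : F)⁻¹ (T.sub_mem a b) using 1
      match_scalars <;> field_simp <;> ring
  by_cases hu : ∃ u, R u u ≠ 0
  · obtain ⟨u, hu⟩ := hu
    refine Or.inl ⟨R u u, u, hu, fun e => hu ?_, ?_⟩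
    · refine Matrix.toLin'.injective (LinearMap.ext fun a => funext fun i => ?_)
      rw [Matrix.toLin'_apply, hR, e, map_zero]
      exact S.refl.zero_right _
    · rw [nm, ← hsand]
      exact (hQD u M hM).1
  push Not at hu
  have hanti : ∀ u v, R v u = -R u v := fun u v => Matrix.toLin'.injective (LinearMap.ext fun a => by
    have e : R (u + v) (u + v) *ᵥ a = R u u *ᵥ a + R u v *ᵥ a + (R v u *ᵥ a + R v v *ᵥ a) := by
      simp only [hR, tm_add_right, Matrix.mulVec_add, ctr_add D, ctr_add_vec D]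
      abel
    rw [hu, hu, hu, Matrix.zero_mulVec, zero_add, add_zero] at e
    rw [Matrix.toLin'_apply, Matrix.toLin'_apply, Matrix.neg_mulVec]
    exact eq_neg_of_add_eq_zero_right e.symm)
  by_cases huv : ∃ u v, f u v = 0 ∧ R u v ≠ 0
  · obtain ⟨u, v, h0, hne⟩ := huv
    have hspan : v ∉ Submodule.span F {u} := fun e => by
      obtain ⟨r, rfl⟩ := Submodule.mem_span_singleton.1 e
      refine hne (Matrix.toLin'.injective (LinearMap.ext fun a => ?_))
      rw [Matrix.toLin'_apply, hR, tm_smul_right, Matrix.mulVec_smul, ctr_smul D, ← hR, hu, map_zero]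
      simp
    refine Or.inr (Or.inl ⟨R u v, u, v, hne, fun e => hne ?_, hspan, h0, ?_⟩)
    · refine Matrix.toLin'.injective (LinearMap.ext fun a => funext fun i => ?_)
      rw [Matrix.toLin'_apply, hR, e, map_zero]
      exact S.refl.zero_right _
    · have := (hQD u _ (hQD v M hM).2).2
      convert this using 1
      have e : R u v ⊗ₖ lam f u v = -(P u * M * P v + P v * M * P u) := by
        rw [hsand, hsand, hanti u v, lam]
        ext ⟨i, j⟩ ⟨k, l⟩
        simp only [kroneckerMap_apply, Matrix.sub_apply, Matrix.neg_apply, Matrix.add_apply]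
        ring
      rw [e]
      calc -(P u * M * P v + P v * M * P u) =
          -(P u * M * P v + P v * M * P u) + (P u * P v) * M + M * (P v * P u) := by
            rw [hPP u v (S.refl.eq_zero_swap h0), hPP v u h0, zero_mul, mul_zero, add_zero, add_zero]
        _ = _ := by noncomm_ring
  push Not at huv
  refine Or.inr (Or.inr ?_)
  have hz : ∀ a v, ∃ z, M *ᵥ tm a v = tm z v := fun a v => eq_tm_of_ctr D fun v' hv' => by
    rw [← hR, huv v' v hv', Matrix.zero_mulVec]
  choose z hz using hz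
  obtain ⟨o, ho⟩ : ∃ o : Fin m → F, o ≠ 0 := ⟨Pi.single ⟨0, by omega⟩ 1, by simp⟩
  obtain ⟨o', ho', -⟩ := exists_partner S ho
  have hsame : ∀ a v, (∀ r : F, v ≠ r • o) → z a v = z a o := by
    intro a v hv
    have hv0 : v ≠ 0 := fun e => hv 0 (by rw [e, zero_smul])
    have e : tm (z a (v + o) - z a v) v = tm (z a o - z a (v + o)) o := by
      have := hz a (v + o)
      rw [tm_add_right, Matrix.mulVec_add, hz, hz, tm_add_right] at this
      rw [TensorMax.Form.tm_sub_left, TensorMax.Form.tm_sub_left, sub_eq_sub_iff_add_eq_add, ← this]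
      abel
    by_cases h : z a (v + o) - z a v = 0
    · rw [h, TensorMax.Form.tm_zero_left] at e
      rcases TensorMax.Form.tm_eq_zero e.symm with h' | h'
      · exact (sub_eq_zero.1 h).symm.trans (sub_eq_zero.1 h').symm
      · exact absurd h' ho
    · obtain ⟨c, hc, -, hco⟩ := tm_inj e h hv0
      exact absurd (show v = c⁻¹ • o by rw [hco, smul_smul, inv_mul_cancel₀ hc, one_smul]) (hv _)
  obtain ⟨B, hB⟩ : ∃ B : Matrix α α F, ∀ a, B *ᵥ a = z a o :=
    ⟨R o' o * 1 * ((f o o')⁻¹ • (1 : Matrix α α F)), fun a => by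
      rw [Matrix.mul_one, ← Matrix.mulVec_mulVec, Matrix.smul_mulVec, Matrix.one_mulVec, hR, hz, ctr_tm D]
      have : f o o' ≠ 0 := fun e => one_ne_zero (ho'.symm.trans (S.refl.eq_zero_swap e))
      have hl : z ((f o o')⁻¹ • a) o = (f o o')⁻¹ • z a o := by
        have e1 := hz ((f o o')⁻¹ • a) o
        rw [tm_smul_left, Matrix.mulVec_smul, hz, ← tm_smul_left] at e1
        have e2 := congrArg (ctr f o') e1
        rw [ctr_tm D, ctr_tm D] at e2
        exact (smul_right_injective _ this e2).symm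
      rw [hl, smul_smul, mul_inv_cancel₀ this, one_smul]⟩
  refine ⟨B, Matrix.toLin'.injective (LinearMap.ext fun x => ?_)⟩
  rw [Matrix.toLin'_apply, Matrix.toLin'_apply]
  refine ext_pure (fun a v => ?_) x
  have hkr : (B ⊗ₖ (1 : Matrix (Fin m) (Fin m) F)) *ᵥ tm a v = tm (B *ᵥ a) v := by
    rw [show tm a v = (fun p : α × Fin m => a p.1 * v p.2) from rfl, TensorPowerMax.kron_mulVec, Matrix.one_mulVec]
    rfl
  rw [hkr, hB]
  by_cases hv : ∃ r : F, v = r • o
  · obtain ⟨r, rfl⟩ := hv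
    rw [tm_smul_right, Matrix.mulVec_smul, hz, tm_smul_right]
  · push Not at hv
    rw [hz, hsame a v hv]

/-- The factor groups of the other factors. -/
theorem kr_left_mem {X : Subgroup (GL (Fin (t + 1) → Fin m) F)} (hX : Ks f (t + 1) ≤ X) (i : Fin (t + 1))
    {a : GL (Fin t → Fin m) F} (ha : a ∈ Ks f t) : J i (kr a (1 : GL (Fin m) F)) ∈ X := by
  induction ha using Subgroup.closure_induction with
  | mem a ha =>
    obtain ⟨j, b, hb, rfl⟩ := ha
    rw [J_kr_fac]
    exact hX (facGL_mem_ks _ hb)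
  | one => rw [kr_one, map_one]; exact one_mem _
  | mul a b _ _ ha hb =>
    rw [show kr (a * b) (1 : GL (Fin m) F) = kr a 1 * kr b 1 by rw [kr_mul, one_mul], map_mul]
    exact mul_mem ha hb
  | inv a _ ha =>
    rw [show kr a⁻¹ (1 : GL (Fin m) F) = (kr a 1)⁻¹ by rw [kr_inv, inv_one], map_inv]
    exact inv_mem ha

/-- The splitting at a factor, linearly. -/
def embL (i : Fin (t + 1)) (Y : Matrix (Fin m) (Fin m) F) :
    Matrix (Fin t → Fin m) (Fin t → Fin m) F →ₗ[F] Matrix (Fin (t + 1) → Fin m) (Fin (t + 1) → Fin m) F where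
  toFun N := Emb i Y N
  map_add' := emb_add i Y
  map_smul' := emb_smul i Y

/-- Conjugation of an embedded matrix by the other factors. -/
theorem emb_left_conj (i : Fin (t + 1)) (a : GL (Fin t → Fin m) F) (Y : Matrix (Fin m) (Fin m) F)
    (N : Matrix (Fin t → Fin m) (Fin t → Fin m) F) :
    (J i (kr a (1 : GL (Fin m) F)) : Matrix (Fin (t + 1) → Fin m) (Fin (t + 1) → Fin m) F) * Emb i Y N *
      (((J i (kr a (1 : GL (Fin m) F)))⁻¹ : GL (Fin (t + 1) → Fin m) F) : Matrix _ _ F) =
      Emb i Y ((a : Matrix (Fin t → Fin m) (Fin t → Fin m) F) * N *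
        ((a⁻¹ : GL (Fin t → Fin m) F) : Matrix (Fin t → Fin m) (Fin t → Fin m) F)) := by
  rw [Emb, J_conj, Emb, kr_inv, kr_val, kr_val, inv_one, Units.val_one, ← Matrix.mul_kronecker_mul,
    ← Matrix.mul_kronecker_mul, Matrix.one_mul, Matrix.mul_one]

/-- The reduction. -/
theorem reduce (S : SForm f) (h2 : (2 : F) ≠ 0) (hm : 2 ≤ m) :
    ∀ (s : ℕ) (T : Submodule F (Matrix (Fin s → Fin m) (Fin s → Fin m) F)),
      (∀ g ∈ Ks f s, ∀ M ∈ T, (g : Matrix (Fin s → Fin m) (Fin s → Fin m) F) * M *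
        ((g⁻¹ : GL (Fin s → Fin m) F) : Matrix (Fin s → Fin m) (Fin s → Fin m) F) ∈ T) →
      ∀ M ∈ T, M ≠ 0 → ∃ (τ : Fin s → Ty) (A : Fin s → Matrix (Fin m) (Fin m) F),
        (∀ k, Re f (τ k) (A k)) ∧ pureM A ∈ T ∧ ((∀ r : F, M ≠ r • 1) → ∃ k, τ k ≠ Ty.O) := by
  intro s
  induction s with
  | zero =>
    intro T _ M hM hM0
    have e : M = M default default • 1 := Matrix.ext fun x y => by
      rw [Subsingleton.elim x default, Subsingleton.elim y default, Matrix.smul_apply, Matrix.one_apply_eq,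
        smul_eq_mul, mul_one]
    have hd : M default default ≠ 0 := fun e0 => hM0 (by rw [e, e0, zero_smul])
    refine ⟨fun k => k.elim0, fun k => k.elim0, fun k => k.elim0, ?_, fun h => absurd e (h _)⟩
    have h1 := T.smul_mem (M default default)⁻¹ hM
    rw [e, smul_smul, Matrix.smul_apply, Matrix.one_apply_eq, smul_eq_mul, mul_one, inv_mul_cancel₀ hd, one_smul] at h1
    convert h1 using 1
    ext x y
    rw [Subsingleton.elim x y, Matrix.one_apply_eq]
    simp [pureM]
  | succ s ih =>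
    intro T hT M hM hM0
    obtain ⟨M', rfl⟩ := (Matrix.reindex (α := F) (spl (0 : Fin (s + 1))) (spl 0)).surjective M
    have finish : ∀ (a : Ty) (A₀ : Matrix (Fin m) (Fin m) F) (B : Matrix (Fin s → Fin m) (Fin s → Fin m) F),
        Re f a A₀ → B ≠ 0 → Emb 0 A₀ B ∈ T →
        (a ≠ Ty.O ∨ ((∀ r : F, Matrix.reindex (spl 0) (spl 0) M' ≠ r • 1) → ∀ r : F, B ≠ r • 1)) →
        ∃ (τ : Fin (s + 1) → Ty) (A : Fin (s + 1) → Matrix (Fin m) (Fin m) F),
        (∀ k, Re f (τ k) (A k)) ∧ pureM A ∈ T ∧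
          ((∀ r : F, Matrix.reindex (spl 0) (spl 0) M' ≠ r • 1) → ∃ k, τ k ≠ Ty.O) := by
      intro a A₀ B hA₀ hB hBT hns
      obtain ⟨τ, A, hA, hAT, hτ⟩ := ih (T.comap (embL 0 A₀)) (fun g hg N hN => by
        show Emb 0 A₀ _ ∈ T
        rw [← emb_left_conj]
        exact hT _ (kr_left_mem le_rfl 0 hg) _ hN) B hBT hB
      refine ⟨(0 : Fin (s + 1)).insertNth a τ, (0 : Fin (s + 1)).insertNth A₀ A, fun k => ?_, ?_, fun h => ?_⟩
      · rcases Fin.eq_self_or_eq_succAbove 0 k with rfl | ⟨k, rfl⟩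
        · rw [Fin.insertNth_apply_same, Fin.insertNth_apply_same]; exact hA₀
        · rw [Fin.insertNth_apply_succAbove, Fin.insertNth_apply_succAbove]; exact hA k
      · rw [← emb_pureM]; exact hAT
      · by_cases ha : a = Ty.O
        · obtain ⟨k, hk⟩ := hτ ((hns.resolve_left (not_not_intro ha)) h)
          exact ⟨(0 : Fin (s + 1)).succAbove k, by rw [Fin.insertNth_apply_succAbove]; exact hk⟩
        · exact ⟨0, by rw [Fin.insertNth_apply_same]; exact ha⟩
    rcases slot_cases S (data S s) h2 hm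
      (T.comap (Matrix.reindexLinearEquiv F F (spl (0 : Fin (s + 1))) (spl 0)).toLinearMap) (fun b hb N hN => by
        show Matrix.reindex (spl 0) (spl 0) _ ∈ T
        rw [← J_conj, J_kr_right]
        exact hT _ (facGL_mem_ks 0 hb) _ hN) (M := M') hM with
      ⟨B, u, hB, hu, h⟩ | ⟨B, u, v, hB, hu, hv, huv, h⟩ | ⟨B, rfl⟩
    · exact finish Ty.N _ B ⟨u, hu, rfl⟩ hB h (Or.inl (by decide))
    · exact finish Ty.L _ B ⟨u, v, hu, hv, huv, rfl⟩ hB h (Or.inl (by decide))
    · refine finish Ty.O 1 B rfl (fun e => hM0 (by rw [e]; simp)) hM (Or.inr fun h r e => h r ?_)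
      rw [e, Matrix.smul_kronecker, Matrix.one_kronecker_one]
      ext x y
      simp [Matrix.one_apply]

end Cfsg.Agent.Classical.TensorPowerMax.Symplectic
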