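/-
An algebra of operators invariant under the factor groups is scalar or contains all matrices of one factor.
-/
import Cfsg.Agent.Lib.Classical.STPow.Reduce

set_option autoImplicit false
set_option linter.unusedSectionVars false

namespace Cfsg.Agent.Classical.TensorPowerMax.Symplectic

open Matrix Cfsg.Geo
open Cfsg.Agent.Classical
open Cfsg.Agent.Classical.TensorPowerMax
open Cfsg.Agent.Classical.TensorPowerMax.Unitary (tp fl nm emb_pureM J_conj)
open Cfsg.Agent.Classical.TensorMax (kr kr_val kr_mul kr_one kr_inv)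
open Cfsg.Agent.Classical.TensorMax.Form (SForm exists_stv tgen_iso tmove_one tmove_pair Data tm ctr
  ext_pure eq_tm_of_ctr tm_inj ctr_add ctr_tm ctr_smul ctr_add_vec tm_add_left tm_add_right tm_smul_left tm_smul_right)
open scoped Kronecker

variable {F : Type*} [Field F] [Fintype F] {m t : ℕ} {f : (Fin m → F) → (Fin m → F) → F}

local notation "idF" => RingEquiv.refl F

/-- Irreducibility: a non-zero operator has a non-zero product with one of its translates. -/
theorem exists_sandwich (S : SForm f) {B : Matrix (Fin t → Fin m) (Fin t → Fin m) F} (hB : B ≠ 0) :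
    ∃ h ∈ Ks f t, B * (h : Matrix (Fin t → Fin m) (Fin t → Fin m) F) * B ≠ 0 := by
  classical
  by_contra hcon
  push Not at hcon
  obtain ⟨W, hW⟩ : ∃ W, W = Submodule.span F {y | ∃ h ∈ Ks f t, ∃ x,
      y = (h : Matrix (Fin t → Fin m) (Fin t → Fin m) F) *ᵥ (B *ᵥ x)} := ⟨_, rfl⟩
  have hker : W ≤ LinearMap.ker B.mulVecLin := by
    rw [hW, Submodule.span_le]
    rintro _ ⟨h, hh, x, rfl⟩
    rw [SetLike.mem_coe, LinearMap.mem_ker, Matrix.mulVecLin_apply, Matrix.mulVec_mulVec, Matrix.mulVec_mulVec,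
      hcon h hh, Matrix.zero_mulVec]
  have hinv : ∀ g ∈ Ks f t, ∀ y ∈ W, (g : Matrix (Fin t → Fin m) (Fin t → Fin m) F) *ᵥ y ∈ W := by
    intro g hg y hy
    rw [hW] at hy ⊢
    induction hy using Submodule.span_induction with
    | mem y hy =>
      obtain ⟨h, hh, x, rfl⟩ := hy
      exact Submodule.subset_span ⟨g * h, mul_mem hg hh, x, by rw [gl_mul_mulVec]⟩
    | zero => rw [Matrix.mulVec_zero]; exact Submodule.zero_mem _
    | add a b _ _ ha hb => rw [Matrix.mulVec_add]; exact Submodule.add_mem _ ha hb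
    | smul r a _ ha => rw [Matrix.mulVec_smul]; exact Submodule.smul_mem _ r ha
  obtain ⟨x, hx⟩ : ∃ x, B *ᵥ x ≠ 0 := by
    by_contra! hh
    exact hB (Matrix.ext_of_mulVec_single fun i => by rw [hh, Matrix.zero_mulVec])
  have hne : W ≠ ⊥ := fun e => hx (by
    have : B *ᵥ x ∈ W := hW ▸ Submodule.subset_span ⟨1, one_mem _, x, by rw [Units.val_one, Matrix.one_mulVec]⟩
    rwa [e, Submodule.mem_bot] at this)
  exact hx ((LinearMap.mem_ker (f := B.mulVecLin)).1 (hker (irreducible S hinv hne ▸ Submodule.mem_top (x := x))))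

/-- Every matrix is a combination of the maps `v ↦ f v b • a`. -/
theorem mem_of_vmv (S : SForm f) (T : Submodule F (Matrix (Fin m) (Fin m) F))
    (h : ∀ a b, vecMulVec a (fl f b) ∈ T) (Y : Matrix (Fin m) (Fin m) F) : Y ∈ T := by
  classical
  induction Y using Matrix.induction_on' with
  | h_zero => exact T.zero_mem
  | h_add X Y hX hY => exact T.add_mem hX hY
  | h_std_basis a b c =>
    obtain ⟨u, hu⟩ := S.refl.gram_isUnit
    have e : fl f (((u⁻¹ : (Matrix (Fin m) (Fin m) F)ˣ) : Matrix (Fin m) (Fin m) F) *ᵥ Pi.single b 1) =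
        Pi.single b 1 := by
      funext k
      rw [fl, S.refl.apply_eq, show ((RingEquiv.refl F : F ≃+* F) : F → F) ∘ (((u⁻¹ : (Matrix (Fin m) (Fin m) F)ˣ) : Matrix (Fin m) (Fin m) F) *ᵥ Pi.single b 1) = ((u⁻¹ : (Matrix (Fin m) (Fin m) F)ˣ) : Matrix (Fin m) (Fin m) F) *ᵥ Pi.single b 1 from rfl,
        ← hu, Matrix.mulVec_mulVec, Units.mul_inv, Matrix.one_mulVec, single_dotProduct, one_mul]
    have h' := T.smul_mem c (h (Pi.single a 1)
      (((u⁻¹ : (Matrix (Fin m) (Fin m) F)ˣ) : Matrix (Fin m) (Fin m) F) *ᵥ Pi.single b 1))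
    rwa [e, ← Matrix.single_eq_single_vecMulVec_single, Matrix.smul_single, smul_eq_mul, mul_one] at h'

/-- The step at one factor. -/
theorem slot_alg {s : ℕ} (S : SForm f) (hm : 4 ≤ m)
    (T : Submodule F (Matrix ((Fin s → Fin m) × Fin m) ((Fin s → Fin m) × Fin m) F))
    (hmul : ∀ M ∈ T, ∀ N ∈ T, M * N ∈ T)
    (hright : ∀ b : GL (Fin m) F,
      (∀ u v, f ((b : Matrix (Fin m) (Fin m) F) *ᵥ u) ((b : Matrix (Fin m) (Fin m) F) *ᵥ v) = f u v) → ∀ M ∈ T,
      (kr (1 : GL (Fin s → Fin m) F) b : Matrix _ _ F) * M * (((kr (1 : GL (Fin s → Fin m) F) b)⁻¹ : GL _ F) : Matrix _ _ F) ∈ T)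
    (hleft : ∀ a ∈ Ks f s, ∀ M ∈ T,
      (kr a (1 : GL (Fin m) F) : Matrix _ _ F) * M * (((kr a (1 : GL (Fin m) F))⁻¹ : GL _ F) : Matrix _ _ F) ∈ T) :
    (∀ M ∈ T, ∃ B : Matrix (Fin s → Fin m) (Fin s → Fin m) F, M = B ⊗ₖ (1 : Matrix (Fin m) (Fin m) F)) ∨
      ∃ B : Matrix (Fin s → Fin m) (Fin s → Fin m) F, B ≠ 0 ∧ ∀ Y, B ⊗ₖ Y ∈ T := by
  classical
  have D := data S s
  by_cases hall : ∀ M ∈ T, ∀ u v : Fin m → F, f u v = 0 → v ∉ Submodule.span F {u} → ∀ a, ctr f u (M *ᵥ tm a v) = 0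
  · refine Or.inl fun M hM => ?_
    have h0 : ∀ u v, f u v = 0 → ∀ a, ctr f u (M *ᵥ tm a v) = 0 := by
      intro u v huv a
      by_cases hv : v ∈ Submodule.span F {u}
      · obtain ⟨r, rfl⟩ := Submodule.mem_span_singleton.1 hv
        suffices h : ctr f u (M *ᵥ tm a u) = 0 by rw [tm_smul_right, Matrix.mulVec_smul, ctr_smul D, h, smul_zero]
        rcases eq_or_ne u 0 with rfl | hu
        · exact funext fun i => S.refl.zero_right _
        obtain ⟨z, hz, hzu⟩ : ∃ z, f u z = 0 ∧ z ∉ Submodule.span F {u} := by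
          by_contra hcon
          push Not at hcon
          have hle : S.refl.perp (Submodule.span F {u}) ≤ Submodule.span F {u} := fun d hd =>
            hcon d (S.refl.eq_zero_swap (hd u (Submodule.mem_span_singleton_self u)))
          have h1 := Submodule.finrank_mono hle
          have h2 := S.refl.finrank_perp (Submodule.span F {u})
          rw [finrank_span_singleton hu] at h1 h2
          rw [Fintype.card_fin] at h2
          omega
        have e1 := hall M hM u (z + u) (by rw [S.refl.semi.add_right, hz, S.alt, add_zero])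
          (fun e => hzu (by have := sub_mem e (Submodule.mem_span_singleton_self u); rwa [add_sub_cancel_right] at this)) a
        rwa [tm_add_right, Matrix.mulVec_add, ctr_add D, hall M hM u z hz hzu a, zero_add] at e1
      · exact hall M hM u v huv hv a
    have hz : ∀ a v, ∃ z, M *ᵥ tm a v = tm z v := fun a v => eq_tm_of_ctr D fun v' hv' => h0 v' v hv' a
    choose z hz using hz
    obtain ⟨o, ho⟩ : ∃ o : Fin m → F, o ≠ 0 := ⟨Pi.single ⟨0, by omega⟩ 1, by simp⟩
    obtain ⟨o', ho', -⟩ := exists_partner S ho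
    have hsame : ∀ a v, (∀ r : F, v ≠ r • o) → z a v = z a o := by
      intro a v hv
      have hv0 : v ≠ 0 := fun e => hv 0 (by rw [e, zero_smul])
      have e : tm (z a (v + o) - z a v) v = tm (z a o - z a (v + o)) o := by
        have := hz a (v + o)
        rw [tm_add_right, Matrix.mulVec_add, hz, hz, tm_add_right] at this
        rw [TensorMax.Form.tm_sub_left, TensorMax.Form.tm_sub_left, sub_eq_sub_iff_add_eq_add, ← this]
        abel
      by_cases h : z a (v + o) - z a v = 0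
      · rw [h, TensorMax.Form.tm_zero_left] at e
        rcases TensorMax.Form.tm_eq_zero e.symm with h' | h'
        · exact (sub_eq_zero.1 h).symm.trans (sub_eq_zero.1 h').symm
        · exact absurd h' ho
      · obtain ⟨c, hc, -, hco⟩ := tm_inj e h hv0
        exact absurd (show v = c⁻¹ • o by rw [hco, smul_smul, inv_mul_cancel₀ hc, one_smul]) (hv _)
    let L : ((Fin s → Fin m) → F) →ₗ[F] ((Fin s → Fin m) → F) :=
      { toFun := fun a => ctr f o' (M *ᵥ tm a o)
        map_add' := fun a b => by rw [tm_add_left, Matrix.mulVec_add, ctr_add D]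
        map_smul' := fun r a => by rw [tm_smul_left, Matrix.mulVec_smul, ctr_smul D]; rfl }
    refine ⟨-LinearMap.toMatrix' L, Matrix.toLin'.injective (LinearMap.ext fun x => ?_)⟩
    rw [Matrix.toLin'_apply, Matrix.toLin'_apply]
    refine ext_pure (fun a v => ?_) x
    have hB : (-LinearMap.toMatrix' L) *ᵥ a = z a o := by
      rw [Matrix.neg_mulVec, ← Matrix.toLin'_apply, Matrix.toLin'_toMatrix']
      show -(ctr f o' (M *ᵥ tm a o)) = _
      rw [hz, ctr_tm D, S.swap o' o, ho', neg_smul, one_smul, neg_neg]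
    rw [show ((-LinearMap.toMatrix' L) ⊗ₖ (1 : Matrix (Fin m) (Fin m) F)) *ᵥ tm a v = tm ((-LinearMap.toMatrix' L) *ᵥ a) v by
      rw [show tm a v = (fun p : (Fin s → Fin m) × Fin m => a p.1 * v p.2) from rfl, TensorPowerMax.kron_mulVec,
        Matrix.one_mulVec]
      rfl, hB]
    by_cases hv : ∃ r : F, v = r • o
    · obtain ⟨r, rfl⟩ := hv
      rw [tm_smul_right, Matrix.mulVec_smul, hz, tm_smul_right]
    · push Not at hv
      rw [hz, hsame a v hv]
  right
  push Not at hall
  obtain ⟨M, hM, u, v, huv, hind, a₀, ha₀⟩ := hall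
  have hR : ∀ w y, ∃ R : Matrix (Fin s → Fin m) (Fin s → Fin m) F, ∀ a, R *ᵥ a = ctr f w (M *ᵥ tm a y) := fun w y => by
    let L : ((Fin s → Fin m) → F) →ₗ[F] ((Fin s → Fin m) → F) :=
      { toFun := fun a => ctr f w (M *ᵥ tm a y)
        map_add' := fun a b => by rw [tm_add_left, Matrix.mulVec_add, ctr_add D]
        map_smul' := fun r a => by rw [tm_smul_left, Matrix.mulVec_smul, ctr_smul D]; rfl }
    exact ⟨LinearMap.toMatrix' L, fun a => by rw [← Matrix.toLin'_apply, Matrix.toLin'_toMatrix']; rfl⟩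
  choose R hR using hR
  have hne : R u v ≠ 0 := fun e => ha₀ (by rw [← hR, e, Matrix.zero_mulVec])
  obtain ⟨P, hP⟩ : ∃ P : (Fin m → F) → Matrix ((Fin s → Fin m) × Fin m) ((Fin s → Fin m) × Fin m) F,
      ∀ u, P u = (1 : Matrix (Fin s → Fin m) (Fin s → Fin m) F) ⊗ₖ nm f u := ⟨_, fun _ => rfl⟩
  have hsand : ∀ u v, P u * M * P v = R u v ⊗ₖ vecMulVec u (fl f v) := fun u v =>
    Matrix.toLin'.injective (LinearMap.ext fun x => by
      simp only [Matrix.toLin'_apply, ← Matrix.mulVec_mulVec, hP, nm, kron_vmv S, Matrix.one_mulVec, hR])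
  have hX : R u v ⊗ₖ vecMulVec u (fl f v) + R v u ⊗ₖ vecMulVec v (fl f u) ∈ T := by
    have hT : ∀ w, ∃ b : GL (Fin m) F,
        (∀ u v, f ((b : Matrix (Fin m) (Fin m) F) *ᵥ u) ((b : Matrix (Fin m) (Fin m) F) *ᵥ v) = f u v) ∧
        (kr (1 : GL (Fin s → Fin m) F) b : Matrix _ _ F) = 1 + P w := fun w => by
      obtain ⟨b, hb, -, hbi⟩ := exists_stv S w 1
      refine ⟨b, hbi, ?_⟩
      rw [kr_val, stv_val S hb, one_smul, hP, Units.val_one, Matrix.kronecker_add, Matrix.one_kronecker_one]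
      rfl
    obtain ⟨b, hbi, eb⟩ := hT u
    obtain ⟨c, hci, ec⟩ := hT v
    have hPP : ∀ w y, f y w = 0 → P w * P y = 0 := fun w y h => by
      rw [hP, hP, ← Matrix.mul_kronecker_mul, nm, nm, Matrix.vecMulVec_mul_vecMulVec, fl_dot S, h, zero_smul,
        Matrix.vecMulVec_zero, Matrix.kronecker_zero]
    have eb' : (((kr (1 : GL (Fin s → Fin m) F) b)⁻¹ : GL _ F) : Matrix _ _ F) = 1 - P u :=
      Units.inv_eq_of_mul_eq_one_right (by rw [eb]; exact one_add_sq_inv (hPP u u (S.alt u)))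
    have ec' : (((kr (1 : GL (Fin s → Fin m) F) c)⁻¹ : GL _ F) : Matrix _ _ F) = 1 - P v :=
      Units.inv_eq_of_mul_eq_one_right (by rw [ec]; exact one_add_sq_inv (hPP v v (S.alt v)))
    have h1 := hright b hbi M hM
    have h2 := hright c hci M hM
    have h3 := hright b hbi _ h2
    rw [eb, eb'] at h1 h3
    rw [ec, ec'] at h2 h3
    have := T.sub_mem (T.sub_mem (T.add_mem h1 h2) h3) hM
    convert this using 1
    rw [← hsand, ← hsand]
    obtain ⟨d, hd⟩ : ∃ d, d = P v * M - M * P v - P v * M * P v := ⟨_, rfl⟩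
    have p1 : P u * P v = 0 := hPP u v (S.refl.eq_zero_swap huv)
    have p2 : P v * P u = 0 := hPP v u huv
    have d1 : P u * d = -(P u * M * P v) := by
      rw [hd, mul_sub, mul_sub, ← mul_assoc, ← mul_assoc, ← mul_assoc, ← mul_assoc, p1, zero_mul, zero_mul, zero_sub,
        sub_zero]
    have d2 : d * P u = P v * M * P u := by
      rw [hd, sub_mul, sub_mul, mul_assoc M, mul_assoc (P v * M) (P v), p2, mul_zero, mul_zero, sub_zero, sub_zero]
    have d3 : P u * d * P u = 0 := by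
      rw [d1, neg_mul, mul_assoc (P u * M), p2, mul_zero, neg_zero]
    have e2 : (1 + P v) * M * (1 - P v) = M + d := by rw [hd]; noncomm_ring
    have e1 : (1 + P u) * M * (1 - P u) + (1 + P v) * M * (1 - P v) - (1 + P u) * (M + d) * (1 - P u) - M =
        -(P u * d) + d * P u + P u * d * P u := by rw [e2]; noncomm_ring
    rw [e2] at e1 ⊢
    rw [e1, d3, d1, d2]
    abel
  obtain ⟨p, hp, hpv, -⟩ := TensorMax.Form.exists_avoid S (W := Submodule.span F {u}) (u := v) (v := v) hind hind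
  have hpu : f p u = 0 := hp u (Submodule.mem_span_singleton_self u)
  have hpv' : f p v ≠ 0 := fun e => hpv (S.refl.eq_zero_swap e)
  have hu0 : u ≠ 0 := fun e => hpv' (by
    exfalso
    exact ha₀ (by rw [e]; exact funext fun i => S.refl.zero_right _))
  have hp0 : p ≠ 0 := fun e => hpv' (by rw [e, S.refl.zero_left])
  have hup : u ∉ Submodule.span F {p} := fun e => by
    obtain ⟨r, hr⟩ := Submodule.mem_span_singleton.1 e
    have : r = 0 := by
      have := huv
      rw [← hr, S.refl.semi.smul_left, mul_eq_zero] at this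
      exact this.resolve_right hpv'
    exact hu0 (by rw [← hr, this, zero_smul])
  obtain ⟨b, hb, hbu, hbv⟩ := tmove_pair S hu0 hp0 huv hpu hind hup
  have hbi := (tgen_iso S hb).2
  have hBnm : ∃ B : Matrix (Fin s → Fin m) (Fin s → Fin m) F, B ≠ 0 ∧ B ⊗ₖ nm f u ∈ T := by
    obtain ⟨h, hh, hne'⟩ := exists_sandwich S hne
    obtain ⟨A', hA'⟩ : ∃ A', A' = (h : Matrix (Fin s → Fin m) (Fin s → Fin m) F) * R u v *
        ((h⁻¹ : GL (Fin s → Fin m) F) : Matrix (Fin s → Fin m) (Fin s → Fin m) F) := ⟨_, rfl⟩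
    refine ⟨R u v * A', fun e => hne' ?_, ?_⟩
    · have := congrArg (fun N => N * (h : Matrix (Fin s → Fin m) (Fin s → Fin m) F)) e
      simpa [hA', Matrix.mul_assoc] using this
    · have hY := hleft h hh _ (hright b hbi _ hX)
      have hprod := T.smul_mem (f p v)⁻¹ (hmul _ hX _ hY)
      convert hprod using 1
      simp only [kr_inv, inv_one, kr_val, Units.val_one, mul_add, add_mul, ← Matrix.mul_kronecker_mul, Matrix.mul_one,
        Matrix.one_mul]
      have ev : ∀ x y : Fin m → F, (b : Matrix (Fin m) (Fin m) F) * vecMulVec x (fl f y) *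
          ((b⁻¹ : GL (Fin m) F) : Matrix (Fin m) (Fin m) F) =
          vecMulVec ((b : Matrix (Fin m) (Fin m) F) *ᵥ x) (fl f ((b : Matrix (Fin m) (Fin m) F) *ᵥ y)) := fun x y =>
        Matrix.toLin'.injective (LinearMap.ext fun z => by
          simp only [Matrix.toLin'_apply, ← Matrix.mulVec_mulVec, Matrix.vecMulVec_mulVec, op_smul_eq_smul,
            Matrix.mulVec_smul, fl_dot S]
          rw [← hbi, gl_mulVec_inv_cancel])
      rw [ev, ev, hbu, hbv, ← hA']
      simp only [Matrix.vecMulVec_mul_vecMulVec, fl_dot S, S.alt, huv, hpu, S.refl.eq_zero_swap hpu, zero_smul,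
        Matrix.vecMulVec_zero, Matrix.kronecker_zero, add_zero, zero_add, Matrix.vecMulVec_smul, Matrix.kronecker_smul,
        smul_smul, inv_mul_cancel₀ hpv', one_smul, nm]
  obtain ⟨B, hB, hBu⟩ := hBnm
  obtain ⟨h, hh, hne'⟩ := exists_sandwich S hB
  obtain ⟨B', hB'⟩ : ∃ B', B' = (h : Matrix (Fin s → Fin m) (Fin s → Fin m) F) * B *
      ((h⁻¹ : GL (Fin s → Fin m) F) : Matrix (Fin s → Fin m) (Fin s → Fin m) F) := ⟨_, rfl⟩
  refine ⟨B * B', fun e => hne' ?_, fun Y => ?_⟩
  · have := congrArg (fun N => N * (h : Matrix (Fin s → Fin m) (Fin s → Fin m) F)) e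
    simpa [hB', Matrix.mul_assoc] using this
  have hnm : ∀ w, w ≠ 0 → B ⊗ₖ nm f w ∈ T ∧ B' ⊗ₖ nm f w ∈ T := fun w hw => by
    obtain ⟨c, hc, e⟩ := tmove_one S hu0 hw
    have hci := (tgen_iso S hc).2
    have h1 := hright c hci _ hBu
    have e1 : B ⊗ₖ nm f w ∈ T := by
      convert h1 using 1
      simp only [kr_inv, inv_one, kr_val, Units.val_one, ← Matrix.mul_kronecker_mul, Matrix.mul_one, Matrix.one_mul]
      rw [nm_conj S hci, e]
    refine ⟨e1, ?_⟩
    have h2 := hleft h hh _ e1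
    simpa only [hB', kr_inv, inv_one, kr_val, Units.val_one, ← Matrix.mul_kronecker_mul, Matrix.mul_one, Matrix.one_mul]
      using h2
  have hne0 : ∀ x y, f y x ≠ 0 → (B * B') ⊗ₖ vecMulVec x (fl f y) ∈ T := fun x y hxy => by
    have hx : x ≠ 0 := fun e => hxy (by rw [e, S.refl.zero_right])
    have hy : y ≠ 0 := fun e => hxy (by rw [e, S.refl.zero_left])
    have := T.smul_mem (f y x)⁻¹ (hmul _ (hnm x hx).1 _ (hnm y hy).2)
    rwa [← Matrix.mul_kronecker_mul, nm, nm, Matrix.vecMulVec_mul_vecMulVec, fl_dot S, Matrix.vecMulVec_smul,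
      Matrix.kronecker_smul, smul_smul, inv_mul_cancel₀ hxy, one_smul] at this
  let U : Submodule F (Matrix (Fin m) (Fin m) F) :=
    { carrier := {Y | (B * B') ⊗ₖ Y ∈ T}
      add_mem' := fun {a b} ha hb => by
        show (B * B') ⊗ₖ (a + b) ∈ T
        rw [Matrix.kronecker_add]; exact T.add_mem ha hb
      zero_mem' := by
        show (B * B') ⊗ₖ (0 : Matrix (Fin m) (Fin m) F) ∈ T
        rw [Matrix.kronecker_zero]; exact T.zero_mem
      smul_mem' := fun r a ha => by
        show (B * B') ⊗ₖ (r • a) ∈ T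
        rw [Matrix.kronecker_smul]; exact T.smul_mem r ha }
  refine mem_of_vmv S U (fun x y => ?_) Y
  rcases eq_or_ne y 0 with rfl | hy
  · rw [show fl f (0 : Fin m → F) = 0 from funext fun k => S.refl.zero_right _, Matrix.vecMulVec_zero]; exact U.zero_mem
  by_cases hxy : f y x = 0
  · obtain ⟨d, hd⟩ := (S.refl.nondeg y hy).2
    have e1 : vecMulVec (x + d) (fl f y) ∈ U := hne0 _ _ (by rw [S.refl.semi.add_right, hxy, zero_add]; exact hd)
    have := U.sub_mem e1 (hne0 d y hd : vecMulVec d (fl f y) ∈ U)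
    rwa [Matrix.add_vecMulVec, add_sub_cancel_right] at this
  · exact hne0 _ _ hxy

/-- An invariant algebra. -/
theorem alg_cases (S : SForm f) (hm : 4 ≤ m) : ∀ (s : ℕ) (T : Submodule F (Matrix (Fin s → Fin m) (Fin s → Fin m) F)),
    (∀ M ∈ T, ∀ N ∈ T, M * N ∈ T) →
    (∀ g ∈ Ks f s, ∀ M ∈ T, (g : Matrix (Fin s → Fin m) (Fin s → Fin m) F) * M *
      ((g⁻¹ : GL (Fin s → Fin m) F) : Matrix (Fin s → Fin m) (Fin s → Fin m) F) ∈ T) →
    (∃ M ∈ T, M ≠ 0) → 1 ∈ T ∧ ((∃ M ∈ T, ∀ r : F, M ≠ r • 1) → ∃ j, ∀ Y, facM j Y ∈ T) := by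
  intro s
  induction s with
  | zero =>
    intro T _ _ ⟨M, hM, hM0⟩
    have e : ∀ M : Matrix (Fin 0 → Fin m) (Fin 0 → Fin m) F, M = M default default • 1 := fun M =>
      Matrix.ext fun x y => by
        rw [Subsingleton.elim x default, Subsingleton.elim y default, Matrix.smul_apply, Matrix.one_apply_eq,
          smul_eq_mul, mul_one]
    have hd : M default default ≠ 0 := fun e0 => hM0 (by rw [e M, e0, zero_smul])
    refine ⟨?_, fun ⟨N, _, hN⟩ => absurd (e N) (hN _)⟩
    have h1 := T.smul_mem (M default default)⁻¹ hM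
    nth_rewrite 2 [e M] at h1
    rwa [smul_smul, inv_mul_cancel₀ hd, one_smul] at h1
  | succ s ih =>
    intro T hmul hconj hne
    let T₀ := T.comap (Matrix.reindexLinearEquiv F F (spl (0 : Fin (s + 1))) (spl 0)).toLinearMap
    have hre : ∀ M N : Matrix ((Fin s → Fin m) × Fin m) ((Fin s → Fin m) × Fin m) F,
        Matrix.reindex (spl 0) (spl 0) (M * N) = Matrix.reindex (spl 0) (spl 0) M * Matrix.reindex (spl 0) (spl 0) N :=
      fun M N => by simp only [← Matrix.coe_reindexAlgEquiv F F, map_mul]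
    have hmul₀ : ∀ M ∈ T₀, ∀ N ∈ T₀, M * N ∈ T₀ := fun M hM N hN => by
      show Matrix.reindex (spl 0) (spl 0) (M * N) ∈ T
      rw [hre]
      exact hmul _ hM _ hN
    have hleft₀ : ∀ a ∈ Ks f s, ∀ M ∈ T₀, (kr a (1 : GL (Fin m) F) : Matrix _ _ F) * M *
        (((kr a (1 : GL (Fin m) F))⁻¹ : GL _ F) : Matrix _ _ F) ∈ T₀ := fun a ha M hM => by
      show Matrix.reindex (spl 0) (spl 0) _ ∈ T
      rw [← J_conj]
      exact hconj _ (kr_left_mem le_rfl 0 ha) _ hM
    rcases slot_alg S hm T₀ hmul₀ (fun b hb M hM => by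
        show Matrix.reindex (spl 0) (spl 0) _ ∈ T
        rw [← J_conj, J_kr_right]
        exact hconj _ (facGL_mem_ks 0 hb) _ hM) hleft₀ with hall | ⟨C, hC, hCY⟩
    · -- everything is trivial on the first factor
      obtain ⟨h1, h2⟩ := ih (T.comap (embL 0 1)) (fun a ha b hb => by
          show Emb 0 1 (a * b) ∈ T
          rw [show Emb (0 : Fin (s + 1)) (1 : Matrix (Fin m) (Fin m) F) (a * b) = Emb 0 1 a * Emb 0 1 b by
            rw [emb_mul, one_mul]]
          exact hmul _ ha _ hb) (fun g hg N hN => by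
          show Emb 0 1 _ ∈ T
          rw [← emb_left_conj]
          exact hconj _ (kr_left_mem le_rfl 0 hg) _ hN) (by
          obtain ⟨M, hM, hM0⟩ := hne
          obtain ⟨M', rfl⟩ := (Matrix.reindex (α := F) (spl (0 : Fin (s + 1))) (spl 0)).surjective M
          obtain ⟨B, rfl⟩ := hall M' hM
          exact ⟨B, hM, fun e => hM0 (by rw [e]; simp)⟩)
      refine ⟨?_, fun ⟨M, hM, hMs⟩ => ?_⟩
      · have : Emb (0 : Fin (s + 1)) (1 : Matrix (Fin m) (Fin m) F) 1 ∈ T := h1
        rwa [emb_one, facM_one] at this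
      · obtain ⟨M', rfl⟩ := (Matrix.reindex (α := F) (spl (0 : Fin (s + 1))) (spl 0)).surjective M
        obtain ⟨B, rfl⟩ := hall M' hM
        obtain ⟨j, hj⟩ := h2 ⟨B, hM, fun r e => hMs r (by
          rw [e, Matrix.smul_kronecker, Matrix.one_kronecker_one]
          ext x y
          simp [Matrix.one_apply])⟩
        refine ⟨(0 : Fin (s + 1)).succAbove j, fun Y => ?_⟩
        have := hj Y
        change Emb 0 1 (facM j Y) ∈ T at this
        rw [facM, emb_pureM] at this
        convert this using 1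
        rw [facM]
        congr 1
        funext l
        rcases Fin.eq_self_or_eq_succAbove 0 l with rfl | ⟨l, rfl⟩
        · rw [Fin.insertNth_apply_same, Function.update_of_ne (Fin.succAbove_ne 0 j).symm]
        · rw [Fin.insertNth_apply_succAbove]
          simp only [Function.update_apply, (Fin.succAbove_right_injective (p := (0 : Fin (s + 1)))).eq_iff]
    · let T'' : Submodule F (Matrix (Fin s → Fin m) (Fin s → Fin m) F) :=
        ⨅ Y : Matrix (Fin m) (Fin m) F, T.comap (embL 0 Y)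
      have hmem : ∀ {B}, B ∈ T'' ↔ ∀ Y, Emb 0 Y B ∈ T := fun {B} => Submodule.mem_iInf _
      obtain ⟨h1, -⟩ := ih T'' (fun a ha b hb => hmem.2 fun Y => by
          rw [show Emb (0 : Fin (s + 1)) Y (a * b) = Emb 0 Y a * Emb 0 1 b by rw [emb_mul, mul_one]]
          exact hmul _ (hmem.1 ha Y) _ (hmem.1 hb 1)) (fun g hg N hN => hmem.2 fun Y => by
          rw [← emb_left_conj]
          exact hconj _ (kr_left_mem le_rfl 0 hg) _ (hmem.1 hN Y)) ⟨C, hmem.2 hCY, hC⟩
      have hfac : ∀ Y, facM (0 : Fin (s + 1)) Y ∈ T := fun Y => by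
        rw [← emb_one]; exact hmem.1 h1 Y
      exact ⟨by have := hfac 1; rwa [facM_one] at this, fun _ => ⟨0, hfac⟩⟩

/-- An invariant algebra containing the matrices of every factor is everything. -/
theorem mem_of_all_facs (T : Submodule F (Matrix (Fin t → Fin m) (Fin t → Fin m) F)) (h1 : 1 ∈ T)
    (hmul : ∀ M ∈ T, ∀ N ∈ T, M * N ∈ T) (h : ∀ j Y, facM j Y ∈ T) (M : Matrix (Fin t → Fin m) (Fin t → Fin m) F) :
    M ∈ T :=
  mem_of_facs (T : Set _) h1 (fun a b ha hb => T.add_mem ha hb) (fun r a ha => T.smul_mem r ha)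
    (fun a b ha hb => hmul a ha b hb) h M

end Cfsg.Agent.Classical.TensorPowerMax.Symplectic
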