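/-
The stabiliser of a fibre is standard; an element carrying a root element into the standard group is standard.
-/
import Cfsg.Agent.Lib.Classical.STPow.Rad
import Cfsg.Agent.Lib.Classical.UTPow.Moves

set_option autoImplicit false
set_option linter.unusedSectionVars false

namespace Cfsg.Agent.Classical.TensorPowerMax.Symplectic

open Matrix Cfsg.Geo
open Cfsg.Agent.Classical
open Cfsg.Agent.Classical.TensorPowerMax
open Cfsg.Agent.Classical.TensorPowerMax.Unitary (tp tp_spl fl nm)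
open Cfsg.Agent.Classical.TensorMax (kr kr_val kr_mul kr_one kr_inv Kr)
open Cfsg.Agent.Classical.TensorMax.Form (SForm STv exists_stv tgen_top tgen_iso tmove_one Nice TorusCond RootImage tm tf
  ctr Data Rt kr_tm ctr_tm tm_apply tm_eq_zero tm_smul_left tm_smul_right kr_shift)
open scoped Kronecker

variable {F : Type*} [Field F] [Fintype F] {m t : ℕ} {f : (Fin m → F) → (Fin m → F) → F}
  {X : Subgroup (GL (Fin (t + 1) → Fin m) F)}

local notation "idF" => RingEquiv.refl F
local notation:max g:max " ⬝ₘ " x:max =>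
  ((g : GL ((Fin t → Fin m) × Fin m) F) : Matrix ((Fin t → Fin m) × Fin m) ((Fin t → Fin m) × Fin m) F) *ᵥ x

theorem exists_scalar_sq (h2 : (2 : F) ≠ 0) (h3 : Fintype.card F ≠ 3) : ∃ l : F, l ≠ 0 ∧ l * l ≠ 1 := by
  classical
  by_contra! h
  have hsub : (Finset.univ : Finset F) ⊆ {0, 1, -1} := fun x _ => by
    by_cases hx : x = 0
    · simp [hx]
    · rcases mul_self_eq_one_iff.1 (h x hx) with e | e <;> simp [e]
  have h1 := Finset.card_le_card hsub
  have h4 : ({0, 1, -1} : Finset F).card ≤ 3 := Finset.card_le_three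
  rw [Finset.card_univ] at h1
  obtain ⟨p, hp⟩ := CharP.exists F
  haveI : Fact p.Prime := ⟨CharP.char_is_prime F p⟩
  have hc2 : 2 < Fintype.card F := by
    rcases Nat.lt_or_ge 2 (Fintype.card F) with h5 | h5
    · exact h5
    · exfalso
      have h6 : Fintype.card F = 2 := le_antisymm h5 Fintype.one_lt_card
      have : ((Fintype.card F : ℕ) : F) = 0 := FiniteField.cast_card_eq_zero F
      rw [h6] at this
      exact h2 (by exact_mod_cast this)
  omega

/-- The perpendicular of a vector of a plane is its line. -/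
theorem line_of_two (S : SForm f) (hm : m = 2) {u v : Fin m → F} (hu : u ≠ 0) (huv : f v u = 0) :
    v ∈ Submodule.span F {u} := by
  have hle : Submodule.span F {u} ≤ S.refl.perp (Submodule.span F {u}) := by
    rw [Submodule.span_singleton_le_iff_mem]
    intro z hz
    obtain ⟨r, rfl⟩ := Submodule.mem_span_singleton.mp hz
    rw [S.smul_right, S.alt, mul_zero]
  have hdim := S.refl.finrank_perp (Submodule.span F {u})
  rw [finrank_span_singleton hu, Fintype.card_fin] at hdim
  have heq := Submodule.eq_of_le_of_finrank_le hle (by rw [finrank_span_singleton hu]; omega)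
  rw [heq]
  intro z hz
  obtain ⟨r, rfl⟩ := Submodule.mem_span_singleton.mp hz
  rw [S.smul_right, huv, mul_zero]

theorem torus_two (S : SForm f) (hm : m = 2) {l : F} (hl : l ≠ 0) (hl2 : l * l ≠ 1) : TorusCond f := by
  refine ⟨fun u v hu _ _ huv => line_of_two S hm hu (S.refl.eq_zero_swap huv), fun o o₂ ho _ _ ho₂ => ?_⟩
  have ho₂0 : o₂ ≠ 0 := fun e => ho₂ (e ▸ Submodule.zero_mem _)
  obtain ⟨κ, hκ⟩ : ∃ κ, κ = f o o₂ := ⟨_, rfl⟩
  have hκ0 : κ ≠ 0 := fun e => ho₂ (line_of_two S hm ho (S.refl.eq_zero_swap (hκ ▸ e)))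
  have hκ' : f o₂ o = -κ := by rw [hκ, S.swap o o₂]
  let T : F → Matrix (Fin m) (Fin m) F := fun a =>
    1 + ((a - 1) / κ) • vecMulVec o (fl f o₂) + ((a⁻¹ - 1) / (-κ)) • vecMulVec o₂ (fl f o)
  have hT : ∀ a v, T a *ᵥ v = v + (((a - 1) / κ) * f v o₂) • o + (((a⁻¹ - 1) / (-κ)) * f v o) • o₂ := fun a v => by
    simp only [T, Matrix.add_mulVec, Matrix.one_mulVec, Matrix.smul_mulVec, Matrix.vecMulVec_mulVec, fl_dot S,
      op_smul_eq_smul, smul_smul]
  have hTo : ∀ a, T a *ᵥ o = a • o := fun a => by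
    rw [hT, S.alt, mul_zero, zero_smul, add_zero, ← hκ, div_mul_cancel₀ _ hκ0]
    module
  have hTo₂ : ∀ a, T a *ᵥ o₂ = a⁻¹ • o₂ := fun a => by
    rw [hT, S.alt, mul_zero, zero_smul, add_zero, hκ', div_mul_cancel₀ _ (neg_ne_zero.mpr hκ0)]
    module
  have hdec : ∀ v, v = (f v o₂ / κ) • o + (f v o / (-κ)) • o₂ := fun v => by
    refine sub_eq_zero.1 (by_contra fun hne => ?_)
    obtain ⟨w, hw⟩ : ∃ w, w = v - ((f v o₂ / κ) • o + (f v o / (-κ)) • o₂) := ⟨_, rfl⟩
    rw [← hw] at hne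
    have h1 : f w o = 0 := by
      rw [hw, S.sub_left, S.refl.semi.add_left, S.refl.semi.smul_left, S.refl.semi.smul_left, S.alt, mul_zero, zero_add,
        hκ', div_mul_cancel₀ _ (neg_ne_zero.mpr hκ0), sub_self]
    have h2 : f w o₂ = 0 := by
      rw [hw, S.sub_left, S.refl.semi.add_left, S.refl.semi.smul_left, S.refl.semi.smul_left, S.alt, mul_zero, add_zero,
        ← hκ, div_mul_cancel₀ _ hκ0, sub_self]
    obtain ⟨r, hr⟩ := Submodule.mem_span_singleton.mp (line_of_two S hm ho h1)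
    rw [← hr, S.refl.semi.smul_left, ← hκ, mul_eq_zero, or_iff_left hκ0] at h2
    exact hne (by rw [← hr, h2, zero_smul])
  have hiso : ∀ a : F, a ≠ 0 → ∀ u v, f (T a *ᵥ u) (T a *ᵥ v) = f u v := fun a ha u v => by
    conv_lhs => rw [hdec u, hdec v]
    conv_rhs => rw [hdec u, hdec v]
    simp only [Matrix.mulVec_add, Matrix.mulVec_smul, hTo, hTo₂, S.refl.semi.add_left, S.refl.semi.add_right,
      S.refl.semi.smul_left, S.smul_right, S.alt, hκ', ← hκ]
    field_simp
    ring
  have hu : ∀ a : F, a ≠ 0 → T a * T a⁻¹ = 1 := fun a ha => Matrix.toLin'.injective (LinearMap.ext fun v => by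
    rw [Matrix.toLin'_apply, Matrix.toLin'_apply, ← Matrix.mulVec_mulVec, Matrix.one_mulVec]
    conv_lhs => rw [hdec v]
    conv_rhs => rw [hdec v]
    simp only [Matrix.mulVec_add, Matrix.mulVec_smul, hTo, hTo₂, smul_smul, inv_inv]
    rw [mul_assoc, inv_mul_cancel₀ ha, mul_assoc, mul_inv_cancel₀ ha, mul_one, mul_one])
  let G : GL (Fin m) F := ⟨T l, T l⁻¹, hu l hl, by have := hu l⁻¹ (inv_ne_zero hl); rwa [inv_inv] at this⟩
  have hG : ∀ u v, f ((G : Matrix (Fin m) (Fin m) F) *ᵥ u) ((G : Matrix (Fin m) (Fin m) F) *ᵥ v) = f u v := hiso l hl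
  refine ⟨G, l, l, l⁻¹, (tgen_iso S (tgen_top S G hG)).1, hG, hTo l, fun w hw => ⟨0, ?_⟩, hTo₂ l, fun v hv => ?_⟩
  · obtain ⟨r, rfl⟩ := Submodule.mem_span_singleton.mp (line_of_two S hm ho hw)
    rw [zero_smul, add_zero, Matrix.mulVec_smul, show (G : Matrix (Fin m) (Fin m) F) *ᵥ o = l • o from hTo l, smul_comm]
  · change T l *ᵥ v = _ at hv
    rw [hdec v, Matrix.mulVec_add, Matrix.mulVec_smul, Matrix.mulVec_smul, hTo, hTo₂, smul_add] at hv
    have h1 : ((l - l⁻¹) * (f v o₂ / κ)) • o = 0 := by linear_combination (norm := module) hv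
    have h2 : f v o₂ / κ = 0 := ((mul_eq_zero.1 ((smul_eq_zero.1 h1).resolve_right ho))).resolve_left fun e => hl2 (by
      have e' : l = l⁻¹ := sub_eq_zero.1 e
      conv_lhs => arg 2; rw [e']
      rw [mul_inv_cancel₀ hl])
    rw [hdec v, h2, zero_smul, zero_add]
    exact Submodule.smul_mem _ _ (Submodule.mem_span_singleton_self _)

theorem Over.nice (H : Over f X) : Nice idF (-1 : F) f := by
  have S := H.sf
  refine ⟨⟨1, one_ne_zero, by simp⟩, fun v => ⟨0, by simp [S.alt]⟩, ?_, fun u v hu _ hv _ => ?_, ?_,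
    fun u v _ _ => ⟨1, one_ne_zero, S.alt _⟩⟩
  · rcases H.hm with hm | hm
    · obtain ⟨l, hl, hl2⟩ := exists_scalar_sq (H.h2 hm) fun e => H.hex ⟨e, hm⟩
      exact Or.inr (torus_two S hm hl hl2)
    · refine Or.inl fun o o₂ _ _ => ?_
      by_contra hcon
      push Not at hcon
      have hle : S.refl.perp (Submodule.span F {o} ⊔ Submodule.span F {o₂}) ≤ Submodule.span F {o} := fun w hw => by
        by_cases hw0 : w = 0
        · rw [hw0]; exact Submodule.zero_mem _
        exact hcon w hw0 (S.alt w) (hw o (Submodule.mem_sup_left (Submodule.mem_span_singleton_self o)))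
          (hw o₂ (Submodule.mem_sup_right (Submodule.mem_span_singleton_self o₂)))
      have h1 := S.refl.finrank_perp (Submodule.span F {o} ⊔ Submodule.span F {o₂})
      have h2 := Submodule.finrank_mono hle
      have h3 := Submodule.finrank_add_le_finrank_add_finrank (Submodule.span F {o}) (Submodule.span F {o₂})
      have h4 : ∀ w : Fin m → F, Module.finrank F (Submodule.span F {w}) ≤ 1 := fun w => by
        refine le_trans (finrank_span_le_card (R := F) {w}) ?_
        simp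
      have := h4 o
      have := h4 o₂
      rw [Fintype.card_fin] at h1
      omega
  · obtain ⟨b, hb, e⟩ := tmove_one S hu hv
    exact ⟨b, (tgen_iso S hb).1, (tgen_iso S hb).2, 1, one_ne_zero, by rw [e, one_smul]⟩
  · rw [show {v : Fin m → F | f v v = 0} = Set.univ from Set.eq_univ_of_forall S.alt, Submodule.span_univ]

/-- A conjugate root that fixes a fibre pointwise in the stabiliser is a root of the same factor. -/
theorem Over.rootImage (H : Over f X) (i : Fin (t + 1)) : RootImage idF (-1) f (XI X i) := by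
  classical
  intro h hh w c hw hww hc hskew z hz hmem hfix
  have hm := H.two_le
  have S := H.sf
  have D := data S t
  haveI : Nonempty (Fin t → Fin m) := ⟨fun _ => ⟨0, by omega⟩⟩
  obtain ⟨v, hv, hfix⟩ := hfix
  obtain ⟨u, hu⟩ : ∃ u, u = h * z * h⁻¹ := ⟨_, rfl⟩
  rw [← hu] at hmem hfix
  obtain ⟨B, hB⟩ := kr_shift hmem hv hfix
  have hBu : IsUnit B := Matrix.mulVec_injective_iff_isUnit.mp fun x y e => by
    obtain ⟨a₀⟩ := ‹Nonempty (Fin t → Fin m)›
    have e1 : tm (Pi.single a₀ (1 : F)) x = tm (Pi.single a₀ (1 : F)) y := gl_mulVec_injective u (by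
      change u ⬝ₘ _ = u ⬝ₘ _
      rw [hB, hB]; exact congrArg (tm _) e)
    exact funext fun k => by simpa [tm_apply] using congrFun e1 (a₀, k)
  have hukr : u = kr 1 hBu.unit := gl_ext_mulVec fun x => TensorMax.Form.ext_pure (fun a b => by
    rw [hB, kr_tm, Units.val_one, Matrix.one_mulVec, IsUnit.unit_spec]) x
  have hzU : SRootAt f i (J i z) := ⟨w, c, hw, hc, by rwa [MulEquiv.symm_apply_apply]⟩
  have hzX : z ∈ XI X i := H.le (hzU.mem_ks S)
  have hg : J i u = J i h * J i z * (J i h)⁻¹ := by rw [hu, map_mul, map_mul, map_inv]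
  have hfac : J i u = facGL i hBu.unit := by rw [hukr, J_kr_right]
  have hrank := (hzU.rootAt S).rank (by omega)
  have hgX : J i u ∈ X := hg ▸ mul_mem (mul_mem hh hzX) (inv_mem hh)
  have hne : J i u ≠ 1 := fun e => by
    have h1 : J i z = 1 := conj_eq_one_iff.mp (hg ▸ e)
    rw [h1, Units.val_one, sub_self, Matrix.rank_zero] at hrank
    exact absurd hrank.symm (pow_ne_zero _ (by omega))
  have hr : ((J i u : Matrix (Fin (t + 1) → Fin m) (Fin (t + 1) → Fin m) F) - 1).rank = m ^ t := by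
    rw [hg, rank_conj, hrank]
  obtain ⟨j, hj⟩ := classify H.hm' (hfac ▸ facGL_mem _ _) (hg ▸ conj_sq _ _ (hzU.rootAt S).sq) hne hr.le
  have hji : j = i := by
    by_contra hne'
    obtain ⟨f', l, hf', hl, hlf, he⟩ := hj
    obtain ⟨r, hr'⟩ := facM_eq_facM (by omega) hne' (he.symm.trans ((congrArg
      (fun g : GL (Fin (t + 1) → Fin m) F => (g : Matrix (Fin (t + 1) → Fin m) (Fin (t + 1) → Fin m) F)) hfac).trans
      (facGL_val i _)))
    exact RootAt.not_scalar (by omega) ⟨f', l, hf', hl, hlf, he⟩ r (by rw [he, hr', facM_smul, facM_one])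
  obtain ⟨o₁, c', ho₁, -, hR⟩ := srootAt_of_rootAt S (by omega) (hji ▸ hj) (H.iso hgX)
  rw [MulEquiv.symm_apply_apply] at hR
  obtain ⟨o', ho'⟩ := TensorMax.Form.partner D hw
  refine ⟨o₁, ho₁, S.alt _, fun a => ⟨c' • ctr f o₁ (h ⬝ₘ (tm (c⁻¹ • a) o')), ?_⟩⟩
  have e := hR (h ⬝ₘ (tm (c⁻¹ • a) o'))
  rw [hu, gl_mul_mulVec, gl_mul_mulVec, gl_inv_mulVec_cancel, hz, ctr_tm D, ho', one_smul, smul_smul,
    mul_inv_cancel₀ hc, one_smul, Matrix.mulVec_add, add_right_inj] at e
  exact e

/-- An element stabilising a fibre is standard. -/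
theorem Over.fibre_std (H : Over f X) (i : Fin (t + 1)) {o : Fin m → F} (ho : o ≠ 0)
    {h : GL ((Fin t → Fin m) × Fin m) F} (hh : h ∈ XI X i) (hf : ∀ a, ∃ a', h ⬝ₘ (tm a o) = tm a' o) :
    J i h ∈ tensorWreathStandard m (t + 1) F := by
  classical
  haveI : Nonempty (Fin t → Fin m) := ⟨fun _ => ⟨0, by have := H.two_le; omega⟩⟩
  haveI : Nonempty (Fin m) := ⟨⟨0, by have := H.two_le; omega⟩⟩
  obtain ⟨a, b, rfl⟩ := TensorMax.Form.mem_kr (data H.sf t) H.nice (H.toOver i) (H.rootImage i) hh ho (H.sf.alt o) hf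
  exact H.kr_std i hh

/-- The centraliser of a root element is standard. -/
theorem Over.central (H : Over f X) {z g : GL (Fin (t + 1) → Fin m) F} (hz : SRoot f z) (hg : g ∈ X)
    (hc : g * z = z * g) : g ∈ tensorWreathStandard m (t + 1) F := by
  obtain ⟨i, o, c, ho, hc0, hR⟩ := hz
  have D := data H.sf t
  obtain ⟨G, rfl⟩ := (J i).surjective g
  obtain ⟨Z, rfl⟩ := (J i).surjective z
  rw [MulEquiv.symm_apply_apply] at hR
  rw [← map_mul, ← map_mul] at hc
  have hc' := (J i).injective hc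
  refine H.fibre_std i ho hg fun a => ?_
  obtain ⟨o', ho'⟩ := TensorMax.Form.partner D ho
  obtain ⟨x, hx⟩ : ∃ x, x = tm (c⁻¹ • a) o' := ⟨_, rfl⟩
  refine ⟨c • ctr f o (G ⬝ₘ x), ?_⟩
  have e := congrArg (fun w : GL ((Fin t → Fin m) × Fin m) F => w ⬝ₘ x) hc'
  rw [gl_mul_mulVec, gl_mul_mulVec, hR, hR, Matrix.mulVec_add, add_right_inj] at e
  rw [← e, hx, ctr_tm D, ho', one_smul, smul_smul, mul_inv_cancel₀ hc0, one_smul]

/-- An element fixing a fibre pointwise is standard. -/
theorem Over.fixed_fibre (H : Over f X) (i : Fin (t + 1)) {o : Fin m → F} (ho : o ≠ 0)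
    {g : GL (Fin (t + 1) → Fin m) F} (hg : g ∈ X) (hfix : ∀ a, ((J i).symm g) ⬝ₘ (tm a o) = tm a o) :
    g ∈ tensorWreathStandard m (t + 1) F := by
  have := H.fibre_std i ho (h := (J i).symm g) (by rw [mem_XI, MulEquiv.apply_symm_apply]; exact hg)
    fun a => ⟨a, hfix a⟩
  rwa [MulEquiv.apply_symm_apply] at this

/-- An element carrying one root element to a root element is standard. -/
theorem Over.moves_root (H : Over f X) {g z : GL (Fin (t + 1) → Fin m) F} (hg : g ∈ X) (hz : SRoot f z)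
    (hz' : SRoot f (g * z * g⁻¹)) : g ∈ tensorWreathStandard m (t + 1) F := by
  classical
  have S := H.sf
  obtain ⟨s, hzs⟩ := id hz
  refine mem_std_of_sroots S H.hm' g ?_
  -- roots of the other factors
  have hroot : ∀ (z₁ : GL (Fin (t + 1) → Fin m) F) (s₁ : Fin (t + 1)), SRootAt f s₁ z₁ → SRoot f (g * z₁ * g⁻¹) →
      ∀ (i : Fin (t + 1)) w, i ≠ s₁ → SRootAt f i w → SRoot f (g * w * g⁻¹) := by
    intro z₁ s₁ h₁ h₁' i w his hw
    have hwX : g * w * g⁻¹ ∈ X := mul_mem (mul_mem hg (H.le (hw.mem_ks S))) (inv_mem hg)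
    have hstd := H.central h₁' hwX (conj_comm g ((hw.rootAt S).commute his (h₁.rootAt S)))
    refine sroot_of_isRoot S H.two_le (classify H.hm' hstd (conj_sq g w (hw.rootAt S).sq) (fun e => ?_)
      (by rw [rank_conj, (hw.rootAt S).rank (by have := H.two_le; omega)])) (H.iso hwX)
    exact (hw.rootAt S).not_scalar H.two_le 1 (by rw [conj_eq_one_iff.mp e, Units.val_one, one_smul])
  intro i w hw
  by_cases his : i = s
  · obtain ⟨k, hk⟩ : ∃ k, k ≠ s := by
      haveI : Nontrivial (Fin (t + 1)) := Fin.nontrivial_iff_two_le.2 (by have := H.ht; omega)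
      exact exists_ne s
    obtain ⟨o, ho⟩ : ∃ o : Fin m → F, o ≠ 0 := ⟨Pi.single ⟨0, by have := H.two_le; omega⟩ 1, by simp⟩
    obtain ⟨w₁, -, -, hw₁⟩ := exists_srootAt S k ho (one_ne_zero (α := F))
    exact (hroot w₁ k hw₁ (hroot z s hzs hz' k w₁ hk hw₁) i w (his ▸ Ne.symm hk) hw).isRoot S
  · exact (hroot z s hzs hz' i w his hw).isRoot S

/-- An element carrying a root element into the standard group is standard. -/
theorem Over.moves (H : Over f X) {g z : GL (Fin (t + 1) → Fin m) F} (hg : g ∈ X) (hz : SRoot f z)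
    (hz' : g * z * g⁻¹ ∈ tensorWreathStandard m (t + 1) F) : g ∈ tensorWreathStandard m (t + 1) F := by
  have S := H.sf
  have hzr := hz.isRoot S
  obtain ⟨s, hzs⟩ := hzr
  have hX : g * z * g⁻¹ ∈ X := mul_mem (mul_mem hg (H.le (hz.mem_ks S))) (inv_mem hg)
  refine H.moves_root hg hz (sroot_of_isRoot S H.two_le (classify H.hm' hz' (conj_sq g z hzs.sq) (fun e => ?_)
    (by rw [rank_conj, hzs.rank (by have := H.two_le; omega)])) (H.iso hX))
  exact hzs.not_scalar H.two_le 1 (by rw [conj_eq_one_iff.mp e, Units.val_one, one_smul])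

/-- The root elements control the orbits of the overgroup. -/
theorem Over.roots (H : Over f X) (p : ℕ) [Fact p.Prime] [CharP F p] :
    TensorMax.Roots p (tensorWreathStandard m (t + 1) F ⊓ X) X {z | SRoot f z} where
  le := inf_le_right
  mem z hz := ⟨ks_le_std (hz.mem_ks H.sf), H.le (hz.mem_ks H.sf)⟩
  pgroup z hz := by
    rintro ⟨g, ⟨k, rfl⟩⟩
    refine ⟨1, Subtype.ext ?_⟩
    show (z ^ k) ^ p ^ 1 = 1
    rw [pow_one, ← zpow_natCast, ← _root_.zpow_mul, mul_comm, _root_.zpow_mul, zpow_natCast,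
      root_pow p (by have := H.two_le; omega) (hz.isRoot H.sf), _root_.one_zpow]
  moves _ hg _ hz h := ⟨H.moves hg hz h.1, hg⟩

end Cfsg.Agent.Classical.TensorPowerMax.Symplectic
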