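/-
Fibres of the symplectic tensor power: perpendiculars, root centres, and elements carrying one fibre to another.
-/
import Cfsg.Agent.Lib.Classical.STPow.Stab
import Cfsg.Agent.Lib.Classical.UTPow.Fibres

set_option autoImplicit false
set_option linter.unusedSectionVars false

namespace Cfsg.Agent.Classical.TensorPowerMax.Symplectic

open Matrix Cfsg.Geo
open Cfsg.Agent.Classical
open Cfsg.Agent.Classical.TensorPowerMax
open Cfsg.Agent.Classical.TensorPowerMax.Unitary (tp tp_spl fl nm fib per mem_fib tens_mem_fib finrank_fib mem_img tens_tm)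
open Cfsg.Agent.Classical.TensorMax (kr kr_val kr_mul kr_one kr_inv)
open Cfsg.Agent.Classical.TensorMax.Form (SForm tm tf ctr Data Rt row kr_tm tm_apply tf_tm tf_tm_right)
open scoped Kronecker

variable {F : Type*} [Field F] [Fintype F] {m t : ℕ} {f : (Fin m → F) → (Fin m → F) → F}
  {X : Subgroup (GL (Fin (t + 1) → Fin m) F)}

local notation "idF" => RingEquiv.refl F
local notation:max g:max " ⬝ₘ " x:max =>
  ((g : GL (Fin (t + 1) → Fin m) F) : Matrix (Fin (t + 1) → Fin m) (Fin (t + 1) → Fin m) F) *ᵥ x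

theorem tp_tens (S : SForm f) (i : Fin (t + 1)) (x : (Fin (t + 1) → Fin m) → F) (a : (Fin t → Fin m) → F)
    (w : Fin m → F) : tp idF f (t + 1) x (tens i a w) = tp idF f t (slice i x *ᵥ fl f w) a := by
  rw [tp_spl i, tens_tm, Function.comp_assoc, Equiv.symm_comp_self, Function.comp_id, tf_tm_right (data S t)]
  congr 1
  funext k
  show f (row (x ∘ spl i) k) w = _
  rw [← fl_dot S, Matrix.mulVec, dotProduct_comm]
  rfl

theorem tp_tens_tens (S : SForm f) (i : Fin (t + 1)) (a b : (Fin t → Fin m) → F) (v w : Fin m → F) :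
    tp idF f (t + 1) (tens i a v) (tens i b w) = tp idF f t a b * f v w := by
  rw [tp_spl i, tens_tm, tens_tm, Function.comp_assoc, Equiv.symm_comp_self, Function.comp_id, Function.comp_assoc,
    Equiv.symm_comp_self, Function.comp_id, tf_tm (data S t)]

theorem mem_per_iff (S : SForm f) {i : Fin (t + 1)} {o : Fin m → F} {v : (Fin (t + 1) → Fin m) → F} :
    v ∈ per f i o ↔ ∀ a, tp idF f (t + 1) v (tens i a o) = 0 := by
  rw [per, mem_ann]
  constructor
  · intro h a
    rw [tp_tens S, h, (tp_refl S t).zero_left]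
  · intro h
    by_contra hne
    obtain ⟨a, ha⟩ := ((tp_refl S t).nondeg _ hne).2
    exact ha (by rw [← tp_tens S]; exact h a)

theorem tens_mem_per (S : SForm f) {i : Fin (t + 1)} {o w : Fin m → F} (h : f w o = 0)
    (u : (Fin t → Fin m) → F) : tens i u w ∈ per f i o :=
  tens_mem_rows i u (show fl f o ⬝ᵥ w = 0 by rw [fl_dot S, h])

theorem fib_le_per (S : SForm f) {i : Fin (t + 1)} {o w : Fin m → F} (h : f w o = 0) :
    fib i w ≤ per f i o := fun v hv => by
  obtain ⟨u, rfl⟩ := mem_fib.1 hv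
  exact tens_mem_per S h u

theorem perp_fib (S : SForm f) (i : Fin (t + 1)) (o : Fin m → F) :
    (tp_refl S (t + 1)).perp (fib i o) = per f i o := SetLike.ext fun v => by
  rw [IsReflexForm.mem_perp, mem_per_iff S]
  exact ⟨fun h a => h _ (tens_mem_fib i a o), fun h w hw => by
    obtain ⟨u, rfl⟩ := mem_fib.1 hw
    exact h u⟩

theorem perp_per (S : SForm f) (i : Fin (t + 1)) (o : Fin m → F) :
    (tp_refl S (t + 1)).perp (per f i o) = fib i o := by
  rw [← perp_fib S, IsReflexForm.perp_perp]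

theorem finrank_per (S : SForm f) (i : Fin (t + 1)) {o : Fin m → F} (ho : o ≠ 0) :
    Module.finrank F (per f i o) + m ^ t = m ^ (t + 1) := by
  have h := (tp_refl S (t + 1)).finrank_perp (fib i o)
  rw [perp_fib S, finrank_fib i ho, Fintype.card_fun, Fintype.card_fin, Fintype.card_fin] at h
  omega

theorem perp_sup' (S : SForm f) (A B : Submodule F ((Fin (t + 1) → Fin m) → F)) :
    (tp_refl S (t + 1)).perp (A ⊔ B) = (tp_refl S (t + 1)).perp A ⊓ (tp_refl S (t + 1)).perp B :=
  SetLike.ext fun v => by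
  simp only [Submodule.mem_inf, IsReflexForm.mem_perp]
  refine ⟨fun h => ⟨fun w hw => h w (Submodule.mem_sup_left hw), fun w hw => h w (Submodule.mem_sup_right hw)⟩,
    fun h w hw => ?_⟩
  obtain ⟨a, ha, b, hb, rfl⟩ := Submodule.mem_sup.1 hw
  rw [(tp_refl S (t + 1)).semi.add_right, h.1 a ha, h.2 b hb, add_zero]

theorem perp_img (S : SForm f) {g : GL (Fin (t + 1) → Fin m) F} (hg : g ∈ Iso f (t + 1))
    (A : Submodule F ((Fin (t + 1) → Fin m) → F)) :
    (tp_refl S (t + 1)).perp (img g A) = img g ((tp_refl S (t + 1)).perp A) := SetLike.ext fun v => by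
  rw [mem_img, IsReflexForm.mem_perp, IsReflexForm.mem_perp]
  refine ⟨fun h w hw => ?_, fun h w hw => ?_⟩
  · rw [← hg _ _, gl_mulVec_inv_cancel]
    exact h _ ⟨w, hw, rfl⟩
  · obtain ⟨u, hu, rfl⟩ := hw
    rw [Matrix.mulVecLin_apply, ← gl_mulVec_inv_cancel g v, hg]
    exact h u hu

/-- The fixed space of a root element. -/
theorem fixS_rootC (S : SForm f) {i : Fin (t + 1)} {o : Fin m → F} (ho : o ≠ 0) {c : F}
    (hc0 : c ≠ 0) {g : GL (Fin (t + 1) → Fin m) F} (hg : Rt f o c ((J i).symm g)) :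
    fixS g = per f i o := by
  rw [fixS_root ho (root_val S hg)]
  refine SetLike.ext fun v => ?_
  rw [per, mem_ann, mem_ann, Matrix.mulVec_smul, smul_eq_zero, or_iff_right hc0]

theorem mem_fixG_per (S : SForm f) {i : Fin (t + 1)} {o : Fin m → F} (ho : o ≠ 0) {c : F}
    (hc0 : c ≠ 0) {g : GL (Fin (t + 1) → Fin m) F} (hg : Rt f o c ((J i).symm g))
    {W : Submodule F ((Fin (t + 1) → Fin m) → F)} (hW : W ≤ per f i o) : g ∈ fixG W :=
  mem_fixG_iff_le.2 (hW.trans (fixS_rootC S ho hc0 hg).ge)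

/-- An element fixing a fibre pointwise. -/
theorem Over.fibre_fix (H : Over f X) (i : Fin (t + 1)) {o : Fin m → F} (ho : o ≠ 0)
    {g : GL (Fin (t + 1) → Fin m) F} (hg : g ∈ X) (h : ∀ a, g ⬝ₘ (tens i a o) = tens i a o) :
    g ∈ tensorWreathStandard m (t + 1) F := by
  refine H.fixed_fibre i ho hg fun a => ?_
  have e := J_mulVec i ((J i).symm g) (tens i a o)
  rw [MulEquiv.apply_symm_apply, h, tens_tm, Function.comp_assoc, Equiv.symm_comp_self, Function.comp_id] at e
  exact e.symm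

/-- A standard element carrying a root element to one with centre `o'` in the same factor. -/
theorem carry (S : SForm f) (hm : 2 ≤ m) {i : Fin (t + 1)} {n z z' : GL (Fin (t + 1) → Fin m) F}
    (hn : n ∈ tensorWreathStandard m (t + 1) F) {o o' : Fin m → F} {c c' : F} (ho : o ≠ 0) (hc0 : c ≠ 0)
    (hz : Rt f o c ((J i).symm z)) (ho' : o' ≠ 0) (hc0' : c' ≠ 0)
    (hz' : Rt f o' c' ((J i).symm z')) (h : n * z = z' * n) :
    ∃ (a : GL (Fin t → Fin m) F) (b : GL (Fin m) F) (r : F), n = J i (kr a b) ∧ r ≠ 0 ∧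
      (b : Matrix (Fin m) (Fin m) F) *ᵥ o = r • o' := by
  obtain ⟨a, b, hab, hb⟩ := conj_slot hm hn ho (smul_ne_zero hc0 (fl_ne_zero S ho))
    (by rw [smul_dotProduct, fl_dot S, S.alt, smul_zero]) (root_val S hz) (root_val S hz') ho'
    (smul_ne_zero hc0' (fl_ne_zero S ho')) (by rw [smul_dotProduct, fl_dot S, S.alt, smul_zero]) h
  obtain ⟨y, hy⟩ : ∃ y, (c • fl f o) ⬝ᵥ y = 1 := by
    obtain ⟨k, hk⟩ := Function.ne_iff.mp (smul_ne_zero hc0 (fl_ne_zero S ho))
    exact ⟨Pi.single k ((c • fl f o) k)⁻¹, by rw [dotProduct_single, mul_inv_cancel₀ hk]⟩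
  have e := congrArg (fun M : Matrix (Fin m) (Fin m) F => M *ᵥ y) hb
  simp only [← Matrix.mulVec_mulVec, Matrix.vecMulVec_mulVec, hy, op_smul_eq_smul, one_smul] at e
  refine ⟨a, b, _, hab, fun h0 => ?_, e⟩
  rw [h0, zero_smul] at e
  exact ho (gl_mulVec_injective b (e.trans (Matrix.mulVec_zero _).symm))

end Cfsg.Agent.Classical.TensorPowerMax.Symplectic
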