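/-
A largest subspace fixed by a root element and by a non-standard element; no such configuration for `4 ≤ m`.
-/
import Cfsg.Agent.Lib.Classical.STPow.Fibres
import Mathlib.FieldTheory.Finite.Basic

set_option autoImplicit false
set_option linter.unusedSectionVars false

namespace Cfsg.Agent.Classical.TensorPowerMax.Symplectic

open Matrix Cfsg.Geo
open Cfsg.Agent.Classical
open Cfsg.Agent.Classical.TensorPowerMax
open Cfsg.Agent.Classical.TensorPowerMax.Unitary (tp tp_spl fl nm fib per mem_fib tens_mem_fib finrank_fib mem_img tens_tm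
  tens_add_left tens_add_right tens_smul_left tens_smul_right tens_zero_left tens_indep tens_ext tens_coeff other_slot_false)
open Cfsg.Agent.Classical.TensorMax (kr kr_val kr_mul kr_one kr_inv)
open Cfsg.Agent.Classical.TensorMax.Form (SForm tm tf Data Rt)
open scoped Kronecker

variable {F : Type*} [Field F] [Fintype F] {m t : ℕ} {f : (Fin m → F) → (Fin m → F) → F}
  {X : Subgroup (GL (Fin (t + 1) → Fin m) F)}

local notation "idF" => RingEquiv.refl F
local notation:max g:max " ⬝ₘ " x:max =>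
  ((g : GL (Fin (t + 1) → Fin m) F) : Matrix (Fin (t + 1) → Fin m) (Fin (t + 1) → Fin m) F) *ᵥ x
local notation "STD" => tensorWreathStandard m (t + 1) F

/-- A subspace fixed pointwise by a root element and by an element outside the stabiliser. -/
def Good (f : (Fin m → F) → (Fin m → F) → F) (X : Subgroup (GL (Fin (t + 1) → Fin m) F))
    (W : Submodule F ((Fin (t + 1) → Fin m) → F)) : Prop :=
  (∃ z, SRoot f z ∧ z ∈ fixG W) ∧ ∃ g ∈ X, g ∉ STD ∧ g ∈ fixG W

theorem finrank_inter (U : SForm f) (i : Fin (t + 1)) {o : Fin m → F} (ho : o ≠ 0)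
    (g : GL (Fin (t + 1) → Fin m) F) :
    (m - 2) * m ^ t ≤ Module.finrank F ↥(per f i o ⊓ img g (per f i o)) := by
  have h1 := finrank_per U i ho
  have h2 := Submodule.finrank_sup_add_finrank_inf_eq (per f i o) (img g (per f i o))
  have h3 := finrank_img g (per f i o)
  have h4 := Submodule.finrank_le (per f i o ⊔ img g (per f i o))
  rw [Module.finrank_fintype_fun_eq_card, Fintype.card_fun, Fintype.card_fin, Fintype.card_fin] at h4
  rw [pow_succ] at h1 h4
  rw [Nat.sub_mul, mul_comm m]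
  omega

theorem Over.good_inter (H : Over f X) {i : Fin (t + 1)} {o : Fin m → F} (ho : o ≠ 0)
    {g : GL (Fin (t + 1) → Fin m) F} (hg : g ∈ X) (hgN : g ∉ STD) :
    Good f X (img g (per f i o ⊓ img g⁻¹ (per f i o))) := by
  classical
  obtain ⟨p, hp⟩ := CharP.exists F
  haveI : Fact p.Prime := ⟨CharP.char_is_prime F p⟩
  have U := H.sf
  obtain ⟨c, hc0⟩ : ∃ c : F, c ≠ 0 := ⟨1, one_ne_zero⟩
  obtain ⟨z, -, hR, hz⟩ := exists_srootAt (t := t) U i ho hc0
  have hzr : SRoot f z := ⟨i, hz⟩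
  have h1 : z ∈ fixG (per f i o ⊓ img g⁻¹ (per f i o)) := mem_fixG_per U ho hc0 hR inf_le_left
  have h2 : z ∈ fixG (img g (per f i o ⊓ img g⁻¹ (per f i o))) := mem_fixG_per U ho hc0 hR fun v hv => by
    have h := (Submodule.mem_inf.1 (mem_img.1 hv)).2
    rwa [mem_img, inv_inv, gl_mulVec_inv_cancel] at h
  obtain ⟨h, hh, hhW, n, hn, rfl⟩ := (H.roots p).factor hg
    (St := fixG (per f i o ⊓ img g⁻¹ (per f i o))) (St' := fixG (img g (per f i o ⊓ img g⁻¹ (per f i o))))
    (fun s hs => mem_fixG_img hs) hzr h1 hzr h2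
  exact ⟨⟨z, hzr, h2⟩, h, hh, fun hN => hgN (mul_mem hN hn.1), hhW⟩

/-- The extremal configuration. -/
structure Ext (f : (Fin m → F) → (Fin m → F) → F)
    (X : Subgroup (GL (Fin (t + 1) → Fin m) F)) (W : Submodule F ((Fin (t + 1) → Fin m) → F)) (i : Fin (t + 1))
    (o : Fin m → F) (c : F) (z g : GL (Fin (t + 1) → Fin m) F) : Prop where
  ov : Over f X
  ho : o ≠ 0
  hc0 : c ≠ 0
  rt : Rt f o c ((J i).symm z)
  mem : g ∈ X
  notMem : g ∉ STD
  gfix : g ∈ fixG W
  eq : W = per f i o ⊓ img g⁻¹ (per f i o)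
  best : ∀ W', Good f X W' → Module.finrank F W' ≤ Module.finrank F W

theorem Over.exists_ext (H : Over f X) {g : GL (Fin (t + 1) → Fin m) F} (hg : g ∈ X)
    (hgN : g ∉ STD) : ∃ W i o c z g', Ext f X W i o c z g' := by
  classical
  have hm := H.hm
  have U := H.sf
  obtain ⟨o₀, ho₀⟩ : ∃ o₀ : Fin m → F, o₀ ≠ 0 := ⟨Pi.single ⟨0, by omega⟩ 1, by simp⟩
  obtain ⟨W, hWgood, hWmax⟩ := Set.exists_max_image {W | Good f X W} (fun W => Module.finrank F W) (Set.toFinite _)
    ⟨_, H.good_inter (i := 0) ho₀ hg hgN⟩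
  obtain ⟨⟨z, ⟨i, o, c, ho, hc0, hR⟩, hzW⟩, g', hg', hg'N, hg'W⟩ := hWgood
  have hWS : W ≤ per f i o := fixS_rootC U ho hc0 hR ▸ mem_fixG_iff_le.1 hzW
  have hle : W ≤ per f i o ⊓ img g'⁻¹ (per f i o) := fun v hv =>
    ⟨hWS hv, mem_img.2 (by rw [inv_inv, hg'W v hv]; exact hWS hv)⟩
  have heq : W = per f i o ⊓ img g'⁻¹ (per f i o) := by
    refine Submodule.eq_of_le_of_finrank_le hle ?_
    rw [← finrank_img g']
    exact hWmax _ (H.good_inter ho hg' hg'N)
  exact ⟨W, i, o, c, z, g', H, ho, hc0, hR, hg', hg'N, hg'W, heq, hWmax⟩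

variable {W : Submodule F ((Fin (t + 1) → Fin m) → F)} {i : Fin (t + 1)} {o : Fin m → F} {c : F}
  {z g : GL (Fin (t + 1) → Fin m) F}

theorem Ext.le_per (E : Ext f X W i o c z g) : W ≤ per f i o := E.eq.le.trans inf_le_left

theorem Ext.mem_img_per (E : Ext f X W i o c z g) {v : (Fin (t + 1) → Fin m) → F} (hv : v ∈ W) :
    v ∈ img g (per f i o) := ⟨v, E.le_per hv, E.gfix v hv⟩

theorem Ext.dim (E : Ext f X W i o c z g) : (m - 2) * m ^ t ≤ Module.finrank F W :=
  E.eq ▸ finrank_inter E.ov.sf i E.ho g⁻¹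

theorem Ext.zroot (E : Ext f X W i o c z g) : SRoot f z := ⟨i, o, c, E.ho, E.hc0, E.rt⟩

theorem Ext.zfix (E : Ext f X W i o c z g) : z ∈ fixG W :=
  mem_fixG_per E.ov.sf E.ho E.hc0 E.rt E.le_per

/-- The fibre complements the subspace in its perpendicular. -/
theorem Ext.sup_fib (E : Ext f X W i o c z g) : W ⊔ fib i o = per f i o := by
  have U := E.ov.sf
  have r := (tp_refl U (t + 1))
  have hgU : g⁻¹ ∈ Iso f (t + 1) := inv_mem (E.ov.iso E.mem)
  have hW : r.perp W = fib i o ⊔ img g⁻¹ (fib i o) := by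
    conv_lhs => rw [E.eq, ← perp_fib U, ← perp_img U hgU, ← perp_sup' U, IsReflexForm.perp_perp]
  have h : r.perp (W ⊔ fib i o) = fib i o := by
    rw [perp_sup' U, hW, perp_fib U]
    refine le_antisymm ?_ (le_inf le_sup_left (fib_le_per U (U.alt o)))
    rintro v ⟨hv, hvS⟩
    obtain ⟨a, ha, b, hb, rfl⟩ := Submodule.mem_sup.1 hv
    have hbS : b ∈ per f i o := by
      have := Submodule.sub_mem _ hvS (fib_le_per U (U.alt o) ha)
      rwa [add_sub_cancel_left] at this
    have hgb : g ⬝ₘ b ∈ fib i o := by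
      have := mem_img.1 hb
      rwa [inv_inv] at this
    have hbW : b ∈ W := E.eq ▸ ⟨hbS, mem_img.2 (by rw [inv_inv]; exact fib_le_per U (U.alt o) hgb)⟩
    refine add_mem ha ?_
    rw [← E.gfix b hbW]
    exact hgb
  rw [← IsReflexForm.perp_perp r (W ⊔ fib i o), h, perp_fib U]

/-- A tensor of the perpendicular, corrected inside the fibre. -/
theorem Ext.exists_corr (E : Ext f X W i o c z g) {w : Fin m → F} (hw : f w o = 0)
    (v : (Fin t → Fin m) → F) : ∃ u, tens i v w + tens i u o ∈ W := by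
  have h : tens i v w ∈ W ⊔ fib i o := E.sup_fib.symm ▸ tens_mem_per E.ov.sf hw v
  obtain ⟨l, hl, a, ha, e⟩ := Submodule.mem_sup.1 h
  obtain ⟨u, rfl⟩ := mem_fib.1 ha
  refine ⟨-u, ?_⟩
  rw [← e, show tens i (-u) o = -tens i u o from funext fun x => by simp [tens], add_neg_cancel_right]
  exact hl

theorem finrank_perp_pair (U : SForm f) {w o₁ : Fin m → F} (hw : w ≠ 0) (h : o₁ ∉ Submodule.span F {w}) :
    Module.finrank F ↥(U.refl.perp (Submodule.span F {w} ⊔ Submodule.span F {o₁})) + 2 = m := by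
  have ho₁ : o₁ ≠ 0 := fun e => h (e ▸ Submodule.zero_mem _)
  have h0 : Submodule.span F {w} ⊓ Submodule.span F {o₁} = ⊥ := by
    rw [Submodule.eq_bot_iff]
    rintro v ⟨hv, hv'⟩
    obtain ⟨a, rfl⟩ := Submodule.mem_span_singleton.1 hv'
    by_contra hne
    have ha : a ≠ 0 := fun e => hne (by rw [e, zero_smul])
    refine h ?_
    have := Submodule.smul_mem _ a⁻¹ hv
    rwa [smul_smul, inv_mul_cancel₀ ha, one_smul] at this
  have h1 := Submodule.finrank_sup_add_finrank_inf_eq (Submodule.span F {w}) (Submodule.span F {o₁})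
  rw [h0, finrank_bot, finrank_span_singleton hw, finrank_span_singleton ho₁] at h1
  have h2 := U.refl.finrank_perp (Submodule.span F {w} ⊔ Submodule.span F {o₁})
  rw [Fintype.card_fin] at h2
  omega

/-- A large subspace in two perpendiculars consists of whole fibres. -/
theorem rows_of_two (U : SForm f) {w o₁ : Fin m → F} (hw : w ≠ 0) (h : o₁ ∉ Submodule.span F {w})
    {W₂ : Submodule F ((Fin (t + 1) → Fin m) → F)} (h₁ : W₂ ≤ per f i w) (h₂ : W₂ ≤ per f i o₁)
    (hdim : (m - 2) * m ^ t ≤ Module.finrank F W₂) :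
    W₂ = rows i (U.refl.perp (Submodule.span F {w} ⊔ Submodule.span F {o₁})) := by
  refine Submodule.eq_of_le_of_finrank_le (fun v hv x => ?_) ?_
  · rw [IsReflexForm.mem_perp]
    intro y hy
    obtain ⟨a, ha, b, hb, rfl⟩ := Submodule.mem_sup.1 hy
    obtain ⟨r, rfl⟩ := Submodule.mem_span_singleton.1 ha
    obtain ⟨r', rfl⟩ := Submodule.mem_span_singleton.1 hb
    have e₁ : fl f w ⬝ᵥ slice i v x = 0 := h₁ hv x
    have e₂ : fl f o₁ ⬝ᵥ slice i v x = 0 := h₂ hv x
    rw [fl_dot U] at e₁ e₂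
    rw [U.refl.semi.add_right, U.refl.semi.smul_right, U.refl.semi.smul_right, e₁, e₂, mul_zero, mul_zero, add_zero]
  · rw [finrank_rows]
    have := finrank_perp_pair U hw h
    refine le_trans (le_of_eq ?_) hdim
    rw [show m - 2 = Module.finrank F ↥(U.refl.perp (Submodule.span F {w} ⊔ Submodule.span F {o₁})) by omega,
      mul_comm]

/-- Over an isotropic vector perpendicular to the centre, the subspace is the graph of a similitude. -/
theorem Ext.step (E : Ext f X W i o c z g) (h4 : 4 ≤ m) {w : Fin m → F} (hwo : f w o = 0)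
    (hw : w ∉ Submodule.span F {o}) :
    (∀ u, tens i u o ∈ W → u = 0) ∧ ∃ (M : Matrix (Fin t → Fin m) (Fin t → Fin m) F) (μ : F),
      μ ≠ 0 ∧ (∀ x y, tp idF f t (M *ᵥ x) (M *ᵥ y) = μ * tp idF f t x y) ∧ ∀ v, tens i v w + tens i (M *ᵥ v) o ∈ W := by
  classical
  obtain ⟨p, hp⟩ := CharP.exists F
  haveI : Fact p.Prime := ⟨CharP.char_is_prime F p⟩
  have U := E.ov.sf
  have hw0 : w ≠ 0 := fun e => hw (e ▸ Submodule.zero_mem _)
  have how : f o w = 0 := U.refl.eq_zero_swap hwo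
  obtain ⟨W₂, hW₂⟩ : ∃ W₂, W₂ = per f i w ⊓ img g (per f i o) := ⟨_, rfl⟩
  have hdim : (m - 2) * m ^ t ≤ Module.finrank F W₂ := by
    have h1 := finrank_per (t := t) U i hw0
    have h2 := Submodule.finrank_sup_add_finrank_inf_eq (per f i w) (img g (per f i o))
    have h3 := finrank_img g (per f i o)
    have h3' := finrank_per (t := t) U i E.ho
    have h4' := Submodule.finrank_le (per f i w ⊔ img g (per f i o))
    rw [Module.finrank_fintype_fun_eq_card, Fintype.card_fun, Fintype.card_fin, Fintype.card_fin] at h4'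
    rw [pow_succ] at h1 h3' h4'
    rw [hW₂, Nat.sub_mul, mul_comm m]
    omega
  obtain ⟨zw, -, hwR, hzw⟩ := exists_srootAt (t := t) U i hw0 E.hc0
  obtain ⟨h, hh, hhW, n, hn, e⟩ := (E.ov.roots p).factor E.mem (St := fixG (per f i o)) (St' := fixG W₂)
    (fun s hs v hv => mem_fixG_img hs v ((hW₂ ▸ hv : v ∈ per f i w ⊓ img g (per f i o))).2)
    E.zroot (mem_fixG_per U E.ho E.hc0 E.rt le_rfl) (z' := zw) ⟨i, hzw⟩
    (mem_fixG_per U hw0 E.hc0 hwR (hW₂ ▸ inf_le_left))
  have hhN : h ∉ STD := fun hN => E.notMem (e ▸ mul_mem hN hn.1)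
  obtain ⟨z₁, hz₁⟩ : ∃ z₁, z₁ = n * z * n⁻¹ := ⟨_, rfl⟩
  have hz₁W : z₁ ∈ fixG W₂ := by
    have h1 : g * z * g⁻¹ ∈ fixG W₂ := fun v hv =>
      mem_fixG_img (mem_fixG_per U E.ho E.hc0 E.rt le_rfl) v ((hW₂ ▸ hv : v ∈ per f i w ⊓ img g (per f i o))).2
    have h2 := mul_mem (mul_mem (inv_mem hhW) h1) hhW
    rwa [e, show h⁻¹ * (h * n * z * (h * n)⁻¹) * h = z₁ by rw [hz₁]; group] at h2
  have hWW₂ : ∀ v ∈ W, v ∈ per f i w → v ∈ W₂ := fun v hv hv' => hW₂ ▸ ⟨hv', E.mem_img_per hv⟩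
  have hcorr : ∀ v, ∃ u, tens i v w + tens i u o ∈ W ∧ tens i v w + tens i u o ∈ per f i w := fun v => by
    obtain ⟨u, hu⟩ := E.exists_corr hwo v
    exact ⟨u, hu, add_mem (tens_mem_per U (U.alt w) v) (tens_mem_per U how u)⟩
  obtain ⟨j, hj⟩ : SRoot f z₁ := hz₁ ▸ E.zroot.conj U (by omega) hn.1 (E.ov.iso hn.2)
  obtain rfl : j = i := by
    by_contra hne
    exact other_slot_false (by omega) hne (hj.rootAt U) E.ho hw fun v => by
      obtain ⟨u, hu, hu'⟩ := hcorr v
      exact ⟨u, hz₁W _ (hWW₂ _ hu hu')⟩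
  obtain ⟨o₁, c₁, ho₁, hc₁, hR₁⟩ := hj
  have ho₁w : o₁ ∈ Submodule.span F {w} := by
    by_contra hne
    have hrows := rows_of_two U hw0 hne (hW₂ ▸ inf_le_left)
      (fixS_rootC U ho₁ hc₁ hR₁ ▸ mem_fixG_iff_le.1 hz₁W) hdim
    have hK := finrank_perp_pair U hw0 hne
    obtain ⟨w', hw'K, hw'0⟩ := Submodule.exists_mem_ne_zero_of_ne_bot
      (p := U.refl.perp (Submodule.span F {w} ⊔ Submodule.span F {o₁})) fun e => by
        rw [e, finrank_bot] at hK; omega
    exact hhN (E.ov.fibre_fix _ hw'0 hh fun a => hhW _ (hrows ▸ tens_mem_rows _ a hw'K))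
  obtain ⟨ρ, rfl⟩ := Submodule.mem_span_singleton.1 ho₁w
  obtain ⟨a, b, r, hab, hr, hbo⟩ := carry U (by omega) hn.1 E.ho E.hc0 E.rt ho₁ hc₁ hR₁
    (by rw [hz₁, inv_mul_cancel_right])
  rw [smul_smul] at hbo
  obtain ⟨k, hk⟩ : ∃ k, k = r * ρ := ⟨_, rfl⟩
  rw [← hk] at hbo
  have hk0 : k ≠ 0 := hk ▸ mul_ne_zero hr (left_ne_zero_of_smul ho₁)
  have hfix : ∀ v ∈ W, v ∈ per f j w → n ⬝ₘ v = v := fun v hv hv' => by
    rw [show n = h⁻¹ * g by rw [e, inv_mul_cancel_left], gl_mul_mulVec, E.gfix v hv]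
    exact (inv_mem hhW) v (hWW₂ v hv hv')
  have huniq : ∀ u, tens j u o ∈ W → u = 0 := fun u hu => by
    have h1 := hfix _ hu (tens_mem_per U how u)
    rw [hab, kr_tens, hbo, tens_smul_right, ← tens_smul_left] at h1
    exact (tens_ext (i := j) E.ho hw (u := 0) (v := k • (a : Matrix (Fin t → Fin m) (Fin t → Fin m) F) *ᵥ u) (u' := u) (v' := 0)
      (by rw [tens_zero_left, tens_zero_left, zero_add, add_zero]; exact h1)).1.symm
  refine ⟨huniq, ?_⟩
  have heq : ∀ v u, tens j v w + tens j u o ∈ W → tens j ((a : Matrix (Fin t → Fin m) (Fin t → Fin m) F) *ᵥ v)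
      ((b : Matrix (Fin m) (Fin m) F) *ᵥ w) =
      tens j u o + tens j (v - k • ((a : Matrix (Fin t → Fin m) (Fin t → Fin m) F) *ᵥ u)) w := fun v u hu => by
    have h1 := hfix _ hu (add_mem (tens_mem_per U (U.alt w) v) (tens_mem_per U how u))
    rw [hab, Matrix.mulVec_add, kr_tens, kr_tens, hbo, tens_smul_right] at h1
    rw [sub_eq_add_neg, tens_add_left, ← neg_smul, tens_smul_left]
    linear_combination (norm := module) h1
  obtain ⟨v₀, hv₀⟩ : ∃ v : (Fin t → Fin m) → F, v ≠ 0 := ⟨Pi.single (fun _ => ⟨0, by omega⟩) 1, by simp⟩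
  obtain ⟨u₀, hu₀, -⟩ := hcorr v₀
  obtain ⟨γ, δ, hbw⟩ := tens_coeff (fun h0 => hv₀ (gl_mulVec_injective a (h0.trans (Matrix.mulVec_zero _).symm)))
    (heq v₀ u₀ hu₀)
  obtain ⟨μ, hμ0, hμ⟩ := sim_left U (by omega) (hab ▸ E.ov.iso hn.2)
  have hγ : γ ≠ 0 := fun e0 => by
    refine E.notMem (E.ov.fibre_fix j hw0 E.mem fun v => E.gfix _ ?_)
    obtain ⟨u, hu, -⟩ := hcorr v
    have h1 := heq v u hu
    rw [hbw, tens_add_right, tens_smul_right, tens_smul_right, ← tens_smul_left, ← tens_smul_left] at h1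
    have h2 := (tens_ext (i := j) E.ho hw h1).1
    rw [e0, zero_smul] at h2
    rwa [← h2, tens_zero_left, add_zero] at hu
  refine ⟨γ • (a : Matrix (Fin t → Fin m) (Fin t → Fin m) F), γ * γ * μ,
    mul_ne_zero (mul_ne_zero hγ hγ) hμ0, fun x y => ?_, fun v => ?_⟩
  · rw [Matrix.smul_mulVec, Matrix.smul_mulVec, (tp_refl U t).semi.smul_left,
      (tp_refl U t).semi.smul_right, hμ, RingEquiv.refl_apply]
    ring
  · obtain ⟨u, hu, -⟩ := hcorr v
    have h1 := heq v u hu
    rw [hbw, tens_add_right, tens_smul_right, tens_smul_right, ← tens_smul_left, ← tens_smul_left] at h1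
    rw [Matrix.smul_mulVec, (tens_ext (i := j) E.ho hw h1).1]
    exact hu

/-- A quadratic form in three variables over a finite field of odd order has a non-trivial zero. -/
theorem exists_zero_three (A B C D E : F) :
    ∃ a b s : F, (a ≠ 0 ∨ b ≠ 0 ∨ s ≠ 0) ∧ s * s + A * (a * a) + B * (b * b) + C * (a * b) + D * (a * s) + E * (b * s) = 0 := by
  by_cases h2 : (2 : F) = 0
  · have hc : ringChar F = 2 := CharP.ringChar_of_prime_eq_zero Nat.prime_two (by exact_mod_cast h2)
    by_cases hDE : D ≠ 0 ∨ E ≠ 0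
    · obtain ⟨s, hs⟩ := FiniteField.isSquare_of_char_two hc (A * (E * E) + B * (D * D) + C * (E * D))
      exact ⟨E, D, s, hDE.elim (fun h => Or.inr (Or.inl h)) Or.inl,
        by linear_combination -hs + (A * (E * E) + B * (D * D) + C * (E * D) + D * E * s) * h2⟩
    · push Not at hDE
      obtain ⟨s, hs⟩ := FiniteField.isSquare_of_char_two hc A
      exact ⟨1, 0, s, Or.inl one_ne_zero, by rw [hDE.1, hDE.2]; linear_combination -hs + A * h2⟩
  obtain ⟨A', hA'⟩ : ∃ A', A' = A - D * D / 4 := ⟨_, rfl⟩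
  have h4 : (4 : F) ≠ 0 := by rw [show (4 : F) = 2 * 2 by norm_num]; exact mul_ne_zero h2 h2
  by_cases hA0 : A' = 0
  · refine ⟨1, 0, -D / 2, Or.inl one_ne_zero, ?_⟩
    have : A = D * D / 4 := sub_eq_zero.1 (hA' ▸ hA0)
    rw [this]
    field_simp
    ring
  obtain ⟨C', hC'⟩ : ∃ C', C' = C - D * E / 2 := ⟨_, rfl⟩
  obtain ⟨B', hB'⟩ : ∃ B', B' = B - E * E / 4 - C' * C' / (4 * A') := ⟨_, rfl⟩
  have hodd : Fintype.card F % 2 = 1 := FiniteField.odd_card_of_char_ne_two fun e => h2 (by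
    haveI : CharP F 2 := ringChar.of_eq e
    exact_mod_cast CharP.cast_eq_zero F 2)
  obtain ⟨σ₁, α, h⟩ := FiniteField.exists_root_sum_quadratic (R := F) (f := Polynomial.X ^ 2)
    (g := Polynomial.C A' * Polynomial.X ^ 2 + Polynomial.C 0 * Polynomial.X + Polynomial.C B')
    (Polynomial.degree_X_pow 2) (Polynomial.degree_quadratic hA0) hodd
  simp only [Polynomial.eval_pow, Polynomial.eval_X, Polynomial.eval_add, Polynomial.eval_mul, Polynomial.eval_C,
    zero_mul, add_zero] at h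
  refine ⟨α - C' / (2 * A'), 1, σ₁ - (D * (α - C' / (2 * A')) + E) / 2, Or.inr (Or.inl one_ne_zero), ?_⟩
  refine Eq.trans ?_ h
  rw [hB', hC', hA']
  rw [hA'] at hA0
  generalize hd : A - D * D / 4 = d at *
  have hA : A = d + D * D / 4 := by rw [← hd, sub_add_cancel]
  rw [hA]
  field_simp
  ring

/-- No extremal configuration in dimension at least four. -/
theorem Ext.false_of_four (E : Ext f X W i o c z g) (h4 : 4 ≤ m) : False := by
  classical
  have U := E.ov.sf
  have UA := tp_refl U t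
  obtain ⟨P, hP⟩ : ∃ P, P = U.refl.perp (Submodule.span F {o}) := ⟨_, rfl⟩
  have hPd : Module.finrank F P + 1 = m := by
    have := U.refl.finrank_perp (Submodule.span F {o})
    rw [finrank_span_singleton E.ho, Fintype.card_fin] at this
    rw [hP]; omega
  have hmem : ∀ {x}, x ∈ P → f x o = 0 := fun hx => (hP ▸ hx : _ ∈ U.refl.perp (Submodule.span F {o})) o
    (Submodule.mem_span_singleton_self o)
  obtain ⟨w, hwP, hw⟩ : ∃ w ∈ P, w ∉ Submodule.span F {o} := by
    by_contra hcon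
    push Not at hcon
    have := Submodule.finrank_mono (show P ≤ Submodule.span F {o} from hcon)
    rw [finrank_span_singleton E.ho] at this
    omega
  obtain ⟨w', hwP', hw'⟩ : ∃ w' ∈ P, w' ∉ Submodule.span F {o} ⊔ Submodule.span F {w} := by
    by_contra hcon
    push Not at hcon
    have h1 := Submodule.finrank_mono (show P ≤ Submodule.span F {o} ⊔ Submodule.span F {w} from hcon)
    have h2 := Submodule.finrank_add_le_finrank_add_finrank (Submodule.span F {o}) (Submodule.span F {w})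
    rw [finrank_span_singleton E.ho] at h2
    have h3 : Module.finrank F (Submodule.span F {w}) ≤ 1 := le_trans (finrank_span_le_card (R := F) {w}) (by simp)
    omega
  have hwo := hmem hwP
  have hwo' := hmem hwP'
  have hw'o : w' ∉ Submodule.span F {o} := fun e => hw' (Submodule.mem_sup_left e)
  obtain ⟨huniq, M, -, -, -, hMW⟩ := E.step h4 hwo hw
  obtain ⟨-, N, -, -, -, hNW⟩ := E.step h4 hwo' hw'o
  -- every combination is a similitude
  have hsim : ∀ a b s : F, (a ≠ 0 ∨ b ≠ 0) → ∃ μ, μ ≠ 0 ∧ ∀ x y,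
      tp idF f t (a • (M *ᵥ x) + b • (N *ᵥ x) - s • x) (a • (M *ᵥ y) + b • (N *ᵥ y) - s • y) =
        μ * tp idF f t x y := by
    intro a b s hab
    have hu : f (a • w + b • w' + s • o) o = 0 := by
      rw [U.refl.semi.add_left, U.refl.semi.add_left, U.refl.semi.smul_left, U.refl.semi.smul_left, U.refl.semi.smul_left,
        hwo, hwo', U.alt]
      ring
    have hun : a • w + b • w' + s • o ∉ Submodule.span F {o} := fun e => by
      have e1 : a • w + b • w' ∈ Submodule.span F {o} := by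
        have := Submodule.sub_mem _ e (Submodule.smul_mem _ s (Submodule.mem_span_singleton_self o))
        rwa [add_sub_cancel_right] at this
      by_cases hb : b = 0
      · rw [hb, zero_smul, add_zero] at e1
        have ha : a ≠ 0 := hab.resolve_right (fun h => h hb)
        exact hw (by have := Submodule.smul_mem _ a⁻¹ e1; rwa [smul_smul, inv_mul_cancel₀ ha, one_smul] at this)
      · refine hw' ?_
        have e2 : b⁻¹ • (a • w + b • w') - (b⁻¹ * a) • w ∈ Submodule.span F {o} ⊔ Submodule.span F {w} :=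
          Submodule.sub_mem _ (Submodule.mem_sup_left (Submodule.smul_mem _ _ e1))
            (Submodule.mem_sup_right (Submodule.smul_mem _ _ (Submodule.mem_span_singleton_self w)))
        rwa [smul_add, smul_smul, smul_smul, inv_mul_cancel₀ hb, one_smul, add_sub_cancel_left] at e2
    obtain ⟨-, L, μ, hμ0, hL, hLW⟩ := E.step h4 hu hun
    have e : ∀ v, a • (M *ᵥ v) + b • (N *ᵥ v) - s • v = L *ᵥ v := fun v => by
      refine sub_eq_zero.1 (huniq _ ?_)
      have := Submodule.sub_mem _ (Submodule.add_mem _ (Submodule.smul_mem _ a (hMW v)) (Submodule.smul_mem _ b (hNW v)))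
        (hLW v)
      convert this using 1
      simp only [sub_eq_add_neg, ← neg_one_smul F (L *ᵥ v), ← neg_smul, tens_add_left, tens_add_right, tens_smul_left,
        tens_smul_right]
      module
    exact ⟨μ, hμ0, fun x y => by rw [e, e, hL]⟩
  obtain ⟨x, hx⟩ : ∃ x : (Fin t → Fin m) → F, x ≠ 0 := ⟨Pi.single (fun _ => ⟨0, by omega⟩) 1, by simp⟩
  obtain ⟨y₀, hy₀⟩ := (UA.nondeg x hx).2
  obtain ⟨y, hxy⟩ : ∃ y, tp idF f t x y = 1 :=
    ⟨(tp idF f t x y₀)⁻¹ • y₀, by rw [UA.semi.smul_right, RingEquiv.refl_apply, inv_mul_cancel₀ hy₀]⟩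
  obtain ⟨a, b, s, hne, h0⟩ := exists_zero_three (tp idF f t (M *ᵥ x) (M *ᵥ y)) (tp idF f t (N *ᵥ x) (N *ᵥ y))
    (tp idF f t (M *ᵥ x) (N *ᵥ y) + tp idF f t (N *ᵥ x) (M *ᵥ y))
    (-(tp idF f t (M *ᵥ x) y + tp idF f t x (M *ᵥ y))) (-(tp idF f t (N *ᵥ x) y + tp idF f t x (N *ᵥ y)))
  by_cases hab : a ≠ 0 ∨ b ≠ 0
  · obtain ⟨μ, hμ0, hμ⟩ := hsim a b s hab
    refine hμ0 ?_
    have e := hμ x y
    rw [hxy, mul_one] at e
    rw [← e, sub_eq_add_neg, sub_eq_add_neg, ← neg_smul, ← neg_smul]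
    simp only [UA.semi.add_left, UA.semi.add_right, UA.semi.smul_left, UA.semi.smul_right, RingEquiv.refl_apply, hxy]
    linear_combination h0
  · push Not at hab
    rw [hab.1, hab.2] at h0
    have : s * s = 0 := by linear_combination h0
    rcases hne with h | h | h
    · exact h hab.1
    · exact h hab.2
    · exact h (mul_self_eq_zero.1 this)

end Cfsg.Agent.Classical.TensorPowerMax.Symplectic
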