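/-
Two-dimensional factors: the operator of the centre attached to an extremal configuration.
-/
import Cfsg.Agent.Lib.Classical.STPow.Ext

set_option autoImplicit false
set_option linter.unusedSectionVars false

namespace Cfsg.Agent.Classical.TensorPowerMax.Symplectic

open Matrix Cfsg.Geo
open Cfsg.Agent.Classical
open Cfsg.Agent.Classical.TensorPowerMax
open Cfsg.Agent.Classical.TensorPowerMax.Unitary (tp fl nm fib per mem_fib tens_mem_fib finrank_fib mem_img tens_tm
  tens_add_left tens_smul_left tens_smul_right tens_zero_left tens_indep)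
open Cfsg.Agent.Classical.TensorMax (kr kr_val kr_mul kr_one kr_inv)
open Cfsg.Agent.Classical.TensorMax.Form (SForm tm tf Data Rt)
open scoped Kronecker

variable {F : Type*} [Field F] [Fintype F] {m t : ℕ} {f : (Fin m → F) → (Fin m → F) → F}
  {X : Subgroup (GL (Fin (t + 1) → Fin m) F)}

local notation "idF" => RingEquiv.refl F
local notation:max g:max " ⬝ₘ " x:max =>
  ((g : GL (Fin (t + 1) → Fin m) F) : Matrix (Fin (t + 1) → Fin m) (Fin (t + 1) → Fin m) F) *ᵥ x
local notation "STD" => tensorWreathStandard m (t + 1) F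
local notation "VV" => (Fin t → Fin m) → F
local notation "WW" => (Fin (t + 1) → Fin m) → F

/-- Tensoring with a fixed vector. -/
def te (i : Fin (t + 1)) (o : Fin m → F) : VV →ₗ[F] WW where
  toFun v := tens i v o
  map_add' a b := tens_add_left i a b o
  map_smul' r a := tens_smul_left i r a o

theorem te_apply (i : Fin (t + 1)) (o : Fin m → F) (v : VV) : te i o v = tens i v o := rfl

/-- The component along the centre. -/
def co (f : (Fin m → F) → (Fin m → F) → F) (i : Fin (t + 1)) (o : Fin m → F) : WW →ₗ[F] VV where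
  toFun u := slice i u *ᵥ fl f o
  map_add' a b := by rw [map_add, Matrix.add_mulVec]
  map_smul' r a := by rw [map_smul, Matrix.smul_mulVec, RingHom.id_apply]

theorem co_apply (i : Fin (t + 1)) (o : Fin m → F) (u : WW) : co f i o u = slice i u *ᵥ fl f o := rfl

/-- The displacement of an element. -/
def disp (x : GL (Fin (t + 1) → Fin m) F) : WW →ₗ[F] WW :=
  Matrix.mulVecLin (x : Matrix (Fin (t + 1) → Fin m) (Fin (t + 1) → Fin m) F) - LinearMap.id

theorem disp_apply (x : GL (Fin (t + 1) → Fin m) F) (u : WW) : disp x u = x ⬝ₘ u - u := rfl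

theorem co_tens (S : SForm f) (i : Fin (t + 1)) (o w : Fin m → F) (a : VV) : co f i o (tens i a w) = f w o • a := by
  rw [co_apply, slice_tens, Matrix.vecMulVec_mulVec, dotProduct_comm, fl_dot S, op_smul_eq_smul]

theorem co_te (S : SForm f) (i : Fin (t + 1)) (o : Fin m → F) (a : VV) : co f i o (te i o a) = 0 := by
  rw [te_apply, co_tens S, S.alt, zero_smul]

theorem te_inj {i : Fin (t + 1)} {o : Fin m → F} (ho : o ≠ 0) {a : VV} (h : te i o a = 0) : a = 0 := by
  obtain ⟨k, hk⟩ := Function.ne_iff.1 ho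
  funext y
  have := congrArg (fun u => slice i u y k) h
  simp only [te_apply, slice_tens, vecMulVec_apply, map_zero, Matrix.zero_apply] at this
  exact (mul_eq_zero.1 this).resolve_right hk

theorem co_zero_iff (S : SForm f) (hm : m = 2) {i : Fin (t + 1)} {o : Fin m → F} (ho : o ≠ 0) {u : WW} :
    co f i o u = 0 ↔ u ∈ fib i o := by
  constructor
  · intro h y
    refine line_of_two S hm ho ?_
    rw [← fl_dot S, dotProduct_comm]
    exact congrFun h y
  · intro h
    obtain ⟨a, rfl⟩ := mem_fib.1 h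
    exact co_te S i o a

theorem per_eq_fib (S : SForm f) (hm : m = 2) {i : Fin (t + 1)} {o : Fin m → F} (ho : o ≠ 0) :
    per f i o = fib i o := SetLike.ext fun u => by
  rw [← co_zero_iff S hm ho, per, mem_ann, co_apply]

/-- A pure tensor in a fibre. -/
theorem pv_mem_fib_iff {j : Fin (t + 1)} {u : Fin m → F} {c : Fin (t + 1) → Fin m → F} (hc : ∀ k, c k ≠ 0) :
    pv c ∈ fib j u ↔ c j ∈ Submodule.span F {u} := by
  have hrow : ∀ y, slice j (pv c) y = (∏ k, c (j.succAbove k) (y k)) • c j := fun y => funext fun k => by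
    rw [slice_apply, Pi.smul_apply, smul_eq_mul, pv, Fin.prod_univ_succAbove _ j]
    simp [spl, mul_comm]
  constructor
  · intro h
    choose y hy using fun k => Function.ne_iff.1 (hc (j.succAbove k))
    have h1 : slice j (pv c) y ∈ Submodule.span F {u} := h y
    rw [hrow] at h1
    have hp : (∏ k, c (j.succAbove k) (y k)) ≠ 0 := Finset.prod_ne_zero_iff.2 fun k _ => hy k
    have := Submodule.smul_mem _ (∏ k, c (j.succAbove k) (y k))⁻¹ h1
    rwa [smul_smul, inv_mul_cancel₀ hp, one_smul] at this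
  · intro h y
    show slice j (pv c) y ∈ Submodule.span F {u}
    rw [hrow]
    exact Submodule.smul_mem _ _ h

theorem exists_outside (hm : 2 ≤ m) {u : Fin m → F} (hu : u ≠ 0) : ∃ w, w ≠ 0 ∧ w ∉ Submodule.span F {u} := by
  obtain ⟨w, hw, h⟩ := exists_not_prop (F := F) hm hu
  refine ⟨w, hw, fun e => ?_⟩
  obtain ⟨r, hr⟩ := Submodule.mem_span_singleton.1 e
  have hr0 : r ≠ 0 := fun e0 => hw (by rw [← hr, e0, zero_smul])
  exact h r⁻¹ (by rw [← hr, smul_smul, inv_mul_cancel₀ hr0, one_smul])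

/-- A fibre determines its factor and its line. -/
theorem fib_le_fib (hm : 2 ≤ m) {i j : Fin (t + 1)} {o u : Fin m → F} (ho : o ≠ 0) (hu : u ≠ 0)
    (h : fib i o ≤ fib j u) : j = i ∧ o ∈ Submodule.span F {u} := by
  classical
  obtain ⟨w, hw, hwu⟩ := exists_outside hm hu
  obtain ⟨c, hc⟩ : ∃ c : Fin (t + 1) → Fin m → F, c = Function.update (fun _ => w) i o := ⟨_, rfl⟩
  have hc0 : ∀ k, c k ≠ 0 := fun k => by
    rw [hc, Function.update_apply]
    split_ifs
    · exact ho
    · exact hw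
  have h1 : c j ∈ Submodule.span F {u} := (pv_mem_fib_iff hc0).1 (h ((pv_mem_fib_iff hc0).2 (by
    rw [hc, Function.update_self]; exact Submodule.mem_span_singleton_self o)))
  have hji : j = i := by
    by_contra hne
    rw [hc, Function.update_of_ne hne] at h1
    exact hwu h1
  subst hji
  rw [hc, Function.update_self] at h1
  exact ⟨rfl, h1⟩

/-- The configuration with two-dimensional factors. -/
structure Two (f : (Fin m → F) → (Fin m → F) → F) (X : Subgroup (GL (Fin (t + 1) → Fin m) F))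
    (W : Submodule F WW) (i : Fin (t + 1)) (o : Fin m → F) (c : F) (z x : GL (Fin (t + 1) → Fin m) F) : Prop where
  ov : Over f X
  m2 : m = 2
  ho : o ≠ 0
  hc0 : c ≠ 0
  rt : Rt f o c ((J i).symm z)
  memx : x ∈ X
  notStd : x ∉ STD
  sq : ∀ u, disp x (disp x u) = 0
  xfix : x ∈ fixG W
  le : W ≤ fib i o
  max : ∀ y ∈ X, y ∉ STD → y ∈ fixG W → ∀ a ∈ fib i o, y ⬝ₘ a ∈ fib i o → a ∈ W
  scaled : ∀ u : F, ∃ y ∈ X, y ∈ fixG W ∧ ∀ v, y ⬝ₘ v = v + u • disp x v
  best : ∀ W', Good f X W' → Module.finrank F W' ≤ Module.finrank F W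

/-- The operator of the centre. -/
def chi (f : (Fin m → F) → (Fin m → F) → F) (i : Fin (t + 1)) (o : Fin m → F)
    (x : GL (Fin (t + 1) → Fin m) F) : VV →ₗ[F] VV :=
  co f i o ∘ₗ disp x ∘ₗ te i o

/-- The displacement of the fibre. -/
def nv (i : Fin (t + 1)) (o : Fin m → F) (x : GL (Fin (t + 1) → Fin m) F) : VV →ₗ[F] WW :=
  disp x ∘ₗ te i o

/-- The action of an element on the fibre and its displacement, in terms of operators. -/
def Act (i : Fin (t + 1)) (o : Fin m → F) (x y : GL (Fin (t + 1) → Fin m) F) (E : Submodule F VV)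
    (a b c d : VV → VV) : Prop :=
  ∀ v ∈ E, y ⬝ₘ (te i o v) = te i o (a v) + nv i o x (b v) ∧ y ⬝ₘ (nv i o x v) = te i o (c v) + nv i o x (d v)

variable {W : Submodule F ((Fin (t + 1) → Fin m) → F)} {i : Fin (t + 1)} {o : Fin m → F} {c : F} {z x : GL (Fin (t + 1) → Fin m) F}

theorem chi_apply (v : VV) : chi f i o x v = co f i o (nv i o x v) := rfl

theorem Act.mul {y y' : GL (Fin (t + 1) → Fin m) F} {E : Submodule F VV} {a b c d a' b' c' d' : VV → VV}
    (h : Act i o x y E a b c d) (h' : Act i o x y' E a' b' c' d') (ha : ∀ v ∈ E, a' v ∈ E) (hb : ∀ v ∈ E, b' v ∈ E)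
    (hc : ∀ v ∈ E, c' v ∈ E) (hd : ∀ v ∈ E, d' v ∈ E) :
    Act i o x (y * y') E (fun v => a (a' v) + c (b' v)) (fun v => b (a' v) + d (b' v))
      (fun v => a (c' v) + c (d' v)) (fun v => b (c' v) + d (d' v)) := fun v hv => by
  constructor
  · rw [gl_mul_mulVec, (h' v hv).1, Matrix.mulVec_add, (h _ (ha v hv)).1, (h _ (hb v hv)).2, map_add, map_add]
    abel
  · rw [gl_mul_mulVec, (h' v hv).2, Matrix.mulVec_add, (h _ (hc v hv)).1, (h _ (hd v hv)).2, map_add, map_add]
    abel

theorem Act.congr {y : GL (Fin (t + 1) → Fin m) F} {E : Submodule F VV} {a b c d a' b' c' d' : VV → VV}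
    (h : Act i o x y E a b c d) (ha : ∀ v ∈ E, a v = a' v) (hb : ∀ v ∈ E, b v = b' v) (hc : ∀ v ∈ E, c v = c' v)
    (hd : ∀ v ∈ E, d v = d' v) : Act i o x y E a' b' c' d' := fun v hv => by
  rw [← ha v hv, ← hb v hv, ← hc v hv, ← hd v hv]
  exact h v hv

theorem Two.mem_W_iff (T : Two f X W i o c z x) (v : VV) : te i o v ∈ W ↔ chi f i o x v = 0 := by
  have S := T.ov.sf
  constructor
  · intro h
    rw [chi_apply, nv, LinearMap.comp_apply, disp_apply, T.xfix _ h, sub_self, map_zero]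
  · intro h
    refine T.max x T.memx T.notStd T.xfix _ (mem_fib.2 ⟨v, rfl⟩) ?_
    rw [show x ⬝ₘ (te i o v) = te i o v + nv i o x v by
      rw [nv, LinearMap.comp_apply, disp_apply, add_sub_cancel]]
    exact add_mem (mem_fib.2 ⟨v, rfl⟩) ((co_zero_iff S T.m2 T.ho).1 h)

theorem Two.nv_zero_iff (T : Two f X W i o c z x) (v : VV) : nv i o x v = 0 ↔ chi f i o x v = 0 :=
  ⟨fun h => by rw [chi_apply, h, map_zero], fun h => by
    rw [nv, LinearMap.comp_apply, disp_apply, T.xfix _ ((T.mem_W_iff v).2 h), sub_self]⟩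

theorem Two.indep (T : Two f X W i o c z x) {a b : VV} (h : te i o a + nv i o x b = 0) :
    a = 0 ∧ chi f i o x b = 0 := by
  have hb : chi f i o x b = 0 := by
    have := congrArg (co f i o) h
    rwa [map_add, co_te T.ov.sf, zero_add, map_zero, ← chi_apply] at this
  rw [(T.nv_zero_iff b).2 hb, add_zero] at h
  exact ⟨te_inj T.ho h, hb⟩

theorem Two.x_nv (T : Two f X W i o c z x) (v : VV) : x ⬝ₘ (nv i o x v) = nv i o x v := by
  have := T.sq (te i o v)
  rwa [disp_apply, sub_eq_zero] at this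

/-- The displacement is isotropic. -/
theorem Two.disp_orth (T : Two f X W i o c z x) (u u' : WW) :
    tp idF f (t + 1) (disp x u) u' + tp idF f (t + 1) u (disp x u') = 0 := by
  have r := tp_refl T.ov.sf (t + 1)
  have hx : ∀ u, x ⬝ₘ u = u + disp x u := fun u => by rw [disp_apply, add_sub_cancel]
  have key : ∀ u u', tp idF f (t + 1) (disp x u) u' + tp idF f (t + 1) u (disp x u') +
      tp idF f (t + 1) (disp x u) (disp x u') = 0 := fun u u' => by
    have e := T.ov.iso T.memx u u'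
    rw [hx, hx, r.semi.add_left, r.semi.add_right, r.semi.add_right] at e
    linear_combination e
  have h0 : tp idF f (t + 1) (disp x u) (disp x u') = 0 := by
    have := key u (disp x u')
    rwa [T.sq, r.zero_right, r.zero_right, add_zero, add_zero] at this
  have := key u u'
  rwa [h0, add_zero] at this

/-- The operator is self-adjoint. -/
theorem Two.chi_adj (T : Two f X W i o c z x) (v w : VV) :
    tp idF f t (chi f i o x v) w = tp idF f t v (chi f i o x w) := by
  have S := T.ov.sf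
  have e := T.disp_orth (te i o v) (te i o w)
  rw [te_apply, te_apply, (tp_refl S (t + 1)).swap (disp x (tens i w o)) (tens i v o), tp_tens S, tp_tens S,
    RingEquiv.refl_apply, (tp_refl S t).swap v (slice i (disp x (tens i w o)) *ᵥ fl f o), RingEquiv.refl_apply] at e
  rw [chi_apply, chi_apply, co_apply, co_apply, nv, LinearMap.comp_apply, LinearMap.comp_apply, te_apply, te_apply]
  have hε : ((-1 : F) ^ t) * ((-1) ^ t) = 1 := by rw [← mul_pow]; simp
  rw [pow_succ] at e
  linear_combination e + (tp idF f t v (slice i (disp x (tens i w o)) *ᵥ fl f o)) * hε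

theorem root_apply (S : SForm f) {zs : GL (Fin (t + 1) → Fin m) F} {s : F} (h : Rt f o s ((J i).symm zs)) (u : WW) :
    zs ⬝ₘ u = u + s • te i o (co f i o u) := by
  rw [root_mulVec (root_val S h), Matrix.mulVec_smul, tens_smul_left, te_apply, co_apply]

/-- The root elements of the centre. -/
theorem Two.exists_zs (T : Two f X W i o c z x) (s : F) :
    ∃ y ∈ X, y ∈ fixG W ∧ ∀ u, y ⬝ₘ u = u + s • te i o (co f i o u) := by
  by_cases hs : s = 0
  · exact ⟨1, one_mem _, one_mem _, fun u => by rw [hs, zero_smul, add_zero, Units.val_one, Matrix.one_mulVec]⟩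
  · obtain ⟨y, hy, hR, -⟩ := exists_srootAt T.ov.sf i T.ho hs
    exact ⟨y, T.ov.le hy, mem_fixG_per T.ov.sf T.ho hs hR (T.le.trans (per_eq_fib T.ov.sf T.m2 T.ho).ge),
      root_apply T.ov.sf hR⟩

theorem Two.act_up (T : Two f X W i o c z x) (u : F) (E : Submodule F VV) :
    ∃ y ∈ X, y ∈ fixG W ∧ Act i o x y E (fun v => v) (fun v => u • v) (fun _ => 0) (fun v => v) := by
  obtain ⟨y, hy, hyW, h⟩ := T.scaled u
  refine ⟨y, hy, hyW, fun v _ => ⟨?_, ?_⟩⟩
  · rw [h, map_smul]; rfl
  · rw [h, nv, LinearMap.comp_apply, T.sq, smul_zero, add_zero, map_zero, zero_add]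

theorem Two.act_low (T : Two f X W i o c z x) (s : F) (E : Submodule F VV) :
    ∃ y ∈ X, y ∈ fixG W ∧ Act i o x y E (fun v => v) (fun _ => 0) (fun v => s • chi f i o x v) (fun v => v) := by
  obtain ⟨y, hy, hyW, h⟩ := T.exists_zs s
  refine ⟨y, hy, hyW, fun v _ => ⟨?_, ?_⟩⟩
  · rw [h, co_te T.ov.sf, map_zero, smul_zero, add_zero, map_zero, add_zero]
  · rw [h, ← chi_apply, map_smul]
    exact add_comm _ _

/-- An element of the group moving a fibre of two-dimensional factors to itself. -/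
theorem Two.carryA (T : Two f X W i o c z x) {y : GL (Fin (t + 1) → Fin m) F} (hy : y ∈ X) (hys : y ∈ STD)
    (hA : ∀ a ∈ fib i o, y ⬝ₘ a ∈ fib i o) : ∃ (a : GL (Fin t → Fin m) F) (b : GL (Fin m) F) (r : F),
      y = J i (kr a b) ∧ r ≠ 0 ∧ (b : Matrix (Fin m) (Fin m) F) *ᵥ o = r • o := by
  have S := T.ov.sf
  obtain ⟨j, o₁, c₁, ho₁, hc₁, hR₁⟩ : SRoot f (y * z * y⁻¹) :=
    SRoot.conj S T.ov.two_le ⟨i, o, c, T.ho, T.hc0, T.rt⟩ hys (T.ov.iso hy)
  have hfix : fib i o ≤ fib j o₁ := by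
    have himg : img y (fib i o) = fib i o := by
      refine Submodule.eq_of_le_of_finrank_le ?_ (finrank_img y _).ge
      rintro v ⟨u, hu, rfl⟩
      exact hA u hu
    rw [← per_eq_fib S T.m2 ho₁, ← fixS_rootC S ho₁ hc₁ hR₁, ← himg, ← mem_fixG_iff_le]
    exact mem_fixG_img (mem_fixG_per S T.ho T.hc0 T.rt (per_eq_fib S T.m2 T.ho).ge)
  obtain ⟨rfl, ho⟩ := fib_le_fib T.ov.two_le T.ho ho₁ hfix
  obtain ⟨a, b, r, hab, hr, hb⟩ := carry S T.ov.two_le hys T.ho T.hc0 T.rt ho₁ hc₁ hR₁ (by rw [inv_mul_cancel_right])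
  obtain ⟨ρ, hρ⟩ := Submodule.mem_span_singleton.1 ho
  have hρ0 : ρ ≠ 0 := fun e => T.ho (by rw [← hρ, e, zero_smul])
  refine ⟨a, b, r / ρ, hab, div_ne_zero hr hρ0, ?_⟩
  rw [hb, ← hρ, smul_smul, div_mul_cancel₀ _ hρ0]

theorem Ext.two (E : Ext f X W i o c z x) (hm : m = 2) : Two f X W i o c z (x⁻¹ * z * x) := by
  classical
  have S := E.ov.sf
  have hzX : z ∈ X := E.ov.le (E.zroot.mem_ks S)
  have hA : per f i o = fib i o := per_eq_fib S hm E.ho
  have hN : ∀ (s : F) (zs : GL (Fin (t + 1) → Fin m) F), (∀ u, zs ⬝ₘ u = u + s • te i o (co f i o u)) → ∀ v,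
      (x⁻¹ * zs * x) ⬝ₘ v = v + s • (x⁻¹ ⬝ₘ (te i o (co f i o (x ⬝ₘ v)))) := fun s zs h v => by
    rw [gl_mul_mulVec, gl_mul_mulVec, h, Matrix.mulVec_add, gl_inv_mulVec_cancel, Matrix.mulVec_smul]
  have hd : ∀ v, disp (x⁻¹ * z * x) v = c • (x⁻¹ ⬝ₘ (te i o (co f i o (x ⬝ₘ v)))) := fun v => by
    rw [disp_apply, hN c z (root_apply S E.rt)]
    exact add_sub_cancel_left _ _
  have hfixW : ∀ zs : GL (Fin (t + 1) → Fin m) F, zs ∈ fixG W → x⁻¹ * zs * x ∈ fixG W := fun zs h =>
    mul_mem (mul_mem (inv_mem E.gfix) h) E.gfix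
  refine ⟨E.ov, hm, E.ho, E.hc0, E.rt, mul_mem (mul_mem (inv_mem E.mem) hzX) E.mem, fun h => ?_, fun u => ?_,
    hfixW z E.zfix, E.le_per.trans hA.le, fun y hy hys hyW a ha hya => ?_, fun u => ?_, E.best⟩
  · have := E.ov.moves (inv_mem E.mem) E.zroot (by rwa [inv_inv])
    exact E.notMem (by have := inv_mem this; rwa [inv_inv] at this)
  · rw [hd, hd, Matrix.mulVec_smul, gl_mulVec_inv_cancel, map_smul, co_te S, smul_zero, map_zero, Matrix.mulVec_zero,
      smul_zero]
  · have hle : W ≤ per f i o ⊓ img y⁻¹ (per f i o) := fun v hv =>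
      ⟨E.le_per hv, mem_img.2 (by rw [inv_inv, hyW v hv]; exact E.le_per hv)⟩
    have heq := Submodule.eq_of_le_of_finrank_le hle (by
      rw [← finrank_img y]
      exact E.best _ (E.ov.good_inter E.ho hy hys))
    rw [heq]
    exact ⟨hA.ge ha, mem_img.2 (by rw [inv_inv]; exact hA.ge hya)⟩
  · by_cases hu : u = 0
    · exact ⟨1, one_mem _, one_mem _, fun v => by rw [hu, zero_smul, add_zero, Units.val_one, Matrix.one_mulVec]⟩
    obtain ⟨zs, hzs, hR, -⟩ := exists_srootAt S i E.ho (mul_ne_zero hu E.hc0)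
    refine ⟨x⁻¹ * zs * x, mul_mem (mul_mem (inv_mem E.mem) (E.ov.le hzs)) E.mem,
      hfixW zs (mem_fixG_per S E.ho (mul_ne_zero hu E.hc0) hR E.le_per), fun v => ?_⟩
    rw [hd, hN (u * c) zs (root_apply S hR), smul_smul]

end Cfsg.Agent.Classical.TensorPowerMax.Symplectic
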