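/-
Two-dimensional factors: the operator of the centre has no non-zero eigenvalue.
-/
import Cfsg.Agent.Lib.Classical.STPow.TwoBase

set_option autoImplicit false
set_option linter.unusedSectionVars false

namespace Cfsg.Agent.Classical.TensorPowerMax.Symplectic

open Matrix Cfsg.Geo
open Cfsg.Agent.Classical
open Cfsg.Agent.Classical.TensorPowerMax
open Cfsg.Agent.Classical.TensorPowerMax.Unitary (tp fl nm fib per mem_fib tens_mem_fib finrank_fib mem_img tens_tm
  tens_add_left tens_add_right tens_smul_left tens_smul_right tens_zero_left tens_indep)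
open Cfsg.Agent.Classical.TensorMax (kr kr_val kr_mul kr_one kr_inv)
open Cfsg.Agent.Classical.TensorMax.Form (SForm tm tf Data Rt)
open scoped Kronecker

variable {F : Type*} [Field F] [Fintype F] {m t : ℕ} {f : (Fin m → F) → (Fin m → F) → F}
  {X : Subgroup (GL (Fin (t + 1) → Fin m) F)}

local notation "idF" => RingEquiv.refl F
local notation:max g:max " ⬝ₘ " x:max =>
  ((g : GL (Fin (t + 1) → Fin m) F) : Matrix (Fin (t + 1) → Fin m) (Fin (t + 1) → Fin m) F) *ᵥ x
local notation "STD" => tensorWreathStandard m (t + 1) F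
local notation "VV" => (Fin t → Fin m) → F
local notation "WW" => (Fin (t + 1) → Fin m) → F

variable {W : Submodule F ((Fin (t + 1) → Fin m) → F)} {i : Fin (t + 1)} {o : Fin m → F} {c : F}
  {z x : GL (Fin (t + 1) → Fin m) F}

/-- The element exchanging the fibre and its displacement on an eigenspace. -/
theorem Two.act_weyl (T : Two f X W i o c z x) {a : F} (ha : a ≠ 0) (u : F) (hu : u ≠ 0) (E : Submodule F VV)
    (hE : ∀ v ∈ E, chi f i o x v = a • v) :
    ∃ y ∈ X, y ∈ fixG W ∧ Act i o x y E (fun _ => 0) (fun v => u • v) (fun v => (-u⁻¹) • v) (fun _ => 0) := by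
  obtain ⟨y₁, h₁, h₁W, A₁⟩ := T.act_up u E
  obtain ⟨y₂, h₂, h₂W, A₂⟩ := T.act_low (-(u * a)⁻¹) E
  have hlow : Act i o x y₂ E (fun v => v) (fun _ => 0) (fun v => (-u⁻¹) • v) (fun v => v) :=
    A₂.congr (fun _ _ => rfl) (fun _ _ => rfl) (fun v hv => by
      rw [hE v hv, smul_smul, mul_inv, neg_mul, mul_assoc, inv_mul_cancel₀ ha, mul_one]) (fun _ _ => rfl)
  refine ⟨y₁ * (y₂ * y₁), mul_mem h₁ (mul_mem h₂ h₁), mul_mem h₁W (mul_mem h₂W h₁W), fun v hv => ?_⟩
  have hu' : (-u⁻¹) • (u • v) = -v := by rw [smul_smul, neg_mul, inv_mul_cancel₀ hu, neg_one_smul]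
  have hu'' : u • ((-u⁻¹) • v) = -v := by rw [smul_smul, mul_neg, mul_inv_cancel₀ hu, neg_one_smul]
  constructor
  · have e1 : y₂ ⬝ₘ (y₁ ⬝ₘ (te i o v)) = nv i o x (u • v) := by
      rw [(A₁ v hv).1, Matrix.mulVec_add, (hlow v hv).1, (hlow _ (E.smul_mem u hv)).2]
      simp only [hu', map_zero, map_neg]
      module
    rw [gl_mul_mulVec, gl_mul_mulVec, e1, (A₁ _ (E.smul_mem u hv)).2]
  · rw [gl_mul_mulVec, gl_mul_mulVec, (A₁ v hv).2, map_zero, zero_add, (hlow v hv).2, Matrix.mulVec_add,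
      (A₁ _ (E.smul_mem _ hv)).1, (A₁ v hv).2]
    simp only [hu'', map_zero, map_neg]
    module

/-- The operator is not a multiple of an idempotent. -/
theorem Two.scalar_false (T : Two f X W i o c z x) {a : F} (ha : a ≠ 0)
    (hq : ∀ v, chi f i o x (chi f i o x v) = a • chi f i o x v) {v₀ : VV} (hv₀ : v₀ ≠ 0)
    (hev : chi f i o x v₀ = a • v₀) : False := by
  classical
  have S := T.ov.sf
  have r := tp_refl S t
  have hm := T.ov.two_le
  obtain ⟨l, hl, hl2⟩ := exists_scalar_sq (T.ov.h2 T.m2) fun e => T.ov.hex ⟨e, T.m2⟩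
  obtain ⟨E, hE⟩ : ∃ E, E = LinearMap.ker (chi f i o x - a • LinearMap.id) := ⟨_, rfl⟩
  have hEm : ∀ v, v ∈ E ↔ chi f i o x v = a • v := fun v => by
    rw [hE, LinearMap.mem_ker, LinearMap.sub_apply, LinearMap.smul_apply, LinearMap.id_apply, sub_eq_zero]
  obtain ⟨y₁, h₁, h₁W, A₁⟩ := T.act_weyl ha l hl E fun v hv => (hEm v).1 hv
  obtain ⟨y₂, h₂, h₂W, A₂⟩ := T.act_weyl ha (-1) (neg_ne_zero.2 one_ne_zero) E fun v hv => (hEm v).1 hv
  have A := A₁.mul A₂ (fun _ _ => E.zero_mem) (fun v hv => E.smul_mem _ hv) (fun v hv => E.smul_mem _ hv)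
    (fun _ _ => E.zero_mem)
  obtain ⟨y, hy⟩ : ∃ y, y = y₁ * y₂ := ⟨_, rfl⟩
  have hyX : y ∈ X := hy ▸ mul_mem h₁ h₂
  have hyW : y ∈ fixG W := hy ▸ mul_mem h₁W h₂W
  have hye : ∀ v ∈ E, y ⬝ₘ (te i o v) = te i o (l⁻¹ • v) ∧ y ⬝ₘ (nv i o x v) = nv i o x (l • v) := fun v hv => by
    obtain ⟨e1, e2⟩ := A v hv
    simp only [smul_zero, add_zero, zero_add, smul_smul, neg_mul, mul_neg, mul_one, inv_neg, inv_one, neg_neg,
      map_zero] at e1 e2
    exact ⟨hy ▸ e1, hy ▸ e2⟩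
  have hsplit : ∀ v, v - a⁻¹ • chi f i o x v ∈ LinearMap.ker (chi f i o x) ∧ a⁻¹ • chi f i o x v ∈ E := fun v => by
    refine ⟨?_, (hEm _).2 ?_⟩
    · rw [LinearMap.mem_ker, map_sub, map_smul, hq, smul_smul, inv_mul_cancel₀ ha, one_smul, sub_self]
    · rw [map_smul, hq, smul_comm]
  have hyA : ∀ u ∈ fib i o, y ⬝ₘ u ∈ fib i o := fun u hu => by
    obtain ⟨v, rfl⟩ := mem_fib.1 hu
    obtain ⟨hk, hE'⟩ := hsplit v
    rw [← te_apply, show v = (v - a⁻¹ • chi f i o x v) + a⁻¹ • chi f i o x v from (sub_add_cancel _ _).symm, map_add,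
      Matrix.mulVec_add, hyW _ ((T.mem_W_iff _).2 (LinearMap.mem_ker.1 hk)), (hye _ hE').1, ← map_add]
    exact mem_fib.2 ⟨_, rfl⟩
  have hys : y ∈ STD := by
    by_contra hys
    have := (T.mem_W_iff v₀).1 (T.max y hyX hys hyW _ (mem_fib.2 ⟨v₀, rfl⟩) (hyA _ (mem_fib.2 ⟨v₀, rfl⟩)))
    rw [hev] at this
    exact smul_ne_zero ha hv₀ this
  obtain ⟨a', b, ρ, hab, hρ, hbo⟩ := T.carryA hyX hys hyA
  have hyte : ∀ v, y ⬝ₘ (te i o v) = te i o (ρ • ((a' : Matrix (Fin t → Fin m) (Fin t → Fin m) F) *ᵥ v)) := fun v => by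
    rw [te_apply, hab, kr_tens, hbo, tens_smul_right, ← tens_smul_left, te_apply]
  have hinj : ∀ {v w}, te i o v = te i o w → v = w := fun h => sub_eq_zero.1 (te_inj T.ho (by rw [map_sub, h, sub_self]))
  have haE : ∀ v ∈ E, (a' : Matrix (Fin t → Fin m) (Fin t → Fin m) F) *ᵥ v = (ρ⁻¹ * l⁻¹) • v := fun v hv => by
    have := hinj ((hyte v).symm.trans (hye v hv).1)
    rw [← smul_smul, ← this, smul_smul, inv_mul_cancel₀ hρ, one_smul]
  by_cases hker : ∃ w, w ≠ 0 ∧ chi f i o x w = 0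
  · obtain ⟨w, hw0, hw⟩ := hker
    obtain ⟨μ, hμ0, hμ⟩ := sim_left S (by omega) (hab ▸ T.ov.iso hyX)
    have haw : ∀ w, chi f i o x w = 0 → (a' : Matrix (Fin t → Fin m) (Fin t → Fin m) F) *ᵥ w = ρ⁻¹ • w := fun w hw => by
      have h1 := hinj ((hyte w).symm.trans (hyW _ ((T.mem_W_iff w).2 hw)))
      conv_rhs => rw [← h1, smul_smul, inv_mul_cancel₀ hρ, one_smul]
    obtain ⟨v, hv⟩ := (r.nondeg w hw0).2
    have hv' : tp idF f t w (v - a⁻¹ • chi f i o x v) ≠ 0 := by
      rwa [sub_eq_add_neg, ← neg_smul, r.semi.add_right, r.semi.smul_right, ← T.chi_adj, hw, r.zero_left, mul_zero,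
        add_zero]
    have e1 := hμ w (v - a⁻¹ • chi f i o x v)
    rw [haw w hw, haw _ (LinearMap.mem_ker.1 (hsplit v).1), r.semi.smul_left, r.semi.smul_right,
      RingEquiv.refl_apply, ← mul_assoc] at e1
    obtain ⟨v', hv''⟩ := (r.nondeg v₀ hv₀).2
    have hvE : tp idF f t v₀ (a⁻¹ • chi f i o x v') ≠ 0 := by
      rw [r.semi.smul_right, ← T.chi_adj, hev, r.semi.smul_left, RingEquiv.refl_apply, ← mul_assoc,
        inv_mul_cancel₀ ha, one_mul]
      exact hv''
    have e2 := hμ v₀ (a⁻¹ • chi f i o x v')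
    rw [haE _ ((hEm _).2 hev), haE _ (hsplit v').2, r.semi.smul_left, r.semi.smul_right, RingEquiv.refl_apply,
      ← mul_assoc] at e2
    have f1 := mul_right_cancel₀ hv' e1
    have f2 := mul_right_cancel₀ hvE e2
    rw [← f1] at f2
    apply hl2
    have f3 := inv_inj.2 f2
    simp only [mul_inv, inv_inv] at f3
    field_simp at f3
    linear_combination f3
  push Not at hker
  have htop : ∀ v, v ∈ E := fun v => by
    have h := LinearMap.mem_ker.1 (hsplit v).1
    have h0 : v - a⁻¹ • chi f i o x v = 0 := by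
      by_contra hne
      exact hker _ hne h
    rw [sub_eq_zero.1 h0]
    exact (hsplit v).2
  obtain ⟨o', ho', -⟩ := exists_partner S T.ho
  have hbr : ∀ v y', (b : Matrix (Fin m) (Fin m) F) *ᵥ slice i (nv i o x v) y' = (l * l * ρ) • slice i (nv i o x v) y' := by
    intro v y'
    have e := congrArg (slice i) ((hye v (htop v)).2)
    rw [hab, slice_kr, map_smul, map_smul, show (a' : Matrix (Fin t → Fin m) (Fin t → Fin m) F) =
      (ρ⁻¹ * l⁻¹) • 1 from Matrix.toLin'.injective (LinearMap.ext fun w => by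
        rw [Matrix.toLin'_apply, Matrix.toLin'_apply, haE w (htop w), Matrix.smul_mulVec, Matrix.one_mulVec]),
      Matrix.smul_mul, Matrix.one_mul, Matrix.smul_mul] at e
    have e' := congrFun e y'
    have e2 : (slice i (nv i o x v) * (b : Matrix (Fin m) (Fin m) F)ᵀ) y' = (b : Matrix (Fin m) (Fin m) F) *ᵥ slice i (nv i o x v) y' := by
      rw [Matrix.mul_apply_eq_vecMul, Matrix.vecMul_transpose]
    have e3 : (ρ⁻¹ * l⁻¹) • ((b : Matrix (Fin m) (Fin m) F) *ᵥ slice i (nv i o x v) y') = l • slice i (nv i o x v) y' := by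
      rw [← e2]; exact e'
    have e4 := congrArg ((ρ * l) • ·) e3
    simp only [smul_smul] at e4
    rw [show ρ * l * (ρ⁻¹ * l⁻¹) = 1 by field_simp, one_smul] at e4
    rw [e4]
    congr 1
    ring
  obtain ⟨o'', ho''0, ho''⟩ : ∃ o'' : Fin m → F, o'' ≠ 0 ∧ (b : Matrix (Fin m) (Fin m) F) *ᵥ o'' = (l * l * ρ) • o'' := by
    by_contra! hcon
    refine smul_ne_zero ha hv₀ ?_
    rw [← hev, chi_apply, co_apply]
    have : slice i (nv i o x v₀) = 0 := funext fun y' => by
      by_contra hne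
      exact hcon _ hne (hbr v₀ y')
    rw [this, Matrix.zero_mulVec]
  have hne : l * l * ρ ≠ ρ := fun e => hl2 (mul_right_cancel₀ hρ (by rw [e, one_mul]))
  have ho''o : o'' ∉ Submodule.span F {o} := fun e => by
    obtain ⟨s, rfl⟩ := Submodule.mem_span_singleton.1 e
    rw [Matrix.mulVec_smul, hbo, smul_comm] at ho''
    have h := sub_eq_zero.2 ho''
    rw [← sub_smul] at h
    exact ho''0 ((smul_eq_zero.1 h).resolve_left (sub_ne_zero.2 (Ne.symm hne)))
  have hf : f o'' o ≠ 0 := fun e => ho''o (line_of_two S T.m2 T.ho e)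
  have hfib : ∀ v, nv i o x v ∈ fib i o'' := fun v y' => by
    show slice i (nv i o x v) y' ∈ Submodule.span F {o''}
    obtain ⟨row, hrow⟩ : ∃ r, r = slice i (nv i o x v) y' := ⟨_, rfl⟩
    have hw' : row - (f row o / f o'' o) • o'' ∈ Submodule.span F {o} := line_of_two S T.m2 T.ho (by
      rw [S.sub_left, S.refl.semi.smul_left, div_mul_cancel₀ _ hf, sub_self])
    obtain ⟨s, hs⟩ := Submodule.mem_span_singleton.1 hw'
    have h1 : (b : Matrix (Fin m) (Fin m) F) *ᵥ (s • o) = (l * l * ρ) • (s • o) := by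
      rw [hs, Matrix.mulVec_sub, Matrix.mulVec_smul, ho'', hrow, hbr v y', smul_sub, smul_comm _ (l * l * ρ)]
    rw [Matrix.mulVec_smul, hbo, smul_comm (l * l * ρ) s o] at h1
    have h2 := sub_eq_zero.2 h1
    rw [← smul_sub, ← sub_smul] at h2
    have hs0 : s = 0 := (smul_eq_zero.1 h2).resolve_right (smul_ne_zero (sub_ne_zero.2 (Ne.symm hne)) T.ho)
    rw [hs0, zero_smul, eq_comm, sub_eq_zero] at hs
    rw [← hrow, hs]
    exact Submodule.smul_mem _ _ (Submodule.mem_span_singleton_self _)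
  have hker' : LinearMap.ker (nv i o x) = ⊥ := LinearMap.ker_eq_bot'.2 fun v hv => by
    by_contra hne'
    exact hker v hne' ((T.nv_zero_iff v).1 hv)
  have hrange : LinearMap.range (nv i o x) = fib i o'' := by
    refine Submodule.eq_of_le_of_finrank_le (fun u hu => ?_) ?_
    · obtain ⟨v, rfl⟩ := hu
      exact hfib v
    · rw [finrank_fib i ho''0]
      have := LinearMap.finrank_range_add_finrank_ker (nv i o x)
      rw [hker', finrank_bot, Module.finrank_fintype_fun_eq_card, Fintype.card_fun, Fintype.card_fin, Fintype.card_fin] at this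
      omega
  refine T.notStd (T.ov.fibre_fix i ho''0 T.memx fun u => ?_)
  obtain ⟨v, hv⟩ := LinearMap.mem_range.1 (hrange.ge (tens_mem_fib i u o''))
  rw [← hv, T.x_nv]

/-- The operator has no non-zero eigenvalue. -/
theorem Two.eigen_false (T : Two f X W i o c z x) {a : F} (ha : a ≠ 0) {v₀ : VV} (hv₀ : v₀ ≠ 0)
    (hev : chi f i o x v₀ = a • v₀) : False := by
  classical
  have S := T.ov.sf
  have h2 := T.ov.h2 T.m2
  by_cases hq : ∀ v, chi f i o x (chi f i o x v) = a • chi f i o x v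
  · exact T.scalar_false ha hq hv₀ hev
  obtain ⟨s, hs⟩ : ∃ s, s = -2 / a := ⟨_, rfl⟩
  have hsa : s * a = -2 := by rw [hs, div_mul_cancel₀ _ ha]
  have hs0 : s ≠ 0 := fun e => h2 (by rw [e, zero_mul] at hsa; linear_combination hsa)
  obtain ⟨χ, hχ⟩ : ∃ χ, χ = chi f i o x := ⟨_, rfl⟩
  rw [← hχ] at hev hq
  obtain ⟨y₁, h₁, h₁W, A₁⟩ := T.act_up 1 ⊤
  obtain ⟨y₂, h₂, h₂W, A₂⟩ := T.act_low s ⊤
  have h21 := A₂.mul A₁ (fun _ _ => trivial) (fun _ _ => trivial) (fun _ _ => trivial) (fun _ _ => trivial)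
  obtain ⟨y, hy⟩ : ∃ y, y = y₁ * (y₂ * y₁) := ⟨_, rfl⟩
  have hyX : y ∈ X := hy ▸ mul_mem h₁ (mul_mem h₂ h₁)
  have hyW : y ∈ fixG W := hy ▸ mul_mem h₁W (mul_mem h₂W h₁W)
  have A : Act i o x y ⊤ (fun v => v + s • χ v) (fun v => (2 : F) • v + s • χ v) (fun v => s • χ v)
      (fun v => v + s • χ v) := by
    rw [hy]
    refine (A₁.mul h21 (fun _ _ => trivial) (fun _ _ => trivial) (fun _ _ => trivial) (fun _ _ => trivial)).congr
      ?_ ?_ ?_ ?_ <;> intro v _ <;>
      simp only [add_zero, zero_add, one_smul, map_zero, smul_zero, hχ, two_smul] <;> abel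
  have hye : ∀ v, y ⬝ₘ (te i o v) = te i o (v + s • χ v) + nv i o x ((2 : F) • v + s • χ v) := fun v => (A v trivial).1
  have hyn : ∀ v, y ⬝ₘ (nv i o x v) = te i o (s • χ v) + nv i o x (v + s • χ v) := fun v => (A v trivial).2
  have hco : ∀ v, co f i o (y ⬝ₘ (te i o v)) = χ ((2 : F) • v + s • χ v) := fun v => by
    rw [hye, map_add, co_te S, zero_add, ← chi_apply, ← hχ]
  -- the vector of the eigenvalue is moved to its negative
  have hyv₀ : y ⬝ₘ (te i o v₀) = te i o (-v₀) := by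
    rw [hye, hev, smul_smul, hsa, ← add_smul, add_neg_cancel, zero_smul, map_zero, add_zero]
    congr 1
    module
  have hys : y ∈ STD := by
    by_contra hys
    have h := (T.mem_W_iff v₀).1 (T.max y hyX hys hyW _ (mem_fib.2 ⟨v₀, rfl⟩) (by
      rw [hyv₀]; exact mem_fib.2 ⟨_, rfl⟩))
    rw [← hχ, hev] at h
    exact smul_ne_zero ha hv₀ h
  have hroot : SRoot f z := ⟨i, o, c, T.ho, T.hc0, T.rt⟩
  have hmv : ∀ {y' : GL (Fin (t + 1) → Fin m) F}, y' ∈ X → y' ∈ STD → ∃ (j : Fin (t + 1)) (o₁ : Fin m → F) (c₁ : F),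
      o₁ ≠ 0 ∧ c₁ ≠ 0 ∧ Rt f o₁ c₁ ((J j).symm (y' * z * y'⁻¹)) ∧ img y' (fib i o) = fib j o₁ := by
    intro y' hy' hy's
    obtain ⟨j, o₁, c₁, ho₁, hc₁, hR₁⟩ : SRoot f (y' * z * y'⁻¹) :=
      SRoot.conj S T.ov.two_le hroot hy's (T.ov.iso hy')
    refine ⟨j, o₁, c₁, ho₁, hc₁, hR₁, Submodule.eq_of_le_of_finrank_le ?_ ?_⟩
    · rw [← per_eq_fib S T.m2 ho₁, ← fixS_rootC S ho₁ hc₁ hR₁, ← mem_fixG_iff_le]
      exact mem_fixG_img (mem_fixG_per S T.ho T.hc0 T.rt (per_eq_fib S T.m2 T.ho).ge)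
    · rw [finrank_img, finrank_fib i T.ho, finrank_fib j ho₁]
  obtain ⟨j, o₁, c₁, ho₁, -, hR₁, hB⟩ := hmv hyX hys
  have hji : j ≠ i := by
    rintro rfl
    by_cases ho : o₁ ∈ Submodule.span F {o}
    · refine hq fun v => ?_
      have h1 : y ⬝ₘ (te j o v) ∈ fib j o := by
        have h2 : y ⬝ₘ (te j o v) ∈ fib j o₁ := hB.le ⟨_, mem_fib.2 ⟨v, rfl⟩, rfl⟩
        obtain ⟨ρ, rfl⟩ := Submodule.mem_span_singleton.1 ho
        obtain ⟨u, hu⟩ := mem_fib.1 h2
        exact mem_fib.2 ⟨ρ • u, by rw [hu, tens_smul_right, ← tens_smul_left]⟩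
      have h3 := (co_zero_iff S T.m2 T.ho).2 h1
      rw [hco, map_add, map_smul, map_smul] at h3
      refine smul_right_injective _ hs0 ?_
      show s • χ (χ v) = s • a • χ v
      rw [smul_smul s a, hsa]
      linear_combination (norm := module) h3
    · have h1 : y ⬝ₘ (te j o v₀) ∈ fib j o₁ := hB.le ⟨_, mem_fib.2 ⟨v₀, rfl⟩, rfl⟩
      obtain ⟨u, hu⟩ := mem_fib.1 h1
      rw [hyv₀, te_apply] at hu
      have := tens_indep (i := j) T.ho ho (u := -v₀) (v := -u) (by
        rw [hu, show tens j (-u) o₁ = -tens j u o₁ from by rw [← neg_one_smul F u, tens_smul_left, neg_one_smul],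
          add_neg_cancel])
      exact hv₀ (neg_eq_zero.1 this.1)
  -- the part of the fibre staying in it
  have hU : ∀ v, χ ((2 : F) • v + s • χ v) = 0 →
      y ⬝ₘ (te i o (v + s • χ v)) = te i o v ∧ χ ((2 : F) • (v + s • χ v) + s • χ (v + s • χ v)) = 0 := by
    intro v hv
    have hv' : (2 : F) • χ v + s • χ (χ v) = 0 := by rw [← map_smul, ← map_smul, ← map_add]; exact hv
    have e2 : χ ((2 : F) • (v + s • χ v) + s • χ (v + s • χ v)) = 0 := by
      have e3 : χ ((2 : F) • χ v + s • χ (χ v)) = 0 := by rw [hv', map_zero]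
      simp only [map_add, map_smul] at e3 ⊢
      linear_combination (norm := module) hv' + s • e3
    refine ⟨?_, e2⟩
    rw [hye, (T.nv_zero_iff _).2 (hχ ▸ e2), add_zero]
    congr 1
    simp only [map_add, map_smul, smul_add, smul_smul]
    linear_combination (norm := module) s • hv'
  have hyinv : ∀ v, χ ((2 : F) • v + s • χ v) = 0 ↔ y⁻¹ ⬝ₘ (te i o v) ∈ fib i o := by
    intro v
    constructor
    · intro hv
      obtain ⟨e1, -⟩ := hU v hv
      rw [← e1, gl_inv_mulVec_cancel]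
      exact mem_fib.2 ⟨_, rfl⟩
    · intro h
      obtain ⟨u, hu⟩ := mem_fib.1 h
      have hu' : y ⬝ₘ (te i o u) = te i o v := by rw [te_apply, ← hu, gl_mulVec_inv_cancel]
      have hu0 : χ ((2 : F) • u + s • χ u) = 0 := by rw [← hco, hu', co_te S]
      have e1 := hye u
      rw [hu', (T.nv_zero_iff _).2 (hχ ▸ hu0), add_zero] at e1
      rw [sub_eq_zero.1 (te_inj T.ho (by rw [map_sub, e1, sub_self]) : v - (u + s • χ u) = 0)]
      exact (hU u hu0).2
  have hyy : ∀ v, te i o v ∈ fib j o₁ ↔ χ ((2 : F) • v + s • χ v) = 0 := fun v => by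
    rw [hyinv, ← hB, mem_img]
  obtain ⟨j', o₂, c₂, ho₂, -, -, hB'⟩ := hmv (inv_mem hyX) (inv_mem hys)
  have hyy' : ∀ v, te i o v ∈ fib j' o₂ ↔ te i o v ∈ fib j o₁ := fun v => by
    rw [← hB', mem_img, inv_inv, hyy]
    constructor
    · intro h
      rw [← hco, (co_zero_iff S T.m2 T.ho).2 h]
    · intro h
      refine (co_zero_iff S T.m2 T.ho).1 ?_
      rw [hco, h]
  obtain ⟨w, hw, hwo₁⟩ := exists_outside T.ov.two_le ho₁
  obtain ⟨c', hc'⟩ : ∃ c' : Fin (t + 1) → Fin m → F,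
      c' = Function.update (Function.update (fun _ => w) j o₁) i o := ⟨_, rfl⟩
  have hc'0 : ∀ k, c' k ≠ 0 := fun k => by
    rw [hc', Function.update_apply, Function.update_apply]
    split_ifs
    · exact T.ho
    · exact ho₁
    · exact hw
  obtain ⟨v₁, hv₁⟩ := mem_fib.1 ((pv_mem_fib_iff (j := i) (u := o) hc'0).2 (by
    rw [hc', Function.update_self]; exact Submodule.mem_span_singleton_self o))
  have hmem : te i o v₁ ∈ fib j o₁ := by
    rw [te_apply, ← hv₁, pv_mem_fib_iff hc'0, hc', Function.update_of_ne hji, Function.update_self]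
    exact Submodule.mem_span_singleton_self _
  have hmem' := (hyy' v₁).2 hmem
  rw [te_apply, ← hv₁, pv_mem_fib_iff hc'0, hc'] at hmem'
  have hj'i : j' ≠ i := by
    rintro rfl
    rw [Function.update_self] at hmem'
    refine hji (fib_le_fib T.ov.two_le T.ho ho₁ fun u hu => ?_).1
    obtain ⟨v, rfl⟩ := mem_fib.1 hu
    refine (hyy' v).1 ?_
    obtain ⟨r, hr⟩ := Submodule.mem_span_singleton.1 hmem'
    exact mem_fib.2 ⟨r • v, by rw [te_apply, ← hr, tens_smul_right, ← tens_smul_left]⟩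
  have hfe : fib j' o₂ = fib j o₁ := by
    rw [Function.update_of_ne hj'i] at hmem'
    obtain rfl : j' = j := by
      by_contra hne
      rw [Function.update_of_ne hne] at hmem'
      -- a pure tensor separates the two fibres
      obtain ⟨w', hw', hw'₂⟩ := exists_outside T.ov.two_le ho₂
      obtain ⟨d, hd⟩ : ∃ d : Fin (t + 1) → Fin m → F,
          d = Function.update (Function.update (fun _ => w') j o₁) i o := ⟨_, rfl⟩
      have hd0 : ∀ k, d k ≠ 0 := fun k => by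
        rw [hd, Function.update_apply, Function.update_apply]
        split_ifs
        · exact T.ho
        · exact ho₁
        · exact hw'
      obtain ⟨v₂, hv₂⟩ := mem_fib.1 ((pv_mem_fib_iff (j := i) (u := o) hd0).2 (by
        rw [hd, Function.update_self]; exact Submodule.mem_span_singleton_self o))
      have h := (hyy' v₂).2 (by
        rw [te_apply, ← hv₂, pv_mem_fib_iff hd0, hd, Function.update_of_ne hji, Function.update_self]
        exact Submodule.mem_span_singleton_self _)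
      rw [te_apply, ← hv₂, pv_mem_fib_iff hd0, hd, Function.update_of_ne hj'i, Function.update_of_ne hne] at h
      exact hw'₂ h
    rw [Function.update_self] at hmem'
    obtain ⟨r, hr⟩ := Submodule.mem_span_singleton.1 hmem'
    refine (Submodule.eq_of_le_of_finrank_le (fun u hu => ?_) (by rw [finrank_fib j' ho₁, finrank_fib j' ho₂])).symm
    obtain ⟨u', rfl⟩ := mem_fib.1 hu
    exact mem_fib.2 ⟨r • u', by rw [← hr, tens_smul_right, ← tens_smul_left]⟩
  have hy2 : ∀ u ∈ fib i o, y ⬝ₘ (y ⬝ₘ u) ∈ fib i o := fun u hu => by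
    have h1 : y ⬝ₘ u ∈ fib j o₁ := hB.le ⟨u, hu, rfl⟩
    rw [← hfe, ← hB', mem_img, inv_inv] at h1
    exact h1
  have hcub : ∀ v, χ (v + s • χ v) + χ ((v + s • χ v) + s • χ (v + s • χ v)) = 0 := by
    intro v
    have h := (co_zero_iff S T.m2 T.ho).2 (hy2 _ (mem_fib.2 ⟨v, rfl⟩))
    rw [← te_apply, hye, Matrix.mulVec_add, map_add, hco, hyn] at h
    simp only [map_add, map_smul, co_te S, ← chi_apply, ← hχ] at h
    have h' : (2 : F) • ((χ (v + s • χ v) + χ ((v + s • χ v) + s • χ (v + s • χ v)))) = 0 := by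
      simp only [map_add, map_smul] at h ⊢
      linear_combination (norm := module) h
    exact (smul_eq_zero.1 h').resolve_left h2
  have hiso : ∀ u ∈ fib j o₁, ∀ u' ∈ fib j o₁, tp idF f (t + 1) u u' = 0 := by
    intro u hu u' hu'
    obtain ⟨q, rfl⟩ := mem_fib.1 hu
    obtain ⟨q', rfl⟩ := mem_fib.1 hu'
    rw [tp_tens_tens S, S.alt, mul_zero]
  -- the operator is injective
  have hinj : ∀ u, χ u = 0 → u = 0 := by
    obtain ⟨o', ho', -⟩ := exists_partner S T.ho
    obtain ⟨bb, hbb⟩ : ∃ bb, bb = y * z * y⁻¹ := ⟨_, rfl⟩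
    obtain ⟨b₁, hb₁, -, -⟩ := TensorMax.Form.exists_stv S o₁ c₁
    have hfac : y * z * y⁻¹ = facGL j b₁ := rt_eq_fac hR₁ hb₁
    obtain ⟨r, hr⟩ := Fin.exists_succAbove_eq hji
    have hkr : y * z * y⁻¹ = J i (kr (facGL r b₁) (1 : GL (Fin m) F)) := by rw [hfac, J_kr_fac, hr]
    have hfixS : ∀ u, (y * z * y⁻¹) ⬝ₘ u = u ↔ u ∈ fib j o₁ := fun u => by
      rw [← per_eq_fib S T.m2 ho₁, ← fixS_rootC S ho₁ ?_ hR₁, mem_fixS]
      rintro rfl
      have e := hfac
      rw [show b₁ = 1 from gl_ext_mulVec fun v => by rw [hb₁]; simp, show facGL j (1 : GL (Fin m) F) = 1 from map_one _,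
        conj_eq_one_iff] at e
      exact (SRoot.isRoot S hroot).elim fun k hk => hk.not_scalar T.ov.two_le 1 (by rw [e, Units.val_one, one_smul])
    have hyW0 : ∀ u, χ u = 0 → tens i u o' ∈ fib j o₁ := fun u hu => by
      have h1 : y ⬝ₘ (te i o u) = te i o u := hyW _ ((T.mem_W_iff u).2 (hχ ▸ hu))
      have h2 : te i o u ∈ fib j o₁ := hB.le ⟨_, mem_fib.2 ⟨u, rfl⟩, h1⟩
      have h3 := (hfixS _).2 h2
      rw [hkr, te_apply, kr_tens, Units.val_one, Matrix.one_mulVec] at h3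
      have h4 := sub_eq_zero.1 (te_inj T.ho (a := ((facGL r b₁ : GL (Fin t → Fin m) F) :
        Matrix (Fin t → Fin m) (Fin t → Fin m) F) *ᵥ u - u) (by rw [map_sub, te_apply, te_apply, h3, sub_self]))
      refine (hfixS _).1 ?_
      rw [hkr, kr_tens, Units.val_one, Matrix.one_mulVec, h4]
    intro u hu
    by_contra hne
    obtain ⟨v, hv⟩ := ((tp_refl S t).nondeg u hne).2
    refine hv ?_
    obtain ⟨p, hp⟩ : ∃ p, p = (v + s • χ v) + ((v + s • χ v) + s • χ (v + s • χ v)) := ⟨_, rfl⟩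
    have hp0 : χ p = 0 := by rw [hp, map_add]; exact hcub v
    have hpy : te i o p ∈ fib j o₁ := hB.le ⟨_, mem_fib.2 ⟨p, rfl⟩, hyW _ ((T.mem_W_iff p).2 (hχ ▸ hp0))⟩
    have e := hiso _ hpy _ (hyW0 u hu)
    rw [te_apply, tp_tens_tens S, S.swap o' o, ho', mul_neg, mul_one, neg_eq_zero] at e
    have e' := (tp_refl S t).eq_zero_swap e
    have hadj : ∀ w, tp idF f t u (χ w) = 0 := fun w => by
      rw [hχ, ← T.chi_adj, ← hχ, hu, (tp_refl S t).zero_left]
    rw [hp] at e'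
    simp only [map_add, map_smul, (tp_refl S t).semi.add_right, (tp_refl S t).semi.smul_right, hadj, mul_zero,
      add_zero] at e'
    exact (mul_eq_zero.1 (show (2 : F) * tp idF f t u v = 0 by linear_combination e')).resolve_left h2
  have hmin : ∀ v, (v + s • χ v) + ((v + s • χ v) + s • χ (v + s • χ v)) = 0 := fun v =>
    hinj _ (by rw [map_add]; exact hcub v)
  obtain ⟨v, hv⟩ : ∃ v, (2 : F) • v + s • χ v ≠ 0 := by
    by_contra! hcon
    refine hq fun v => ?_
    have := congrArg χ (hcon v)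
    rw [map_zero, map_add, map_smul, map_smul] at this
    refine smul_right_injective _ hs0 ?_
    show s • χ (χ v) = s • a • χ v
    rw [smul_smul s a, hsa]
    linear_combination (norm := module) this
  obtain ⟨vb, hvb⟩ : ∃ vb, vb = (2 : F) • v + s • χ v := ⟨_, rfl⟩
  have hb : s • χ vb = -vb := by
    rw [hvb]
    have := hmin v
    simp only [map_add, map_smul] at this ⊢
    linear_combination (norm := module) this
  have hyb : y ⬝ₘ (te i o vb) = nv i o x vb ∧ y ⬝ₘ (nv i o x vb) = -te i o vb := by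
    refine ⟨?_, ?_⟩
    · rw [hye, hb, add_neg_cancel, map_zero, zero_add, two_smul, add_neg_cancel_right]
    · rw [hyn, hb, add_neg_cancel, map_zero, add_zero, map_neg]
  have hneg : ∀ u, y ⬝ₘ (-u) = -(y ⬝ₘ u) := fun u => Matrix.mulVec_neg _ _
  have hya : ∀ v, s • χ v = -((2 : F) • v) → y ⬝ₘ (te i o v) = -te i o v ∧
      y ⬝ₘ (nv i o x v) = -((2 : F) • te i o v) - nv i o x v := fun v hv => by
    refine ⟨?_, ?_⟩
    · rw [hye, hv, add_neg_cancel, map_zero, add_zero, ← map_neg]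
      congr 1
      module
    · rw [hyn, hv, map_neg, map_smul, map_add, map_neg, map_smul]
      module
  obtain ⟨y4, hy4⟩ : ∃ y4, y4 = y * y * (y * y) := ⟨_, rfl⟩
  have hy4v : ∀ u, y4 ⬝ₘ u = y ⬝ₘ (y ⬝ₘ (y ⬝ₘ (y ⬝ₘ u))) := fun u => by
    rw [hy4, gl_mul_mulVec, gl_mul_mulVec, gl_mul_mulVec]
  have hfixA : ∀ u ∈ fib i o, y4 ⬝ₘ u = u := by
    intro u hu
    obtain ⟨w, rfl⟩ := mem_fib.1 hu
    obtain ⟨p, hp⟩ : ∃ p, p = (2 : F) • w + s • χ w := ⟨_, rfl⟩
    obtain ⟨q, hq'⟩ : ∃ q, q = w + s • χ w := ⟨_, rfl⟩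
    have hpb : s • χ p = -p := by
      rw [hp]
      have := hmin w
      simp only [map_add, map_smul] at this ⊢
      linear_combination (norm := module) this
    have hqa : s • χ q = -((2 : F) • q) := by
      rw [hq']
      have := hmin w
      simp only [map_add, map_smul] at this ⊢
      linear_combination (norm := module) this
    have hp1 : y ⬝ₘ (te i o p) = nv i o x p := by
      rw [hye, hpb, add_neg_cancel, map_zero, zero_add, two_smul, add_neg_cancel_right]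
    have hp2 : y ⬝ₘ (nv i o x p) = -te i o p := by
      rw [hyn, hpb, add_neg_cancel, map_zero, add_zero, map_neg]
    have hw' : w = p - q := by rw [hp, hq']; module
    rw [← te_apply, hw', map_sub]
    simp only [hy4v, Matrix.mulVec_sub, hp1, hp2, hneg, (hya q hqa).1, neg_neg]
  have hy4X : y4 ∈ X := hy4 ▸ mul_mem (mul_mem hyX hyX) (mul_mem hyX hyX)
  have hy4s : y4 ∈ STD := hy4 ▸ mul_mem (mul_mem hys hys) (mul_mem hys hys)
  obtain ⟨B', B, ρ, hab, hρ, hBo⟩ := T.carryA hy4X hy4s fun u hu => by rw [hfixA u hu]; exact hu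
  have hB'1 : ∀ w, ρ • ((B' : Matrix (Fin t → Fin m) (Fin t → Fin m) F) *ᵥ w) = w := fun w => by
    have h := hfixA _ (mem_fib.2 ⟨w, rfl⟩)
    rw [hab, kr_tens, hBo, tens_smul_right, ← tens_smul_left] at h
    exact sub_eq_zero.1 (te_inj T.ho (by rw [map_sub, te_apply, te_apply, h, sub_self]))
  obtain ⟨γ, hγ⟩ : ∃ γ, γ = co f i o (nv i o x vb) := ⟨_, rfl⟩
  have hγ0 : γ ≠ 0 := fun e => by
    rw [hγ, ← chi_apply, ← hχ] at e
    rw [e, smul_zero] at hb
    exact hv (hvb ▸ neg_eq_zero.1 hb.symm)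
  obtain ⟨o', ho', -⟩ := exists_partner S T.ho
  obtain ⟨β, hβ⟩ := mem_fib.1 ((co_zero_iff S T.m2 T.ho).1 (show co f i o (nv i o x vb - tens i γ o') = 0 by
    rw [map_sub, co_tens S, ho', one_smul, ← hγ, sub_self]))
  have hnb : y4 ⬝ₘ (nv i o x vb) = nv i o x vb := by
    simp only [hy4v, hyb.2, hneg, hyb.1, neg_neg]
  have hBo' : (ρ⁻¹ • (B : Matrix (Fin m) (Fin m) F)) *ᵥ o' = o' := by
    have h := hnb
    rw [show nv i o x vb = tens i β o + tens i γ o' by rw [← hβ, sub_add_cancel], Matrix.mulVec_add,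
      hfixA _ (mem_fib.2 ⟨β, rfl⟩), add_right_inj, hab, kr_tens] at h
    have h' : tens i γ ((ρ⁻¹ • (B : Matrix (Fin m) (Fin m) F)) *ᵥ o') = tens i γ o' := by
      conv_rhs => rw [← h]
      rw [Matrix.smul_mulVec, tens_smul_right, ← tens_smul_left]
      congr 1
      conv_lhs => rw [← hB'1 γ, smul_smul, inv_mul_cancel₀ hρ, one_smul]
    exact tens_eq i hγ0 h'
  have hy41 : ∀ u, y4 ⬝ₘ u = u := by
    intro u
    obtain ⟨p, hp⟩ := mem_fib.1 ((co_zero_iff S T.m2 T.ho).1 (show co f i o (u - tens i (co f i o u) o') = 0 by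
      rw [map_sub, co_tens S, ho', one_smul, sub_self]))
    rw [show u = tens i p o + tens i (co f i o u) o' by rw [← hp, sub_add_cancel], Matrix.mulVec_add,
      hfixA _ (mem_fib.2 ⟨p, rfl⟩), add_right_inj, hab, kr_tens]
    conv_rhs => rw [← hB'1 (co f i o u), ← hBo']
    rw [Matrix.smul_mulVec, tens_smul_left, tens_smul_right, smul_smul, mul_inv_cancel₀ hρ, one_smul]
  have hav : s • χ v₀ = -((2 : F) • v₀) := by rw [hev, smul_smul, hsa]; module
  obtain ⟨ea, na⟩ := hya v₀ hav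
  have h8 : te i o ((8 : F) • v₀) = 0 := by
    have h := hy41 (nv i o x v₀)
    simp only [hy4v, na, ea, Matrix.mulVec_sub, hneg, Matrix.mulVec_smul] at h
    rw [map_smul]
    linear_combination (norm := module) h
  exact smul_ne_zero (show (8 : F) ≠ 0 by
    rw [show (8 : F) = 2 * 2 * 2 by norm_num]; exact mul_ne_zero (mul_ne_zero h2 h2) h2) hv₀ (te_inj T.ho h8)

end Cfsg.Agent.Classical.TensorPowerMax.Symplectic
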