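/-
Two-dimensional factors: no extremal configuration.
-/
import Cfsg.Agent.Lib.Classical.STPow.TwoEigen
import Cfsg.Agent.Lib.Classical.SL2SimpleExt
import Cfsg.Agent.Lib.Fusion.QuadraticPair
import Mathlib.LinearAlgebra.Eigenspace.Minpoly
import Mathlib.RingTheory.AdjoinRoot

set_option autoImplicit false
set_option linter.unusedSectionVars false

namespace Cfsg.Agent.Classical.TensorPowerMax.Symplectic

open Matrix Polynomial Cfsg.Geo
open Cfsg.Agent.Classical
open Cfsg.Agent.Classical.TensorPowerMax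
open Cfsg.Agent.Classical.TensorPowerMax.Unitary (tp fl nm fib per mem_fib tens_mem_fib finrank_fib mem_img tens_tm
  tens_add_left tens_add_right tens_smul_left tens_smul_right tens_zero_left tens_indep)
open Cfsg.Agent.Classical.TensorMax (kr kr_val kr_mul kr_one kr_inv)
open Cfsg.Agent.Classical.TensorMax.Form (SForm tm tf Data Rt)
open Cfsg.Agent.Fusion.Dickson (upU lowL ext' mul_entry det_eq upU_entries lowL_entries)
open scoped Kronecker

variable {F : Type*} [Field F] [Fintype F] {m t : ℕ} {f : (Fin m → F) → (Fin m → F) → F}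
  {X : Subgroup (GL (Fin (t + 1) → Fin m) F)}

local notation "idF" => RingEquiv.refl F
local notation:max g:max " ⬝ₘ " x:max =>
  ((g : GL (Fin (t + 1) → Fin m) F) : Matrix (Fin (t + 1) → Fin m) (Fin (t + 1) → Fin m) F) *ᵥ x
local notation "STD" => tensorWreathStandard m (t + 1) F
local notation "VV" => (Fin t → Fin m) → F
local notation "WW" => (Fin (t + 1) → Fin m) → F

variable {W : Submodule F ((Fin (t + 1) → Fin m) → F)} {i : Fin (t + 1)} {o : Fin m → F} {c : F}
  {z x : GL (Fin (t + 1) → Fin m) F}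

/-- The operator is not nilpotent. -/
theorem Two.not_nilpotent (T : Two f X W i o c z x) : ¬ IsNilpotent (chi f i o x) := by
  classical
  rintro ⟨n, hn⟩
  have S := T.ov.sf
  obtain ⟨p, hp⟩ := CharP.exists F
  haveI : Fact p.Prime := ⟨CharP.char_is_prime F p⟩
  haveI : Nonempty (Fin (t + 1) → Fin m) := ⟨fun _ => ⟨0, by have := T.ov.two_le; omega⟩⟩
  have hroot : SRoot f z := ⟨i, o, c, T.ho, T.hc0, T.rt⟩
  have hzX : z ∈ X := T.ov.le (hroot.mem_ks S)
  obtain ⟨K, hK⟩ : ∃ K, K = Subgroup.closure ({z, x} : Set (GL (Fin (t + 1) → Fin m) F)) := ⟨_, rfl⟩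
  have hzK : z ∈ K := hK ▸ Subgroup.subset_closure (Set.mem_insert _ _)
  have hxK : x ∈ K := hK ▸ Subgroup.subset_closure (Set.mem_insert_of_mem _ rfl)
  have hKX : K ≤ X := by
    rw [hK, Subgroup.closure_le]
    rintro g (rfl | rfl)
    · exact hzX
    · exact T.memx
  let ψ : K →* Matrix (Fin (t + 1) → Fin m) (Fin (t + 1) → Fin m) F := (Units.coeHom _).comp K.subtype
  have hgen : Subgroup.closure ({⟨z, hzK⟩, ⟨x, hxK⟩} : Set K) = ⊤ := by
    refine Subgroup.map_injective K.subtype_injective ?_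
    rw [MonoidHom.map_closure, Set.image_pair, ← MonoidHom.range_eq_map, Subgroup.range_subtype]
    exact hK.symm
  have hd : ∀ (g : GL (Fin (t + 1) → Fin m) F) (u : WW),
      ((g : Matrix (Fin (t + 1) → Fin m) (Fin (t + 1) → Fin m) F) - 1) *ᵥ u = disp g u := fun g u => by
    rw [Matrix.sub_mulVec, Matrix.one_mulVec, disp_apply]
  have hz : ∀ u, disp z u = c • te i o (co f i o u) := fun u => by
    rw [disp_apply, root_apply S T.rt, add_sub_cancel_left]
  have hsq : ∀ g : GL (Fin (t + 1) → Fin m) F, (∀ u, disp g (disp g u) = 0) →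
      ((g : Matrix (Fin (t + 1) → Fin m) (Fin (t + 1) → Fin m) F) - 1) *
        ((g : Matrix (Fin (t + 1) → Fin m) (Fin (t + 1) → Fin m) F) - 1) = 0 := fun g hg =>
    Matrix.toLin'.injective (LinearMap.ext fun u => by
      rw [Matrix.toLin'_apply, ← Matrix.mulVec_mulVec, hd, hd, hg, map_zero, LinearMap.zero_apply])
  have hnil : IsNilpotent (((z : Matrix (Fin (t + 1) → Fin m) (Fin (t + 1) → Fin m) F) - 1) *
      ((x : Matrix (Fin (t + 1) → Fin m) (Fin (t + 1) → Fin m) F) - 1)) := by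
    obtain ⟨P, hP⟩ : ∃ P, P = ((z : Matrix (Fin (t + 1) → Fin m) (Fin (t + 1) → Fin m) F) - 1) *
      ((x : Matrix (Fin (t + 1) → Fin m) (Fin (t + 1) → Fin m) F) - 1) := ⟨_, rfl⟩
    have hPu : ∀ u, P *ᵥ u = c • te i o (co f i o (disp x u)) := fun u => by
      rw [hP, ← Matrix.mulVec_mulVec, hd, hd, hz]
    have hpow : ∀ (k : ℕ) u, P ^ (k + 1) *ᵥ u = c ^ (k + 1) • te i o ((chi f i o x ^ k) (co f i o (disp x u))) := by
      intro k
      induction k with
      | zero => intro u; rw [zero_add, pow_one, pow_one, pow_zero]; exact hPu u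
      | succ k ih =>
        intro u
        rw [pow_succ' P, ← Matrix.mulVec_mulVec, ih, Matrix.mulVec_smul, hPu, smul_smul, ← pow_succ]
        congr 1
        rw [pow_succ', Module.End.mul_apply]
        rfl
    refine ⟨n + 1, hP ▸ Matrix.toLin'.injective (LinearMap.ext fun u => ?_)⟩
    rw [Matrix.toLin'_apply, hpow, hn, LinearMap.zero_apply, map_zero, smul_zero, map_zero, LinearMap.zero_apply]
  have hall := Cfsg.Agent.Fusion.pow_eq_one_of_nilpotent (k := F) (p := p) ψ hgen (hsq z fun u => by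
    rw [hz, hz, map_smul, co_te S, smul_zero, map_zero, smul_zero]) (hsq x T.sq) hnil
  have hPG : IsPGroup p K := fun g => by
    obtain ⟨j, hj⟩ := hall g
    exact ⟨j, Subtype.ext (Units.ext (by rw [← map_pow] at hj; exact hj))⟩
  obtain ⟨h, hh, hconj⟩ := (T.ov.roots p).conj_into hroot hKX hPG
  have hhs := T.ov.moves hh hroot (hconj z hzK).1
  refine T.notStd ?_
  have := mul_mem (mul_mem (inv_mem hhs) (hconj x hxK).1) hhs
  rwa [show h⁻¹ * (h * x * h⁻¹) * h = x by group] at this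

/-- No extremal configuration with two-dimensional factors. -/
theorem Ext.false_of_two {g : GL (Fin (t + 1) → Fin m) F} (Ex : Ext f X W i o c z g) (hm : m = 2) : False := by
  classical
  obtain ⟨x, hx⟩ : ∃ x, x = g⁻¹ * z * g := ⟨_, rfl⟩
  have T : Two f X W i o c z x := hx ▸ Ex.two hm
  have S := T.ov.sf
  obtain ⟨χ, hχ⟩ : ∃ χ : Module.End F VV, χ = chi f i o x := ⟨_, rfl⟩
  by_cases hev : ∃ a : F, a ≠ 0 ∧ ∃ v, v ≠ 0 ∧ χ v = a • v
  · obtain ⟨a, ha, v, hv, e⟩ := hev
    exact T.eigen_false ha hv (hχ ▸ e)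
  push Not at hev
  have hint : IsIntegral F χ := Algebra.IsIntegral.isIntegral χ
  obtain ⟨q, hq, hqX⟩ := exists_eq_pow_rootMultiplicity_mul_and_not_dvd (minpoly F χ) (minpoly.ne_zero hint) 0
  rw [C_0, sub_zero] at hq hqX
  have hqu : ¬ IsUnit q := fun hu => by
    refine T.not_nilpotent ⟨(minpoly F χ).rootMultiplicity 0, ?_⟩
    have h := minpoly.aeval F χ
    rw [hq, map_mul, map_pow, aeval_X] at h
    have hu' := (hu.map (aeval χ))
    have h' := hu'.mul_left_eq_zero.1 h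
    rw [← hχ]
    exact h'
  have hq0 : q ≠ 0 := fun e => hqX (e ▸ dvd_zero _)
  obtain ⟨π, hπ, hπq⟩ := WfDvdMonoid.exists_irreducible_factor hqu hq0
  haveI : Fact (Irreducible π) := ⟨hπ⟩
  have hπm : π ∣ minpoly F χ := hq ▸ hπq.mul_left _
  have hroot0 : ∀ μ : F, π.IsRoot μ → False := fun μ hμ => by
    have hμ0 : μ ≠ 0 := by
      rintro rfl
      have hXπ := dvd_iff_isRoot.2 hμ
      rw [C_0, sub_zero] at hXπ
      exact hqX (hXπ.trans hπq)
    obtain ⟨v, hv⟩ := (Module.End.hasEigenvalue_of_isRoot (hμ.dvd hπm)).exists_hasEigenvector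
    exact hev μ hμ0 v hv.2 hv.apply_eq_smul
  obtain ⟨E, hE⟩ : ∃ E, E = LinearMap.ker (aeval χ π) := ⟨_, rfl⟩
  obtain ⟨v₁, hv₁E, hv₁⟩ : ∃ v ∈ E, v ≠ 0 := by
    refine Submodule.exists_mem_ne_zero_of_ne_bot fun e => ?_
    obtain ⟨r, hr⟩ := hπm
    have hr0 : aeval χ r = 0 := LinearMap.ext fun v => by
      have h := LinearMap.congr_fun (minpoly.aeval F χ) v
      rw [hr, map_mul, Module.End.mul_apply, LinearMap.zero_apply, ← LinearMap.mem_ker, ← hE, e,
        Submodule.mem_bot] at h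
      rw [h, LinearMap.zero_apply]
    have hrne : r ≠ 0 := fun e' => minpoly.ne_zero hint (by rw [hr, e', mul_zero])
    have hdeg := minpoly.degree_le_of_ne_zero F χ hrne hr0
    rw [hr, degree_mul, degree_eq_natDegree hπ.ne_zero, degree_eq_natDegree hrne] at hdeg
    have := hπ.natDegree_pos
    norm_cast at hdeg
    omega
  -- polynomial operators on the eigenspace
  have hmem : ∀ (P : F[X]) {v}, v ∈ E → aeval χ P v ∈ E := fun P v hv => by
    rw [hE, LinearMap.mem_ker] at hv ⊢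
    rw [← Module.End.mul_apply, ← map_mul, mul_comm, map_mul, Module.End.mul_apply, hv, map_zero]
  let ev : AdjoinRoot π → VV → VV := fun l v => aeval χ (Function.surjInv AdjoinRoot.mk_surjective l) v
  have hev' : ∀ (P : F[X]) {l : AdjoinRoot π}, AdjoinRoot.mk π P = l → ∀ {v}, v ∈ E → aeval χ P v = ev l v := by
    intro P l hP v hv
    obtain ⟨R, hR⟩ := AdjoinRoot.mk_eq_mk.1 (hP.trans (Function.surjInv_eq AdjoinRoot.mk_surjective l).symm)
    have e : aeval χ (P - Function.surjInv AdjoinRoot.mk_surjective l) v = 0 := by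
      rw [hR, mul_comm, map_mul, Module.End.mul_apply]
      rw [hE, LinearMap.mem_ker] at hv
      rw [hv, map_zero]
    rw [map_sub, LinearMap.sub_apply, sub_eq_zero] at e
    exact e
  have hev_add : ∀ a b v, v ∈ E → ev (a + b) v = ev a v + ev b v := fun a b v hv => by
    rw [← hev' (Function.surjInv AdjoinRoot.mk_surjective a + Function.surjInv AdjoinRoot.mk_surjective b)
      (by rw [map_add, Function.surjInv_eq AdjoinRoot.mk_surjective, Function.surjInv_eq AdjoinRoot.mk_surjective]) hv,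
      map_add, LinearMap.add_apply]
  have hev_mul : ∀ a b v, v ∈ E → ev (a * b) v = ev a (ev b v) := fun a b v hv => by
    rw [← hev' (Function.surjInv AdjoinRoot.mk_surjective a * Function.surjInv AdjoinRoot.mk_surjective b)
      (by rw [map_mul, Function.surjInv_eq AdjoinRoot.mk_surjective, Function.surjInv_eq AdjoinRoot.mk_surjective]) hv,
      map_mul, Module.End.mul_apply]
  have hev_mem : ∀ a v, v ∈ E → ev a v ∈ E := fun a v hv => hmem _ hv
  have hev_c : ∀ (r : F) v, v ∈ E → ev (algebraMap F (AdjoinRoot π) r) v = r • v := fun r v hv => by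
    rw [AdjoinRoot.algebraMap_eq, ← hev' (C r) (AdjoinRoot.mk_C r) hv, aeval_C]
    rfl
  have hev1 : ∀ v, v ∈ E → ev 1 v = v := fun v hv => by
    have := hev_c 1 v hv
    rwa [map_one, one_smul] at this
  have hev0 : ∀ v, v ∈ E → ev 0 v = 0 := fun v hv => by
    have := hev_c 0 v hv
    rwa [map_zero, zero_smul] at this
  obtain ⟨α, hα⟩ : ∃ α, α = AdjoinRoot.root π := ⟨_, rfl⟩
  have hev_root : ∀ v, v ∈ E → ev α v = chi f i o x v := fun v hv => by
    rw [← hev' Polynomial.X (by rw [AdjoinRoot.mk_X, hα]) hv, aeval_X, hχ]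
  have hα0 : α ≠ 0 := fun e => by
    rw [hα, ← AdjoinRoot.mk_X, AdjoinRoot.mk_eq_zero] at e
    exact hqX ((hπ.associated_of_dvd irreducible_X e).symm.dvd.trans hπq)
  -- the group of the matrices realised on the eigenspace
  let G : Subgroup (Matrix.SpecialLinearGroup (Fin 2) (AdjoinRoot π)) :=
    { carrier := {M | ∃ y ∈ X, y ∈ fixG W ∧
        Act i o x y E (ev (M.1 1 1)) (ev (M.1 0 1)) (ev (M.1 1 0)) (ev (M.1 0 0))}
      one_mem' := ⟨1, one_mem _, one_mem _, fun v hv => by simp [hev1 v hv, hev0 v hv]⟩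
      mul_mem' := by
        rintro M N ⟨y, hy, hyW, hA⟩ ⟨y', hy', hy'W, hA'⟩
        refine ⟨y * y', mul_mem hy hy', mul_mem hyW hy'W, (hA.mul hA' (hev_mem _) (hev_mem _) (hev_mem _)
          (hev_mem _)).congr ?_ ?_ ?_ ?_⟩ <;> intro v hv <;>
          rw [mul_entry, hev_add _ _ v hv, hev_mul _ _ v hv, hev_mul _ _ v hv] <;> exact add_comm _ _
      inv_mem' := by
        rintro M ⟨y, hy, hyW, hA⟩
        have hMe : ∀ r s, (M * M⁻¹).1 r s = M.1 r 0 * (M⁻¹).1 0 s + M.1 r 1 * (M⁻¹).1 1 s := mul_entry M M⁻¹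
        rw [mul_inv_cancel] at hMe
        refine ⟨y⁻¹, inv_mem hy, inv_mem hyW, fun v hv => ⟨?_, ?_⟩⟩
        · refine gl_mulVec_injective y ?_
          show y ⬝ₘ (y⁻¹ ⬝ₘ (te i o v)) = y ⬝ₘ (te i o (ev ((M⁻¹).1 1 1) v) + nv i o x (ev ((M⁻¹).1 0 1) v))
          rw [gl_mulVec_inv_cancel, Matrix.mulVec_add, (hA _ (hev_mem _ v hv)).1, (hA _ (hev_mem _ v hv)).2,
            add_add_add_comm, ← map_add, ← map_add, ← hev_mul _ _ v hv, ← hev_mul _ _ v hv, ← hev_mul _ _ v hv,
            ← hev_mul _ _ v hv, ← hev_add _ _ v hv, ← hev_add _ _ v hv, add_comm (M.1 1 1 * _), ← hMe,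
            add_comm (M.1 0 1 * _), ← hMe]
          simp [hev1 v hv, hev0 v hv]
        · refine gl_mulVec_injective y ?_
          show y ⬝ₘ (y⁻¹ ⬝ₘ (nv i o x v)) = y ⬝ₘ (te i o (ev ((M⁻¹).1 1 0) v) + nv i o x (ev ((M⁻¹).1 0 0) v))
          rw [gl_mulVec_inv_cancel, Matrix.mulVec_add, (hA _ (hev_mem _ v hv)).1, (hA _ (hev_mem _ v hv)).2,
            add_add_add_comm, ← map_add, ← map_add, ← hev_mul _ _ v hv, ← hev_mul _ _ v hv, ← hev_mul _ _ v hv,
            ← hev_mul _ _ v hv, ← hev_add _ _ v hv, ← hev_add _ _ v hv, add_comm (M.1 1 1 * _), ← hMe,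
            add_comm (M.1 0 1 * _), ← hMe]
          simp [hev1 v hv, hev0 v hv] }
  have hup : ∀ r : F, upU (algebraMap F (AdjoinRoot π) r) ∈ G := fun r => by
    obtain ⟨y, hy, hyW, hA⟩ := T.act_up r E
    refine ⟨y, hy, hyW, hA.congr ?_ ?_ ?_ ?_⟩ <;> intro v hv <;>
      simp only [upU_entries, hev1 v hv, hev0 v hv, hev_c r v hv]
  have hlo : ∀ r : F, lowL (algebraMap F (AdjoinRoot π) r * α) ∈ G := fun r => by
    obtain ⟨y, hy, hyW, hA⟩ := T.act_low r E
    refine ⟨y, hy, hyW, hA.congr ?_ ?_ ?_ ?_⟩ <;> intro v hv <;>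
      simp only [lowL_entries, hev1 v hv, hev0 v hv, hev_mul _ _ v hv, hev_root v hv,
        hev_c r _ (hev_root v hv ▸ hev_mem α v hv)]
  have htop : ∀ M, M ∈ G := fun M => by
    refine SL2SimpleExt.mem_of_entries hup hlo (T.ov.h2 T.m2) (fun e => T.ov.hex ⟨by rwa [← Nat.card_eq_fintype_card], hm⟩)
      (hα ▸ AdjoinRoot.isIntegral_root hπ.ne_zero) hα0 fun r s => ?_
    rw [hα]
    exact IntermediateField.algebra_adjoin_le_adjoin F _ (by rw [AdjoinRoot.adjoinRoot_eq_top]; exact Algebra.mem_top)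
  -- conjugates of the root element
  have key : ∀ κ : AdjoinRoot π, ∃ σ : F, ∀ v ∈ E,
      te i o (ev (-(algebraMap F (AdjoinRoot π) c * κ)) v) + nv i o x (ev (-(algebraMap F (AdjoinRoot π) c / α)) v) =
        tens i v ((-c) • (fun o' => o' + σ • o) (Classical.choose (exists_partner S T.ho))) := by
    intro κ
    let k : Matrix.SpecialLinearGroup (Fin 2) (AdjoinRoot π) := ⟨!![0, α⁻¹; -α, κ], by simp [Matrix.det_fin_two, hα0]⟩
    obtain ⟨M, hM⟩ : ∃ M, M = k * lowL (algebraMap F (AdjoinRoot π) c * α) * k⁻¹ := ⟨_, rfl⟩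
    have hM11 : M.1 1 1 = 1 + -(algebraMap F (AdjoinRoot π) c * κ) := by
      obtain ⟨i00, i01, i10, i11⟩ := Cfsg.Agent.Fusion.Dickson.inv_entries k
      rw [hM, mul_entry, mul_entry, mul_entry, i01, i11]
      simp [k]
      field_simp
      ring
    have hM01 : M.1 0 1 = -(algebraMap F (AdjoinRoot π) c / α) := by
      obtain ⟨i00, i01, i10, i11⟩ := Cfsg.Agent.Fusion.Dickson.inv_entries k
      rw [hM, mul_entry, mul_entry, mul_entry, i01, i11]
      simp [k]
      field_simp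
    obtain ⟨y, hy, hyW, hA⟩ := htop k
    obtain ⟨yz, hyz, hyzW, hAz⟩ := htop M
    have hzW : z ∈ fixG W := mem_fixG_per S T.ho T.hc0 T.rt (T.le.trans (per_eq_fib S hm T.ho).ge)
    have hroot : SRoot f z := ⟨i, o, c, T.ho, T.hc0, T.rt⟩
    have hzX : z ∈ X := T.ov.le (hroot.mem_ks S)
    obtain ⟨x', hx'⟩ : ∃ x', x' = y * z * y⁻¹ := ⟨_, rfl⟩
    -- the conjugate acts by the conjugate matrix
    have hAx : ∀ v ∈ E, x' ⬝ₘ (te i o v) = te i o (ev (M.1 1 1) v) + nv i o x (ev (M.1 0 1) v) := by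
      intro v hv
      have hAl : Act i o x z E (ev ((lowL (algebraMap F (AdjoinRoot π) c * α)).1 1 1))
          (ev ((lowL (algebraMap F (AdjoinRoot π) c * α)).1 0 1)) (ev ((lowL (algebraMap F (AdjoinRoot π) c * α)).1 1 0))
          (ev ((lowL (algebraMap F (AdjoinRoot π) c * α)).1 0 0)) := fun v hv => by
        simp only [lowL_entries, hev1 v hv, hev0 v hv, hev_mul _ _ v hv, hev_root v hv,
          hev_c c _ (hev_root v hv ▸ hev_mem α v hv)]
        refine ⟨?_, ?_⟩
        · rw [root_apply S T.rt, co_te S, map_zero, smul_zero, add_zero, map_zero, add_zero]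
        · rw [root_apply S T.rt, ← chi_apply, map_smul]
          exact add_comm _ _
      obtain ⟨yk, hyk, hykW, hAk⟩ := htop k⁻¹
      have hinv : ∀ v ∈ E, y⁻¹ ⬝ₘ (te i o v) = te i o (ev ((k⁻¹).1 1 1) v) + nv i o x (ev ((k⁻¹).1 0 1) v) := by
        intro v hv
        refine gl_mulVec_injective y ?_
        show y ⬝ₘ (y⁻¹ ⬝ₘ (te i o v)) = y ⬝ₘ (te i o (ev ((k⁻¹).1 1 1) v) + nv i o x (ev ((k⁻¹).1 0 1) v))
        have hMe : ∀ r s, (k * k⁻¹).1 r s = k.1 r 0 * (k⁻¹).1 0 s + k.1 r 1 * (k⁻¹).1 1 s := mul_entry k k⁻¹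
        rw [mul_inv_cancel] at hMe
        rw [gl_mulVec_inv_cancel, Matrix.mulVec_add, (hA _ (hev_mem _ v hv)).1, (hA _ (hev_mem _ v hv)).2,
          add_add_add_comm, ← map_add, ← map_add, ← hev_mul _ _ v hv, ← hev_mul _ _ v hv, ← hev_mul _ _ v hv,
          ← hev_mul _ _ v hv, ← hev_add _ _ v hv, ← hev_add _ _ v hv, add_comm (k.1 1 1 * _), ← hMe,
          add_comm (k.1 0 1 * _), ← hMe]
        simp [hev1 v hv, hev0 v hv]
      rw [hx', gl_mul_mulVec, gl_mul_mulVec, hinv v hv, Matrix.mulVec_add, (hAl _ (hev_mem _ v hv)).1,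
        (hAl _ (hev_mem _ v hv)).2, Matrix.mulVec_add, Matrix.mulVec_add, Matrix.mulVec_add,
        (hA _ (hev_mem _ _ (hev_mem _ v hv))).1, (hA _ (hev_mem _ _ (hev_mem _ v hv))).2,
        (hA _ (hev_mem _ _ (hev_mem _ v hv))).1, (hA _ (hev_mem _ _ (hev_mem _ v hv))).2, hM, mul_entry, mul_entry,
        mul_entry, mul_entry, mul_entry, mul_entry]
      simp only [hev_add _ _ v hv, hev_mul _ _ v hv, map_add, add_mul, mul_assoc]
      abel
    have hx'X : x' ∈ X := hx' ▸ mul_mem (mul_mem hy hzX) (inv_mem hy)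
    have hd' : ∀ v ∈ E, x' ⬝ₘ (te i o v) - te i o v =
        te i o (ev (-(algebraMap F (AdjoinRoot π) c * κ)) v) + nv i o x (ev (-(algebraMap F (AdjoinRoot π) c / α)) v) := by
      intro v hv
      rw [hAx v hv, hM11, hM01, hev_add _ _ v hv, hev1 v hv, map_add]
      abel
    have hco' : ∀ v ∈ E, co f i o (x' ⬝ₘ (te i o v) - te i o v) = (-c) • v := fun v hv => by
      rw [hd' v hv, map_add, co_te S, zero_add, ← chi_apply, ← hev_root _ (hev_mem _ v hv), ← hev_mul _ _ v hv,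
        show α * -(algebraMap F (AdjoinRoot π) c / α) = algebraMap F (AdjoinRoot π) (-c) by rw [map_neg]; field_simp,
        hev_c _ v hv]
    by_cases hys : y ∈ STD
    swap
    · exfalso
      have hle : W ≤ per f i o ⊓ img y (per f i o) := fun u hu =>
        ⟨(per_eq_fib S hm T.ho).ge (T.le hu), mem_img.2 (by
          rw [inv_mem hyW u hu]; exact (per_eq_fib S hm T.ho).ge (T.le hu))⟩
      have hEx' : Ext f X W i o c z y⁻¹ := ⟨T.ov, T.ho, T.hc0, T.rt, inv_mem hy,
        fun h => hys (by have := inv_mem h; rwa [inv_inv] at this), inv_mem hyW,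
        le_antisymm (by rw [inv_inv]; exact hle) (fun u hu => by
          rw [inv_inv] at hu
          refine T.max y⁻¹ (inv_mem hy) (fun h => hys (by have := inv_mem h; rwa [inv_inv] at this)) (inv_mem hyW) u
            ((per_eq_fib S hm T.ho).le hu.1) ((per_eq_fib S hm T.ho).le (mem_img.1 hu.2))), T.best⟩
      have T' := hEx'.two hm
      rw [inv_inv, ← hx'] at T'
      refine T'.eigen_false (neg_ne_zero.2 T.hc0) hv₁ ?_
      rw [chi_apply, nv, LinearMap.comp_apply, disp_apply]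
      exact hco' v₁ hv₁E
    obtain ⟨j, o₁, c₁, ho₁, hc₁, hR₁⟩ : SRoot f x' := hx' ▸ SRoot.conj S T.ov.two_le hroot hys (T.ov.iso hy)
    obtain rfl : j = i := by
      by_contra hne
      obtain ⟨b₁, hb₁, -, -⟩ := TensorMax.Form.exists_stv S o₁ c₁
      obtain ⟨r, hr⟩ := Fin.exists_succAbove_eq hne
      have hkr : x' = J i (kr (facGL r b₁) (1 : GL (Fin m) F)) := by rw [rt_eq_fac hR₁ hb₁, J_kr_fac, hr]
      have h := hco' v₁ hv₁E
      rw [hkr, te_apply, kr_tens, Units.val_one, Matrix.one_mulVec, map_sub, co_tens S, co_tens S, S.alt, zero_smul,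
        zero_smul, sub_zero] at h
      exact smul_ne_zero (neg_ne_zero.2 T.hc0) hv₁ h.symm
    have ho' := (Classical.choose_spec (exists_partner S T.ho)).1
    obtain ⟨o', ho'eq⟩ : ∃ o', o' = Classical.choose (exists_partner S T.ho) := ⟨_, rfl⟩
    rw [← ho'eq] at ho' ⊢
    have htr : ∀ v, x' ⬝ₘ (te j o v) - te j o v = tens j v ((c₁ * f o o₁) • o₁) := fun v => by
      rw [root_apply S hR₁, add_sub_cancel_left, te_apply, te_apply, co_tens S, ← tens_smul_left, smul_smul,
        tens_smul_left, ← tens_smul_right]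
    obtain ⟨w, hw⟩ : ∃ w, w = (c₁ * f o o₁) • o₁ := ⟨_, rfl⟩
    have hfw : f w o = -c := by
      have h := hco' v₁ hv₁E
      rw [htr, co_tens S, ← hw] at h
      have h' := sub_eq_zero.2 h
      rw [← sub_smul] at h'
      exact sub_eq_zero.1 ((smul_eq_zero.1 h').resolve_right hv₁)
    obtain ⟨s, hs⟩ := Submodule.mem_span_singleton.1 (line_of_two S hm T.ho (v := w - (-c) • o') (by
      rw [S.sub_left, hfw, S.refl.semi.smul_left, ho', mul_one, sub_self]))
    refine ⟨-s / c, fun v hv => ?_⟩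
    rw [← hd' v hv, htr, ← hw]
    congr 1
    have e : w = (-c) • o' + s • o := by rw [hs]; module
    rw [e]
    show _ = (-c) • (o' + (-s / c) • o)
    rw [smul_add, smul_smul]
    congr 2
    field_simp [T.hc0]
  obtain ⟨σ₀, h0⟩ := key 0
  obtain ⟨σ₁, h1⟩ := key α
  have hlin : ∀ v ∈ E, c • chi f i o x v = (c * σ₁ - c * σ₀) • v := fun v hv => by
    have e0 := h0 v hv
    have e1 := h1 v hv
    simp only [tens_smul_right, tens_add_right, mul_zero, neg_zero, hev0 v hv, map_zero, zero_add] at e0 e1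
    have e2 : ev (-(algebraMap F (AdjoinRoot π) c * α)) v = (-c) • chi f i o x v := by
      rw [show -(algebraMap F (AdjoinRoot π) c * α) = algebraMap F (AdjoinRoot π) (-c) * α by rw [map_neg, neg_mul],
        hev_mul _ _ v hv, hev_root v hv, hev_c _ _ (hev_root v hv ▸ hev_mem α v hv)]
    rw [e2, map_smul] at e1
    refine sub_eq_zero.1 (te_inj (i := i) T.ho ?_)
    rw [map_sub, map_smul, map_smul]
    simp only [te_apply] at e1 ⊢
    linear_combination (norm := module) e0 - e1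
  have hμ : ∀ v ∈ E, χ v = (σ₁ - σ₀) • v := fun v hv => by
    rw [hχ]
    refine smul_right_injective _ T.hc0 ?_
    show c • chi f i o x v = c • (σ₁ - σ₀) • v
    rw [hlin v hv, smul_smul, mul_sub]
  refine hroot0 (σ₁ - σ₀) ?_
  have h := (Module.End.aeval_apply_of_hasEigenvector (p := π) (f := χ) (μ := σ₁ - σ₀) (x := v₁)
    ⟨Module.End.mem_eigenspace_iff.2 (hμ v₁ hv₁E), hv₁⟩)
  rw [hE, LinearMap.mem_ker] at hv₁E
  rw [hv₁E] at h
  exact (smul_eq_zero.1 h.symm).resolve_right hv₁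

end Cfsg.Agent.Classical.TensorPowerMax.Symplectic
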