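/-
Elementary square-zero elements of an overgroup: moving them inside their type and projecting a combination.
-/
import Cfsg.Agent.Lib.Classical.STPow.FullOps

set_option autoImplicit false
set_option linter.unusedSectionVars false

namespace Cfsg.Agent.Classical.TensorPowerMax.Symplectic

open Matrix Cfsg.Geo
open Cfsg.Agent.Classical
open Cfsg.Agent.Classical.TensorPowerMax
open Cfsg.Agent.Classical.TensorPowerMax.Unitary (tp fl nm)
open Cfsg.Agent.Classical.TensorMax.Form (SForm exists_stv tgen_iso)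

variable {F : Type*} [Field F] [Fintype F] {m t n : ℕ} {f : (Fin m → F) → (Fin m → F) → F}

local notation "idF" => RingEquiv.refl F
local notation "Mm" => Matrix (Fin m) (Fin m) F

section El

variable {ι : Type*} [Fintype ι] [DecidableEq ι] {X : Subgroup (GL ι F)}

/-- The element `1 + M` lies in the group. -/
def El (X : Subgroup (GL ι F)) (M : Matrix ι ι F) : Prop := ∃ g ∈ X, (g : Matrix ι ι F) = 1 + M

theorem El.zero : El X (0 : Matrix ι ι F) := ⟨1, one_mem X, by simp⟩

theorem El.add {M N : Matrix ι ι F} (hM : El X M) (hN : El X N) (h : M * N = 0) : El X (M + N) := by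
  obtain ⟨g, hg, eg⟩ := hM
  obtain ⟨k, hk, ek⟩ := hN
  exact ⟨g * k, mul_mem hg hk, by rw [Units.val_mul, eg, ek, mul_add, mul_one, add_mul, one_mul, h, add_zero, add_assoc]⟩

theorem El.neg {M : Matrix ι ι F} (hM : El X M) (h : M * M = 0) : El X (-M) := by
  obtain ⟨g, hg, eg⟩ := hM
  refine ⟨g⁻¹, inv_mem hg, Units.inv_eq_of_mul_eq_one_right ?_⟩
  rw [eg, ← sub_eq_add_neg]
  exact one_add_sq_inv h

theorem El.conj {M : Matrix ι ι F} (hM : El X M) {y : GL ι F} (hy : y ∈ X) :
    El X ((y : Matrix ι ι F) * M * ((y⁻¹ : GL ι F) : Matrix ι ι F)) := by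
  obtain ⟨g, hg, eg⟩ := hM
  exact ⟨y * g * y⁻¹, mul_mem (mul_mem hy hg) (inv_mem hy), by
    rw [Units.val_mul, Units.val_mul, eg, mul_add, mul_one, add_mul, Units.mul_inv]⟩

end El

/-- In a finite field of odd order everything is a sum of two squares. -/
theorem exists_sq_sum (h2 : (2 : F) ≠ 0) (c : F) : ∃ a b : F, a * a + b * b = c := by
  classical
  have hodd : Fintype.card F % 2 = 1 := FiniteField.odd_card_of_char_ne_two fun e => h2 (by
    have := ringChar.Nat.cast_ringChar (R := F)
    rw [e, Nat.cast_ofNat] at this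
    exact this)
  obtain ⟨a, b, hab⟩ := FiniteField.exists_root_sum_quadratic (Polynomial.degree_X_pow (R := F) 2)
    (Polynomial.degree_X_pow_sub_C (n := 2) (by decide) c) hodd
  simp only [Polynomial.eval_pow, Polynomial.eval_X, Polynomial.eval_sub, Polynomial.eval_C] at hab
  exact ⟨a, b, by linear_combination hab⟩

/-- All elementary elements of the type lie in the group. -/
def Pat (f : (Fin m → F) → (Fin m → F) → F) (X : Subgroup (GL (Fin n → Fin m) F)) (τ : Fin n → Ty) : Prop :=
  ∀ A : Fin n → Mm, (∀ k, Re f (τ k) (A k)) → ∀ c : F, El X (c • pureM A)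

/-- The type is realised. -/
def Real' (f : (Fin m → F) → (Fin m → F) → F) (τ : Fin n → Ty) : Prop := ∀ k, ∃ A, Re f (τ k) A

variable (S : SForm f) {X : Subgroup (GL (Fin n → Fin m) F)}

include S

theorem nm_smul_vec (a : F) (u : Fin m → F) : nm f (a • u) = (a * a) • nm f u := by
  rw [nm, nm, show fl f (a • u) = a • fl f u from funext fun k => S.smul_right _ _ _, Matrix.vecMulVec_smul,
    Matrix.smul_vecMulVec, smul_smul]

theorem pureM_sq {τ : Fin n → Ty} {A : Fin n → Mm} (hA : ∀ k, Re f (τ k) (A k)) {k : Fin n} (hk : τ k ≠ Ty.O) :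
    pureM A * pureM A = 0 := by
  rw [pureM_mul]
  exact pureM_eq_zero k (re_sq S (hA k) hk)

/-- One element gives its whole type. -/
theorem pat_of_one (h2 : (2 : F) ≠ 0) (hX : Ks f n ≤ X) {τ : Fin n → Ty} {x : Fin n} (hx : τ x = Ty.N)
    {A₀ : Fin n → Mm} (hA₀ : ∀ k, Re f (τ k) (A₀ k)) {c₀ : F} (hc₀ : c₀ ≠ 0) (h : El X (c₀ • pureM A₀)) :
    Pat f X τ := by
  classical
  have move : ∀ A, (∀ k, Re f (τ k) (A k)) → El X (c₀ • pureM A) := by
    intro A hA
    suffices key : ∀ T : Finset (Fin n), El X (c₀ • pureM fun k => if k ∈ T then A k else A₀ k) by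
      simpa using key Finset.univ
    intro T
    induction T using Finset.induction_on with
    | empty => simpa using h
    | insert k T hk ih =>
      obtain ⟨b, hb, e⟩ := re_move S (hA₀ k) (hA k)
      have hc := ih.conj (hX (facGL_mem_ks k hb))
      rw [Matrix.mul_smul, Matrix.smul_mul, facM_conj'] at hc
      refine (congrArg (fun Z => El X (c₀ • pureM Z)) (funext fun l => ?_)).mp hc
      rcases eq_or_ne l k with rfl | hl
      · rw [Function.update_self, if_neg hk, e, if_pos (Finset.mem_insert_self _ _)]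
      · rw [Function.update_of_ne hl]
        simp only [Finset.mem_insert, hl, false_or]
  intro A hA c
  obtain ⟨a, b, hab⟩ := exists_sq_sum h2 (c / c₀)
  obtain ⟨u, hu, hAx⟩ : ∃ u, u ≠ 0 ∧ A x = nm f u := by have := hA x; rwa [hx] at this
  have sq : ∀ a : F, El X ((c₀ * (a * a)) • pureM A) := by
    intro a
    rcases eq_or_ne a 0 with rfl | ha
    · simpa using El.zero
    have := move (Function.update A x (nm f (a • u))) fun k => by
      rcases eq_or_ne k x with rfl | hk
      · rw [Function.update_self, hx]; exact ⟨a • u, smul_ne_zero ha hu, rfl⟩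
      · rw [Function.update_of_ne hk]; exact hA k
    rwa [nm_smul_vec S, pureM_update_smul, ← hAx, Function.update_eq_self, smul_smul] at this
  have := (sq a).add (sq b) (by
    rw [Matrix.smul_mul, Matrix.mul_smul, pureM_sq S hA (k := x) (by rw [hx]; decide), smul_zero, smul_zero])
  rwa [← add_smul, ← mul_add, hab, mul_div_cancel₀ _ hc₀] at this

omit S in
theorem perm_pureM (σ : Equiv.Perm (Fin n)) (A : Fin n → Mm) :
    (factorPermGL m F σ : Matrix (Fin n → Fin m) (Fin n → Fin m) F) * pureM A * (((factorPermGL m F σ)⁻¹ : (GL (Fin n → Fin m) F)) : Matrix (Fin n → Fin m) (Fin n → Fin m) F) = pureM fun k => A (σ.symm k) := by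
  rw [show (factorPermGL m F σ : Matrix (Fin n → Fin m) (Fin n → Fin m) F) * pureM A = pureM (fun k => A (σ.symm k)) * (factorPermGL m F σ : Matrix (Fin n → Fin m) (Fin n → Fin m) F) from
    factorPermM_pureM σ A, Matrix.mul_assoc, Units.mul_inv, Matrix.mul_one]

/-- Types may be permuted. -/
theorem Pat.perm {τ : Fin n → Ty} (hP : Pat f X τ) (hperm : ∀ σ, factorPermGL m F σ ∈ X) (σ : Equiv.Perm (Fin n)) :
    Pat f X fun k => τ (σ k) := by
  intro A hA c
  have := (hP (fun k => A (σ.symm k)) (fun k => by simpa using hA (σ.symm k)) c).conj (hperm σ⁻¹)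
  rw [Matrix.mul_smul, Matrix.smul_mul, perm_pureM] at this
  simpa [Equiv.Perm.inv_def] using this

/-- An elementary isometry has an odd number of factors of the first type. -/
theorem parity (hm : 0 < m) (hI : X ≤ Iso f n) {τ : Fin n → Ty} {A : Fin n → Mm}
    (hA : ∀ k, Re f (τ k) (A k)) {x : Fin n} (hx : τ x ≠ Ty.O) {c : F} (hc : c ≠ 0) (h : El X (c • pureM A)) :
    ∏ k, sg F (τ k) = -1 := by
  obtain ⟨g, hg, eg⟩ := h
  have R := tp_refl S n
  obtain ⟨y, hy⟩ : ∃ y, pureM A *ᵥ y ≠ 0 := by
    by_contra hcon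
    push Not at hcon
    refine pureM_ne_zero (fun k => re_ne_zero S hm (hA k)) (Matrix.toLin'.injective (LinearMap.ext fun v => ?_))
    rw [Matrix.toLin'_apply, hcon, map_zero, LinearMap.zero_apply]
  obtain ⟨v, hv⟩ := (R.nondeg _ hy).1
  have e := hI hg v y
  rw [eg, Matrix.add_mulVec, Matrix.add_mulVec, Matrix.one_mulVec, Matrix.one_mulVec, Matrix.smul_mulVec,
    Matrix.smul_mulVec, R.semi.add_left, R.semi.add_right, R.semi.add_right, R.semi.smul_left, R.semi.smul_left,
    R.semi.smul_right, R.semi.smul_right, pureM_adj S hA v y, pureM_adj S hA v (pureM A *ᵥ y), Matrix.mulVec_mulVec,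
    pureM_sq S hA hx, Matrix.zero_mulVec, R.zero_right, RingEquiv.refl_apply] at e
  have : c * tp idF f n v (pureM A *ᵥ y) * ((∏ k, sg F (τ k)) + 1) = 0 := by linear_combination e
  exact eq_neg_of_add_eq_zero_left ((mul_eq_zero.1 this).resolve_left (mul_ne_zero hc hv))

/-- The second difference with a transvection in one factor. -/
theorem proj (hX : Ks f n ≤ X) {C D : Fin n → Mm} {k y : Fin n} (hy : y ≠ k) (h1 : C y * C y = 0) (h2 : C y * D y = 0)
    (h3 : D y * C y = 0) (h4 : D y * D y = 0) (w : Fin m → F) {α β : F} (h : El X (α • pureM C + β • pureM D)) :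
    El X ((-2 * α * f (C k *ᵥ w) w) • pureM (Function.update C k (nm f w)) +
      (-2 * β * f (D k *ᵥ w) w) • pureM (Function.update D k (nm f w))) := by
  classical
  obtain ⟨b, hb, -, hbi⟩ := exists_stv S w 1
  obtain ⟨Z, hZ⟩ : ∃ Z, Z = α • pureM C + β • pureM D := ⟨_, rfl⟩
  rw [← hZ] at h
  have kill : ∀ Y, Z * facM k Y * Z = 0 := by
    intro Y
    have p : ∀ P Q : Fin n → Mm, P y * Q y = 0 → pureM P * facM k Y * pureM Q = 0 := fun P Q e => by
      rw [facM, pureM_mul, pureM_mul]
      exact pureM_eq_zero y (by simpa [Function.update_of_ne hy] using e)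
    simp only [hZ, add_mul, mul_add, Matrix.smul_mul, Matrix.mul_smul, p _ _ h1, p _ _ h2, p _ _ h3, p _ _ h4,
      smul_zero, add_zero]
  obtain ⟨P, hP⟩ : ∃ P, P = facM k (nm f w) := ⟨_, rfl⟩
  have hplus : (facGL k b : Matrix (Fin n → Fin m) (Fin n → Fin m) F) = 1 + P := by
    rw [facGL_val, stv_val S hb, one_smul, facM_add, facM_one, hP]; rfl
  have hPP : P * P = 0 := by
    rw [hP, facM_mul, nm_sq S]
    ext i j
    simp [facM_apply]
  have hminus : (((facGL k b)⁻¹ : (GL (Fin n → Fin m) F)) : Matrix (Fin n → Fin m) (Fin n → Fin m) F) = 1 - P :=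
    Units.inv_eq_of_mul_eq_one_right (by rw [hplus]; exact one_add_sq_inv hPP)
  have e1 : El X ((1 + P) * Z * (1 - P)) := by
    have := h.conj (hX (facGL_mem_ks k hbi))
    rwa [hplus, hminus] at this
  have e2 : El X ((1 - P) * Z * (1 + P)) := by
    have := h.conj (inv_mem (hX (facGL_mem_ks k hbi)))
    rwa [inv_inv, hplus, hminus] at this
  have hf : ∀ r : F, facM k (1 + r • nm f w) = 1 + r • P := fun r => by rw [facM_add, facM_one, facM_smul, hP]
  have hf1 : facM k (1 + nm f w) = 1 + P := by rw [facM_add, facM_one, hP]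
  have hf2 : facM k (1 + -nm f w) = 1 + -P := by rw [← neg_one_smul F (nm f w), hf, neg_one_smul]
  have k0 : Z * Z = 0 := by simpa [facM_one] using kill 1
  have kp : Z * (1 + P) * Z = 0 := by simpa only [hf1] using kill (1 + nm f w)
  have km : Z * (1 - P) * Z = 0 := by simpa only [sub_eq_add_neg, hf2] using kill (1 + -nm f w)
  have k2 : Z * ((1 - P) * (1 - P)) * Z = 0 := by
    have e : (1 - P) * (1 - P) = 1 + (-2 : F) • P := by
      rw [sub_mul, one_mul, mul_sub, mul_one, hPP, sub_zero]
      module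
    rw [e, ← hf]
    exact kill _
  have hn := h.neg k0
  have e3 := hn.add hn (by rw [neg_mul_neg, k0])
  have e12 := e1.add e2 (by
    calc (1 + P) * Z * (1 - P) * ((1 - P) * Z * (1 + P)) = (1 + P) * (Z * ((1 - P) * (1 - P)) * Z) * (1 + P) := by
          noncomm_ring
      _ = 0 := by rw [k2, mul_zero, zero_mul])
  have e := e12.add e3 (by
    calc ((1 + P) * Z * (1 - P) + (1 - P) * Z * (1 + P)) * (-Z + -Z) =
        -2 • ((1 + P) * (Z * (1 - P) * Z) + (1 - P) * (Z * (1 + P) * Z)) := by noncomm_ring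
      _ = 0 := by rw [kp, km, mul_zero, mul_zero, add_zero, smul_zero])
  have hs : ∀ A : Fin n → Mm, P * pureM A * P = f (A k *ᵥ w) w • pureM (Function.update A k (nm f w)) := fun A => by
    rw [hP, facM_sandwich, nm_sandwich S, pureM_update_smul]
  refine (congrArg (El X) ?_).mp e
  calc (1 + P) * Z * (1 - P) + (1 - P) * Z * (1 + P) + (-Z + -Z) = -(P * Z * P) + -(P * Z * P) := by noncomm_ring
    _ = _ := by
      rw [hZ, mul_add, add_mul, Matrix.mul_smul, Matrix.smul_mul, Matrix.mul_smul, Matrix.smul_mul, hs, hs]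
      module

end Cfsg.Agent.Classical.TensorPowerMax.Symplectic
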