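/-
Commutators of elementary elements of two types give more factors of the first type.
-/
import Cfsg.Agent.Lib.Classical.STPow.FullPat

set_option autoImplicit false
set_option linter.unusedSectionVars false

namespace Cfsg.Agent.Classical.TensorPowerMax.Symplectic

open Matrix Cfsg.Geo
open Cfsg.Agent.Classical
open Cfsg.Agent.Classical.TensorPowerMax
open Cfsg.Agent.Classical.TensorPowerMax.Unitary (tp fl nm)
open Cfsg.Agent.Classical.TensorMax.Form (SForm)

variable {F : Type*} [Field F] [Fintype F] {m n : ℕ} {f : (Fin m → F) → (Fin m → F) → F}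

local notation "Mm" => Matrix (Fin m) (Fin m) F

variable (S : SForm f) {X : Subgroup (GL (Fin n → Fin m) F)}

omit [Fintype F] in
theorem split_two {M : Type*} [CommMonoid M] (g : Fin n → M) {x r : Fin n} (h : x ≠ r) :
    ∏ k, g k = g x * g r * ∏ k ∈ (Finset.univ.erase x).erase r, g k := by
  rw [← Finset.mul_prod_erase _ _ (Finset.mem_univ x),
    ← Finset.mul_prod_erase _ g (Finset.mem_erase.2 ⟨h.symm, Finset.mem_univ r⟩), mul_assoc]

include S

theorem El.comm {a b : Matrix (Fin n → Fin m) (Fin n → Fin m) F} (ha : El X a) (hb : El X b) (haa : a * a = 0)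
    (hbb : b * b = 0) (haba : a * b * a = 0) (hbab : b * a * b = 0) : El X (a * b - b * a) := by
  obtain ⟨g, hg, eg⟩ := ha
  obtain ⟨k, hk, ek⟩ := hb
  obtain ⟨g', hg', eg'⟩ := El.neg ⟨g, hg, eg⟩ haa
  obtain ⟨k', hk', ek'⟩ := El.neg ⟨k, hk, ek⟩ hbb
  refine ⟨g * k * (g' * k'), mul_mem (mul_mem hg hk) (mul_mem hg' hk'), ?_⟩
  rw [Units.val_mul, Units.val_mul, Units.val_mul, eg, ek, eg', ek']
  calc (1 + a) * (1 + b) * ((1 + -a) * (1 + -b)) =
      1 + (a * b - b * a) - a * a + (a * a) * b - b * b + (b * a * b) - a * b * a - a * (b * b) + a * b * a * b := by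
        noncomm_ring
    _ = 1 + (a * b - b * a) := by rw [haa, hbb, haba, hbab]; simp

/-- The step. -/
theorem step (h2 : (2 : F) ≠ 0) (hm : 0 < m) (hX : Ks f n ≤ X) {τ τ' : Fin n → Ty} (hp : Pat f X τ) (hp' : Pat f X τ')
    (hr : Real' f τ) (hr' : Real' f τ') {x r : Fin n} (hx : τ x = Ty.N) (hx' : τ' x ≠ Ty.N) (hr1 : τ' r = Ty.N)
    (hr2 : τ r ≠ Ty.N) (h1 : ∀ k, τ k = Ty.O → τ' k ≠ Ty.L) (h1' : ∀ k, τ' k = Ty.O → τ k ≠ Ty.L)
    (hK : (∏ k, if k ≠ x ∧ τ k ≠ Ty.O ∧ τ' k ≠ Ty.O then -(sg F (τ k) * sg F (τ' k)) else 1) = -1) :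
    Pat f X fun k => if τ k = Ty.O ∧ τ' k = Ty.O then Ty.O else Ty.N := by
  classical
  obtain ⟨υ, hυ⟩ : ∃ υ : Fin n → Ty, υ = fun k => if τ k = Ty.O ∧ τ' k = Ty.O then Ty.O else Ty.N := ⟨_, rfl⟩
  rw [← hυ]
  have hxr : x ≠ r := fun e => hx' (e ▸ hr1)
  obtain ⟨o₀, ho₀⟩ : ∃ o : Fin m → F, o ≠ 0 := ⟨Pi.single ⟨0, hm⟩ 1, by simp⟩
  have hch : ∀ k, ∃ A B w, Re f (τ k) A ∧ Re f (τ' k) B ∧
      ((τ k ≠ Ty.O ∧ τ' k ≠ Ty.O) → w ≠ 0 ∧ f ((A * B) *ᵥ w) w ≠ 0) ∧
      ((τ k = Ty.O ∨ τ' k = Ty.O) → Re f (υ k) (A * B) ∧ B * A = A * B) := by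
    intro k
    by_cases ha : τ k = Ty.O
    · have hb : τ' k = Ty.O ∨ τ' k = Ty.N := by cases h : τ' k with
        | N => exact Or.inr rfl
        | L => exact absurd h (h1 k ha)
        | O => exact Or.inl rfl
      rcases hb with hb | hb
      · exact ⟨1, 1, o₀, by rw [ha]; rfl, by rw [hb]; rfl, fun h => absurd ha h.1,
          fun _ => ⟨by rw [hυ]; simp [ha, hb, Re], rfl⟩⟩
      · refine ⟨1, nm f o₀, o₀, by rw [ha]; rfl, by rw [hb]; exact ⟨o₀, ho₀, rfl⟩, fun h => absurd ha h.1,
          fun _ => ⟨?_, by rw [one_mul, mul_one]⟩⟩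
        rw [hυ, one_mul]
        simp only [ha, hb, reduceCtorEq, and_false, if_false]
        exact ⟨o₀, ho₀, rfl⟩
    by_cases hb : τ' k = Ty.O
    · have ha' : τ k = Ty.N := by cases h : τ k with
        | N => rfl
        | L => exact absurd h (h1' k hb)
        | O => exact absurd h ha
      refine ⟨nm f o₀, 1, o₀, by rw [ha']; exact ⟨o₀, ho₀, rfl⟩, by rw [hb]; rfl, fun h => absurd hb h.2,
        fun _ => ⟨?_, by rw [one_mul, mul_one]⟩⟩
      rw [hυ, mul_one]
      simp only [ha', reduceCtorEq, false_and, if_false]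
      exact ⟨o₀, ho₀, rfl⟩
    obtain ⟨A, B, w, hA, hB, hw⟩ := exists_coeff S ha hb (hr k) (hr' k)
    exact ⟨A, B, w, hA, hB, fun _ => hw, fun h => h.elim (absurd · ha) (absurd · hb)⟩
  choose A B w hA hB hw hO using hch
  obtain ⟨C, hC⟩ : ∃ C, C = fun k => A k * B k := ⟨_, rfl⟩
  obtain ⟨D, hD⟩ : ∃ D, D = fun k => B k * A k := ⟨_, rfl⟩
  have hAx : A x * A x = 0 := re_sq S (hA x) (by rw [hx]; decide)
  have hBr : B r * B r = 0 := re_sq S (hB r) (by rw [hr1]; decide)
  have hABAx : A x * B x * A x = 0 := nsq_zero S hx' (hx ▸ hA x) (hB x)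
  have hBABr : B r * A r * B r = 0 := nsq_zero S hr2 (hr1 ▸ hB r) (hA r)
  have hcd : El X ((1 : F) • pureM C + (-1 : F) • pureM D) := by
    have ea := hp A hA 1
    have eb := hp' B hB 1
    rw [one_smul] at ea eb
    have := El.comm S ea eb (by rw [pureM_mul]; exact pureM_eq_zero x hAx) (by rw [pureM_mul]; exact pureM_eq_zero r hBr)
      (by rw [pureM_mul, pureM_mul]; exact pureM_eq_zero x hABAx)
      (by rw [pureM_mul, pureM_mul]; exact pureM_eq_zero r hBABr)
    rwa [one_smul, neg_one_smul, ← sub_eq_add_neg, hC, hD, ← pureM_mul, ← pureM_mul]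
  have hxsq : C x * C x = 0 ∧ C x * D x = 0 ∧ D x * C x = 0 ∧ D x * D x = 0 := by
    simp only [hC, hD]
    have hBB : B x * B x = 0 ∨ B x = 1 := by
      by_cases h : τ' x = Ty.O
      · exact Or.inr (by have := hB x; rwa [h] at this)
      · exact Or.inl (re_sq S (hB x) h)
    refine ⟨?_, ?_, ?_, ?_⟩
    · rw [← mul_assoc, hABAx, zero_mul]
    · rcases hBB with h | h
      · rw [mul_assoc, ← mul_assoc (B x) (B x), h, zero_mul, mul_zero]
      · rw [h, mul_one, one_mul, hAx]
    · rw [mul_assoc, ← mul_assoc (A x) (A x), hAx, zero_mul, mul_zero]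
    · rw [mul_assoc, ← mul_assoc (A x) (B x) (A x), hABAx, mul_zero]
  obtain ⟨K, hKdef⟩ : ∃ K : Finset (Fin n), K = Finset.univ.filter fun k => k ≠ x ∧ τ k ≠ Ty.O ∧ τ' k ≠ Ty.O :=
    ⟨_, rfl⟩
  let P : Finset (Fin n) → (Fin n → Mm) → Fin n → Mm := fun T Z k => if k ∈ T then nm f (w k) else Z k
  have iter : ∀ T ⊆ K, El X ((∏ k ∈ T, (-2 * f (C k *ᵥ w k) (w k))) • pureM (P T C) +
      (-∏ k ∈ T, (-2 * f (D k *ᵥ w k) (w k))) • pureM (P T D)) := by
    intro T
    induction T using Finset.induction_on with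
    | empty => intro _; simpa [P] using hcd
    | insert k T hk ih =>
      intro hT
      have hkK : k ∈ K := hT (Finset.mem_insert_self _ _)
      have hxk : x ≠ k := fun e => by
        rw [hKdef, Finset.mem_filter] at hkK
        exact hkK.2.1 e.symm
      have hxT : x ∉ T := fun e => by
        have := hT (Finset.mem_insert_of_mem e)
        rw [hKdef, Finset.mem_filter] at this
        exact this.2.1 rfl
      have := proj S hX (C := P T C) (D := P T D) hxk (by simp only [P, if_neg hxT]; exact hxsq.1)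
        (by simp only [P, if_neg hxT]; exact hxsq.2.1) (by simp only [P, if_neg hxT]; exact hxsq.2.2.1)
        (by simp only [P, if_neg hxT]; exact hxsq.2.2.2) (w k) (ih ((Finset.subset_insert _ _).trans hT))
      have eP : ∀ Z, Function.update (P T Z) k (nm f (w k)) = P (insert k T) Z := fun Z => funext fun l => by
        rcases eq_or_ne l k with rfl | hl
        · simp [P]
        · simp [P, Function.update_of_ne hl, hl]
      rw [eP, eP] at this
      refine (congrArg₂ (fun u v : F => El X (u • pureM (P (insert k T) C) + v • pureM (P (insert k T) D))) ?_ ?_).mp this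
      · rw [Finset.prod_insert hk, show P T C k = C k from if_neg hk]; ring
      · rw [Finset.prod_insert hk, show P T D k = D k from if_neg hk]; ring
  obtain ⟨c, hc⟩ : ∃ c, c = ∏ k ∈ K, (-2 * f (C k *ᵥ w k) (w k)) := ⟨_, rfl⟩
  have hcne : c ≠ 0 := hc ▸ Finset.prod_ne_zero_iff.2 fun k hk => by
    rw [hKdef, Finset.mem_filter] at hk
    rw [hC]
    exact mul_ne_zero (neg_ne_zero.2 h2) (hw k hk.2.2).2
  have hd : -∏ k ∈ K, (-2 * f (D k *ᵥ w k) (w k)) = c := by
    rw [Finset.prod_congr rfl fun k _ => show -2 * f (D k *ᵥ w k) (w k) =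
      -(sg F (τ k) * sg F (τ' k)) * (-2 * f (C k *ᵥ w k) (w k)) by
        simp only [hC, hD]; rw [flip_coeff S (hA k) (hB k)]; ring, Finset.prod_mul_distrib, ← hc,
      show (∏ k ∈ K, -(sg F (τ k) * sg F (τ' k))) = -1 by rw [hKdef, Finset.prod_filter]; exact hK]
    ring
  have hK' := iter K subset_rfl
  rw [hd, ← hc] at hK'
  have hxK : x ∉ K := by rw [hKdef]; simp
  -- off the slot `x` both parts agree and have the new type
  have hrest : ∀ k, k ≠ x → P K C k = P K D k ∧ Re f (υ k) (P K C k) := by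
    intro k hk
    by_cases h : k ∈ K
    · simp only [P, if_pos h, true_and]
      rw [hKdef, Finset.mem_filter] at h
      rw [hυ]
      simp only [h.2.2.1, false_and, if_false]
      exact ⟨w k, (hw k h.2.2).1, rfl⟩
    · simp only [P, if_neg h]
      have ho : τ k = Ty.O ∨ τ' k = Ty.O := by
        simp only [hKdef, Finset.mem_filter, Finset.mem_univ, true_and] at h
        by_contra hcon
        push Not at hcon
        exact h ⟨hk, hcon⟩
      obtain ⟨e1, e2⟩ := hO k ho
      simp only [hC, hD]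
      exact ⟨e2.symm, e1⟩
  have hυx : υ x = Ty.N := by rw [hυ]; simp [hx]
  by_cases hxO : τ' x = Ty.O
  · obtain ⟨e1, e2⟩ := hO x (Or.inr hxO)
    have hCD : P K C = P K D := funext fun k => by
      rcases eq_or_ne k x with rfl | hk
      · simp only [P, if_neg hxK, hC, hD, e2]
      · exact (hrest k hk).1
    rw [← hCD, ← add_smul] at hK'
    refine pat_of_one S h2 hX hυx (fun k => ?_) (show c + c ≠ 0 from by rw [← two_mul]; exact mul_ne_zero h2 hcne) hK'
    rcases eq_or_ne k x with rfl | hk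
    · simp only [P, if_neg hxK, hC]; exact e1
    · exact (hrest k hk).2
  · have hxb : τ x ≠ Ty.O ∧ τ' x ≠ Ty.O := ⟨by rw [hx]; decide, hxO⟩
    obtain ⟨e1, e2⟩ := hrest r hxr.symm
    have hrN : υ r = Ty.N := by rw [hυ]; simp [hr1]
    have hrr : P K C r * P K C r = 0 := re_sq S e2 (by rw [hrN]; decide)
    have h := proj S hX (C := P K C) (D := P K D) hxr.symm hrr (by rw [← e1]; exact hrr) (by rw [← e1]; exact hrr)
      (by rw [← e1]; exact hrr) (w x) hK'
    have eCD : Function.update (P K C) x (nm f (w x)) = Function.update (P K D) x (nm f (w x)) := funext fun k => by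
      rcases eq_or_ne k x with rfl | hk
      · simp
      · rw [Function.update_of_ne hk, Function.update_of_ne hk]; exact (hrest k hk).1
    have hγ : f (P K D x *ᵥ w x) (w x) = f (P K C x *ᵥ w x) (w x) := by
      simp only [P, if_neg hxK, hC, hD]
      rw [flip_coeff S (hA x) (hB x), hx]
      cases hb : τ' x with
      | N => exact absurd hb hx'
      | L => simp [sg]
      | O => exact absurd hb hxO
    rw [hγ, ← eCD, ← add_smul] at h
    refine pat_of_one S h2 hX hυx (fun k => ?_) ?_ h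
    · rcases eq_or_ne k x with rfl | hk
      · rw [Function.update_self, hυx]; exact ⟨w k, (hw k hxb).1, rfl⟩
      · rw [Function.update_of_ne hk]; exact (hrest k hk).2
    · rw [← two_mul]
      refine mul_ne_zero h2 (mul_ne_zero (mul_ne_zero (neg_ne_zero.2 h2) hcne) ?_)
      simp only [P, if_neg hxK, hC]
      exact (hw x hxb).2

/-- Every type leads to the type with only factors of the first kind. -/
theorem pat_all (h2 : (2 : F) ≠ 0) (hm : 0 < m) (hX : Ks f n ≤ X) (hperm : ∀ σ, factorPermGL m F σ ∈ X)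
    (hI : X ≤ Iso f n) (hn : Odd n) : ∀ (τ : Fin n → Ty), Pat f X τ → Real' f τ →
      (∃ a b, a ≠ b ∧ τ a ≠ Ty.O ∧ τ b ≠ Ty.O) → Pat f X fun _ => Ty.N := by
  classical
  suffices key : ∀ (k : ℕ) (τ : Fin n → Ty), (Finset.univ.filter fun l => τ l ≠ Ty.N).card ≤ k → Pat f X τ →
      Real' f τ → (∃ a b, a ≠ b ∧ τ a ≠ Ty.O ∧ τ b ≠ Ty.O) → Pat f X fun _ => Ty.N from
    fun τ => key _ τ le_rfl
  intro k
  induction k with
  | zero =>
    intro τ hc hp _ _
    have : τ = fun _ => Ty.N := funext fun l => by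
      by_contra hl
      exact (Finset.card_pos.2 ⟨l, Finset.mem_filter.2 ⟨Finset.mem_univ l, hl⟩⟩).ne' (Nat.le_zero.1 hc)
    rwa [this] at hp
  | succ k ih =>
    intro τ hc hp hr hne
    by_cases hall : ∀ l, τ l = Ty.N
    · rwa [show τ = fun _ => Ty.N from funext hall] at hp
    push Not at hall
    obtain ⟨a, b, hab, ha, hb⟩ := hne
    choose A hA using hr
    have hpar : ∏ l, sg F (τ l) = -1 := parity S hm hI hA ha one_ne_zero (hp A hA 1)
    have h11 : (1 : F) ≠ -1 := fun e => h2 (by linear_combination e)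
    obtain ⟨E, hE⟩ : ∃ E, E = fun l => if τ l ≠ Ty.O then (-1 : F) else 1 := ⟨_, rfl⟩
    obtain ⟨x, hx⟩ : ∃ x, τ x = Ty.N := by
      by_contra hcon
      push Not at hcon
      refine h11 (Eq.trans ?_ hpar)
      rw [Finset.prod_eq_one fun l _ => ?_]
      cases h : τ l with
      | N => exact absurd h (hcon l)
      | L => rfl
      | O => rfl
    have next : ∀ (σ : Equiv.Perm (Fin n)) (r : Fin n), τ (σ x) ≠ Ty.N → τ r ≠ Ty.N → τ (σ r) = Ty.N →
        (∀ l, τ l = Ty.O → τ (σ l) ≠ Ty.L) → (∀ l, τ (σ l) = Ty.O → τ l ≠ Ty.L) →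
        (∏ l, if l ≠ x ∧ τ l ≠ Ty.O ∧ τ (σ l) ≠ Ty.O then -(sg F (τ l) * sg F (τ (σ l))) else 1) = -1 →
        Pat f X fun _ => Ty.N := by
      intro σ r hσx hr2 hr1 h1 h1' hK
      refine ih _ ?_ (step S h2 hm hX hp (hp.perm S hperm σ) (fun l => ⟨A l, hA l⟩) (fun l => ⟨A (σ l), hA (σ l)⟩) hx
        hσx hr1 hr2 h1 h1' hK) (fun l => ?_) ⟨a, b, hab, by simp [ha], by simp [hb]⟩
      · have : (Finset.univ.filter fun l => (if τ l = Ty.O ∧ τ (σ l) = Ty.O then Ty.O else Ty.N) ≠ Ty.N).card <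
            (Finset.univ.filter fun l => τ l ≠ Ty.N).card := by
          refine Finset.card_lt_card (Finset.ssubset_iff_of_subset (fun l hl => ?_) |>.2 ⟨r, ?_, ?_⟩)
          · simp only [Finset.mem_filter, Finset.mem_univ, true_and] at hl ⊢
            intro e
            simp [e] at hl
          · simpa using hr2
          · simp [hr1]
        omega
      · split_ifs
        · exact ⟨1, rfl⟩
        · obtain ⟨o, ho⟩ : ∃ o : Fin m → F, o ≠ 0 := ⟨Pi.single ⟨0, hm⟩ 1, by simp⟩
          exact ⟨_, o, ho, rfl⟩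
    have hsame : ∀ (σ : Equiv.Perm (Fin n)) (l : Fin n), σ l = l → l ≠ x →
        (if l ≠ x ∧ τ l ≠ Ty.O ∧ τ (σ l) ≠ Ty.O then -(sg F (τ l) * sg F (τ (σ l))) else 1) = E l := by
      intro σ l hl hlx
      rw [hE, hl]
      cases h : τ l <;> simp [sg, h, hlx]
    have one_swap : ∀ r, τ r ≠ Ty.N → (∏ l, E l) = (if τ r = Ty.O then 1 else -1) →
        Pat f X fun _ => Ty.N := by
      intro r hrN hEr
      have hxr : x ≠ r := fun e => hrN (e ▸ hx)
      have hother : ∀ l, l ≠ x → l ≠ r → Equiv.swap x r l = l := fun l h h' => Equiv.swap_apply_of_ne_of_ne h h'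
      refine next (Equiv.swap x r) r (by rw [Equiv.swap_apply_left]; exact hrN) hrN
        (by rw [Equiv.swap_apply_right, hx]) (fun l hl => ?_) (fun l hl => ?_) ?_
      · rcases eq_or_ne l r with rfl | h
        · rw [Equiv.swap_apply_right, hx]; decide
        rcases eq_or_ne l x with rfl | h'
        · rw [hx] at hl; exact absurd hl (by decide)
        · rw [hother l h' h, hl]; decide
      · rcases eq_or_ne l x with rfl | h'
        · rw [hx]; decide
        rcases eq_or_ne l r with rfl | h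
        · rw [Equiv.swap_apply_right, hx] at hl; exact absurd hl (by decide)
        · rw [hother l h' h] at hl; rw [hl]; decide
      · rw [split_two _ hxr, Finset.prod_congr rfl fun l hl => hsame (Equiv.swap x r) l (hother l
          (Finset.ne_of_mem_erase (Finset.mem_of_mem_erase hl)) (Finset.ne_of_mem_erase hl))
          (Finset.ne_of_mem_erase (Finset.mem_of_mem_erase hl))]
        rw [split_two E hxr] at hEr
        simp only [hE, hx] at hEr ⊢
        simp only [Equiv.swap_apply_right, hx, ne_eq, not_true_eq_false, false_and, if_false, one_mul, hxr.symm,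
          not_false_eq_true, true_and, reduceCtorEq, and_true, if_true] at hEr ⊢
        cases h : τ r with
        | N => exact absurd h hrN
        | L => simp [sg, h] at hEr ⊢; linear_combination hEr
        | O => simp [sg, h] at hEr ⊢; linear_combination -hEr
    by_cases hL : ∃ l, τ l = Ty.L
    · obtain ⟨l, hl⟩ := hL
      have hsq : (∏ i, E i) = 1 ∨ (∏ i, E i) = -1 := by
        refine Finset.prod_induction _ (fun z : F => z = 1 ∨ z = -1) ?_ (Or.inl rfl) fun i _ => ?_
        · rintro _ _ (rfl | rfl) (rfl | rfl) <;> simp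
        · rw [hE]; by_cases h : τ i ≠ Ty.O <;> simp [h]
      rcases hsq with h | h
      · obtain ⟨r, hr⟩ : ∃ r, τ r = Ty.O := by
          by_contra hcon
          push Not at hcon
          refine h11 (h.symm.trans ?_)
          rw [hE]
          simp [hcon, hn.neg_one_pow]
        refine one_swap r (by rw [hr]; decide) ?_
        rw [h]; simp [hr]
      · refine one_swap l (by rw [hl]; decide) ?_
        rw [h]; simp [hl]
    push Not at hL
    have hEs : ∀ l, E l = sg F (τ l) := fun l => by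
      rw [hE]
      cases h : τ l with
      | N => simp [sg, h]
      | L => exact absurd h (hL l)
      | O => simp [sg, h]
    obtain ⟨r, hr⟩ := hall
    obtain ⟨r', hr', hrr'⟩ : ∃ r', τ r' ≠ Ty.N ∧ r' ≠ r := by
      by_contra hcon
      push Not at hcon
      refine h11 (Eq.trans ?_ hpar)
      rw [← Finset.mul_prod_erase _ _ (Finset.mem_univ r), Finset.prod_congr rfl fun l hl => show sg F (τ l) = -1 from by
        rw [show τ l = Ty.N from by_contra fun h => Finset.ne_of_mem_erase hl (hcon l h)]; rfl,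
        Finset.prod_const, Finset.card_erase_of_mem (Finset.mem_univ r), Finset.card_univ, Fintype.card_fin]
      obtain ⟨d, rfl⟩ := hn
      cases h : τ r with
      | N => exact absurd h hr
      | L => exact absurd h (hL r)
      | O => simp [sg, pow_mul]
    have hO : ∀ l, τ l ≠ Ty.N → τ l = Ty.O := fun l h => by
      cases h' : τ l with
      | N => exact absurd h' h
      | L => exact absurd h' (hL l)
      | O => rfl
    obtain ⟨x', hx', hxx'⟩ : ∃ x', τ x' = Ty.N ∧ x' ≠ x := by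
      rcases eq_or_ne a x with rfl | h
      · exact ⟨b, by_contra fun h => hb (hO b h), hab.symm⟩
      · exact ⟨a, by_contra fun h' => ha (hO a h'), h⟩
    have hrO := hO r hr
    have hr'O := hO r' hr'
    have d1 : x ≠ r := fun e => hr (e ▸ hx)
    have d2 : x ≠ r' := fun e => hr' (e ▸ hx)
    have d3 : x' ≠ r := fun e => hr (e ▸ hx')
    have d4 : x' ≠ r' := fun e => hr' (e ▸ hx')
    obtain ⟨σ, hσ⟩ : ∃ σ, σ = Equiv.swap x r * Equiv.swap x' r' := ⟨_, rfl⟩
    have s1 : σ x = r := by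
      rw [hσ, Equiv.Perm.mul_apply, Equiv.swap_apply_of_ne_of_ne hxx'.symm d2, Equiv.swap_apply_left]
    have s2 : σ r = x := by
      rw [hσ, Equiv.Perm.mul_apply, Equiv.swap_apply_of_ne_of_ne d3.symm hrr'.symm, Equiv.swap_apply_right]
    have s3 : σ x' = r' := by
      rw [hσ, Equiv.Perm.mul_apply, Equiv.swap_apply_left, Equiv.swap_apply_of_ne_of_ne d2.symm hrr']
    have s4 : σ r' = x' := by
      rw [hσ, Equiv.Perm.mul_apply, Equiv.swap_apply_right, Equiv.swap_apply_of_ne_of_ne hxx' d3]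
    have s5 : ∀ l, l ≠ x → l ≠ r → l ≠ x' → l ≠ r' → σ l = l := fun l h1 h2 h3 h4 => by
      rw [hσ, Equiv.Perm.mul_apply, Equiv.swap_apply_of_ne_of_ne h3 h4, Equiv.swap_apply_of_ne_of_ne h1 h2]
    refine next σ r (by rw [s1]; exact hr) hr (by rw [s2]; exact hx) (fun l _ => hL _) (fun l _ => hL _) ?_
    have hsplit : ∀ g : Fin n → F, ∏ l, g l = g x * g r * (g x' * g r' *
        ∏ l ∈ (((Finset.univ.erase x).erase r).erase x').erase r', g l) := fun g => by
      rw [split_two g d1, ← Finset.mul_prod_erase _ g (Finset.mem_erase.2 ⟨d3, Finset.mem_erase.2 ⟨hxx', Finset.mem_univ _⟩⟩),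
        ← Finset.mul_prod_erase _ g (Finset.mem_erase.2 ⟨d4.symm, Finset.mem_erase.2 ⟨hrr', Finset.mem_erase.2
          ⟨d2.symm, Finset.mem_univ _⟩⟩⟩), ← mul_assoc (g x')]
    have e := hsplit E
    rw [Finset.prod_congr rfl fun l _ => hEs l, hpar, hEs x, hEs r, hEs x', hEs r', hx, hx', hrO, hr'O] at e
    have hrest : ∀ l ∈ (((Finset.univ.erase x).erase r).erase x').erase r',
        (if l ≠ x ∧ τ l ≠ Ty.O ∧ τ (σ l) ≠ Ty.O then -(sg F (τ l) * sg F (τ (σ l))) else 1) = E l := fun l hl => by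
      simp only [Finset.mem_erase] at hl
      exact hsame σ l (s5 l hl.2.2.2.1 hl.2.2.1 hl.2.1 hl.1) hl.2.2.2.1
    rw [hsplit, Finset.prod_congr rfl hrest, s1, s2, s3, s4, hx, hx', hrO, hr'O]
    simp [sg] at e ⊢
    linear_combination -e

end Cfsg.Agent.Classical.TensorPowerMax.Symplectic
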