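/-
Transvections with pure centres generate all isometries of an odd tensor power.
-/
import Cfsg.Agent.Lib.Classical.STPow.FullStep
import Cfsg.Agent.Lib.Classical.STPow.Classify
import Cfsg.Agent.Lib.Classical.TensorMax.SpO.SpOFinal

set_option autoImplicit false
set_option linter.unusedSectionVars false

namespace Cfsg.Agent.Classical.TensorPowerMax.Symplectic

open Matrix Cfsg.Geo
open Cfsg.Agent.Classical
open Cfsg.Agent.Classical.TensorPowerMax
open Cfsg.Agent.Classical.TensorPowerMax.Unitary (tp fl nm)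
open Cfsg.Agent.Classical.TensorMax.Form (SForm STv TGen exists_stv tgen_top)

variable {F : Type*} [Field F] [Fintype F] {m n : ℕ} {f : (Fin m → F) → (Fin m → F) → F}

local notation "idF" => RingEquiv.refl F

theorem tp_sform (S : SForm f) (h2 : (2 : F) ≠ 0) (hn : Odd n) : SForm (tp idF f n) := by
  have R := tp_refl S n
  rw [hn.neg_one_pow] at R
  refine ⟨R, fun v => (mul_eq_zero.1 ?_).resolve_left h2⟩
  have := R.swap v v
  rw [RingEquiv.refl_apply] at this
  linear_combination this

theorem tp_gram (S : SForm f) (x y : (Fin n → Fin m) → F) :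
    tp idF f n x y = x ⬝ᵥ (pureM (fun _ : Fin n => gramMatrix f) *ᵥ y) := by
  simp only [tp, formOfGram, dotProduct, Matrix.mulVec, Finset.mul_sum, RingEquiv.coe_refl, id]
  exact Finset.sum_congr rfl fun a _ => Finset.sum_congr rfl fun b _ => by ring

theorem pureM_pv (A : Fin n → Matrix (Fin m) (Fin m) F) (u : Fin n → Fin m → F) :
    pureM A *ᵥ pv u = pv fun k => A k *ᵥ u k := by
  funext x
  simp only [Matrix.mulVec, dotProduct, pureM, Matrix.of_apply, pv, ← Finset.prod_mul_distrib]
  rw [Finset.prod_univ_sum, Fintype.piFinset_univ]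

theorem gram_mulVec (S : SForm f) (o : Fin m → F) : gramMatrix f *ᵥ o = fl f o := by
  funext k
  rw [fl, S.refl.apply_eq, show ((RingEquiv.refl F : F ≃+* F) : F → F) ∘ o = o from rfl, single_one_dotProduct]

theorem tp_pv (S : SForm f) (x : (Fin n → Fin m) → F) (u : Fin n → Fin m → F) :
    tp idF f n x (pv u) = pv (fun k => fl f (u k)) ⬝ᵥ x := by
  rw [tp_gram S, pureM_pv, dotProduct_comm]
  simp only [gram_mulVec S]

theorem pureM_nm (u : Fin n → Fin m → F) :
    pureM (fun k => nm f (u k)) = vecMulVec (pv u) (pv fun k => fl f (u k)) := by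
  ext x y
  simp [pureM, nm, vecMulVec_apply, pv, Finset.prod_mul_distrib]

theorem tp_pv_pv (S : SForm f) (a b : Fin n → Fin m → F) : tp idF f n (pv a) (pv b) = ∏ k, f (a k) (b k) := by
  rw [tp_pv S, pv_dot]
  exact Finset.prod_congr rfl fun k _ => fl_dot S _ _

/-- The end: every pure centre gives all isometries. -/
theorem iso_le_of_pat (S : SForm f) (h2 : (2 : F) ≠ 0) (hn : Odd n) {X : Subgroup (GL (Fin n → Fin m) F)}
    (hI : X ≤ Iso f n) (hp : Pat f X fun _ => Ty.N) : Iso f n ≤ X := by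
  classical
  have B := tp_sform (m := m) S h2 hn
  have base : ∀ u : Fin n → Fin m → F, (∀ k, u k ≠ 0) → ∀ c, ∃ g ∈ X, STv (tp idF f n) g (pv u) c := by
    intro u hu c
    obtain ⟨g, hg, eg⟩ := hp (fun k => nm f (u k)) (fun k => ⟨u k, hu k, rfl⟩) c
    refine ⟨g, hg, fun x => ?_⟩
    rw [eg, Matrix.add_mulVec, Matrix.one_mulVec, Matrix.smul_mulVec, pureM_nm, Matrix.vecMulVec_mulVec,
      op_smul_eq_smul, ← tp_pv S, smul_smul]
  have all : ∀ v c, ∃ g ∈ X, STv (tp idF f n) g v c := by
    refine TensorMax.SpO.grow B h2 (T := fun v => ∀ c, ∃ g ∈ X, STv (tp idF f n) g v c)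
      (S := fun v => ∃ u : Fin n → Fin m → F, (∀ k, u k ≠ 0) ∧ v = pv u) ?_ ?_ ?_ ?_ ?_ ?_
    · exact fun c => ⟨1, one_mem X, fun x => by simp⟩
    · intro a v hv c
      obtain ⟨g, hg, e⟩ := hv (c * a * a)
      exact ⟨g, hg, fun x => by rw [e, B.smul_right, smul_smul]; congr 2; ring⟩
    · intro u v hu hv huv c
      obtain ⟨g, hg, e⟩ := hv (c / tp idF f n u v)
      have eu : (g : Matrix (Fin n → Fin m) (Fin n → Fin m) F) *ᵥ u = u + c • v := by rw [e, div_mul_cancel₀ _ huv]
      rw [← eu]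
      intro d
      obtain ⟨k, hk, ek⟩ := hu d
      refine ⟨g * k * g⁻¹, mul_mem (mul_mem hg hk) (inv_mem hg), fun x => ?_⟩
      rw [gl_mul_mulVec, gl_mul_mulVec, ek, Matrix.mulVec_add, gl_mulVec_inv_cancel, Matrix.mulVec_smul]
      congr 3
      rw [← hI hg _ u, gl_mulVec_inv_cancel]
    · rintro v ⟨u, hu, rfl⟩
      exact base u hu
    · intro d hd
      funext x
      obtain ⟨G, hG⟩ := S.refl.gram_isUnit
      have hu : ∀ k, gramMatrix f *ᵥ (((G⁻¹ : (Matrix (Fin m) (Fin m) F)ˣ) : Matrix (Fin m) (Fin m) F) *ᵥ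
          Pi.single (x k) 1) = Pi.single (x k) 1 := fun k => by
        rw [← hG, Matrix.mulVec_mulVec, Units.mul_inv, Matrix.one_mulVec]
      have := hd _ ⟨fun k => ((G⁻¹ : (Matrix (Fin m) (Fin m) F)ˣ) : Matrix (Fin m) (Fin m) F) *ᵥ Pi.single (x k) 1,
        fun k e => ?_, rfl⟩
      · rw [tp_pv S, funext fun k => (gram_mulVec S _).symm.trans (hu k)] at this
        have e : pv (fun k => (Pi.single (x k) (1 : F) : Fin m → F)) = Pi.single x 1 := by
          funext y
          by_cases h : y = x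
          · subst h; simp [pv]
          · obtain ⟨k, hk⟩ := Function.ne_iff.1 h
            rw [Pi.single_eq_of_ne h]
            exact Finset.prod_eq_zero (Finset.mem_univ k) (Pi.single_eq_of_ne hk _)
        rwa [e, single_one_dotProduct] at this
      · have := hu k
        rw [show ((G⁻¹ : (Matrix (Fin m) (Fin m) F)ˣ) : Matrix (Fin m) (Fin m) F) *ᵥ Pi.single (x k) 1 = 0 from e,
          Matrix.mulVec_zero] at this
        simpa using (congrFun this (x k)).symm
    · rintro _ _ ⟨u, hu, rfl⟩ ⟨v, hv, rfl⟩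
      choose d hd h1 h2' using fun k => TensorMax.Form.exists_avoid S (W := ⊥) (u := u k) (v := v k) (by simpa using hu k)
        (by simpa using hv k)
      refine ⟨pv d, ⟨d, fun k e => h1 k (by rw [e, S.refl.zero_right]), rfl⟩, ?_, ?_⟩ <;>
        rw [tp_pv_pv S, Finset.prod_ne_zero_iff] <;> intro k _
      · exact h1 k
      · exact h2' k
  refine fun g hg => (show TGen (tp idF f n) ≤ X from (Subgroup.closure_le _).2 ?_) (tgen_top B g hg)
  rintro g ⟨v, c, hgv⟩
  obtain ⟨g', hg', e⟩ := all v c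
  rw [show g = g' from gl_ext_mulVec fun x => by rw [hgv, e]]
  exact hg'

end Cfsg.Agent.Classical.TensorPowerMax.Symplectic
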