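/-
An overgroup of the factor groups and permutations with a non-scalar central operator contains all isometries.
-/
import Cfsg.Agent.Lib.Classical.STPow.FullEnd
import Cfsg.Agent.Lib.Classical.STPow.Reduce

set_option autoImplicit false
set_option linter.unusedSectionVars false

namespace Cfsg.Agent.Classical.TensorPowerMax.Symplectic

open Matrix Cfsg.Geo
open Cfsg.Agent.Classical
open Cfsg.Agent.Classical.TensorPowerMax
open Cfsg.Agent.Classical.TensorPowerMax.Unitary (tp fl nm emb_pureM)
open Cfsg.Agent.Classical.TensorMax.Form (SForm)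

variable {F : Type*} [Field F] [Fintype F] {m t : ℕ} {f : (Fin m → F) → (Fin m → F) → F}

/-- A non-scalar central operator gives everything. -/
theorem iso_le (S : SForm f) (h2 : (2 : F) ≠ 0) (hm : 2 ≤ m) (hn : Odd (t + 1))
    {X : Subgroup (GL (Fin (t + 1) → Fin m) F)} (hX : Ks f (t + 1) ≤ X) (hperm : ∀ σ, factorPermGL m F σ ∈ X)
    (hI : X ≤ Iso f (t + 1)) (hC : ¬ Cen f X) : Iso f (t + 1) ≤ X := by
  classical
  obtain ⟨i, o, φ, ho, hφ, hns⟩ : ∃ (i : Fin (t + 1)) (o : Fin m → F)
      (φ : ((Fin t → Fin m) → F) → (Fin t → Fin m) → F), o ≠ 0 ∧ TensorMax.Form.CenOp f (XI X i) o φ ∧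
        ∀ l : F, ∃ v, φ v ≠ l • v := by
    unfold Cen at hC
    push Not at hC
    exact hC
  obtain ⟨g, hg, hgx⟩ := hφ
  obtain ⟨M, hM⟩ := cen_linear S ho hgx
  have hMel : El X (Emb i (nm f o) M) := by
    simp only [hM] at hgx
    rw [cen_entries S] at hgx
    refine ⟨J i g, hg, ?_⟩
    rw [J_val, hgx, Emb]
    ext x y
    simp [Matrix.reindex_apply, Matrix.one_apply]
  have hsq : ∀ N N', Emb i (nm f o) N * Emb i (nm f o) N' = 0 := fun N N' => by
    rw [emb_mul, nm_sq S]
    ext x y
    simp [Emb]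
  let T : Submodule F (Matrix (Fin t → Fin m) (Fin t → Fin m) F) :=
    { carrier := {N | El X (Emb i (nm f o) N)}
      add_mem' := fun {a b} ha hb => by
        show El X (Emb i (nm f o) (a + b))
        rw [emb_add]
        exact El.add ha hb (hsq a b)
      zero_mem' := by
        show El X (Emb i (nm f o) 0)
        rw [show Emb i (nm f o) (0 : Matrix (Fin t → Fin m) (Fin t → Fin m) F) = 0 by ext x y; simp [Emb]]
        exact El.zero
      smul_mem' := fun c N hN => by
        show El X (Emb i (nm f o) (c • N))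
        have sq : ∀ a : F, El X (Emb i (nm f o) ((a * a) • N)) := fun a => by
          rcases eq_or_ne a 0 with rfl | ha
          · rw [mul_zero, zero_smul, show Emb i (nm f o) (0 : Matrix (Fin t → Fin m) (Fin t → Fin m) F) = 0 by
              ext x y; simp [Emb]]
            exact El.zero
          obtain ⟨b, hb, e⟩ := re_move S (a := Ty.N) (A := nm f o) (A' := nm f (a • o)) ⟨o, ho, rfl⟩
            ⟨a • o, smul_ne_zero ha ho, rfl⟩
          have := El.conj hN (hX (facGL_mem_ks i hb))
          rw [emb_conj, e, nm_smul_vec S] at this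
          convert this using 1
          ext x y
          simp [Emb]
          ring
        obtain ⟨a, b, hab⟩ := exists_sq_sum h2 c
        have := El.add (sq a) (sq b) (hsq _ _)
        rwa [← emb_add, ← add_smul, hab] at this }
  have hTinv : ∀ a ∈ Ks f t, ∀ N ∈ T, (a : Matrix (Fin t → Fin m) (Fin t → Fin m) F) * N *
      ((a⁻¹ : GL (Fin t → Fin m) F) : Matrix (Fin t → Fin m) (Fin t → Fin m) F) ∈ T := fun a ha N hN => by
    show El X (Emb i (nm f o) _)
    rw [← emb_left_conj]
    exact El.conj hN (kr_left_mem hX i ha)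
  have hMns : ∀ r : F, M ≠ r • 1 := fun r e => by
    obtain ⟨v, hv⟩ := hns r
    exact hv (by rw [hM, e, Matrix.smul_mulVec, Matrix.one_mulVec])
  obtain ⟨τ, A, hA, hAT, hτ⟩ := reduce S h2 hm t T hTinv M hMel (fun e => hMns 0 (by rw [e, zero_smul]))
  obtain ⟨k, hk⟩ := hτ hMns
  have h1 : El X ((1 : F) • pureM (i.insertNth (nm f o) A)) := by
    rw [one_smul, ← emb_pureM]
    exact hAT
  have hre : ∀ l, Re f ((i.insertNth Ty.N τ : Fin (t + 1) → Ty) l) ((i.insertNth (nm f o) A : Fin (t + 1) → _) l) := by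
    intro l
    rcases Fin.eq_self_or_eq_succAbove i l with rfl | ⟨l, rfl⟩
    · rw [Fin.insertNth_apply_same, Fin.insertNth_apply_same]; exact ⟨o, ho, rfl⟩
    · rw [Fin.insertNth_apply_succAbove, Fin.insertNth_apply_succAbove]; exact hA l
  have hp : Pat f X (i.insertNth Ty.N τ) :=
    pat_of_one S h2 hX (x := i) (Fin.insertNth_apply_same ..) hre one_ne_zero h1
  refine iso_le_of_pat S h2 hn hI (pat_all S h2 (by omega) hX hperm hI hn _ hp (fun l => ⟨_, hre l⟩) ?_)
  exact ⟨i, i.succAbove k, Fin.ne_succAbove i k, by rw [Fin.insertNth_apply_same]; decide,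
    by rw [Fin.insertNth_apply_succAbove]; exact hk⟩

end Cfsg.Agent.Classical.TensorPowerMax.Symplectic
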