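/-
An overgroup of the factor groups with scalar central operators is standard.
-/
import Cfsg.Agent.Lib.Classical.STPow.EndTwo

set_option autoImplicit false
set_option linter.unusedSectionVars false

namespace Cfsg.Agent.Classical.TensorPowerMax.Symplectic

open Matrix Cfsg.Geo
open Cfsg.Agent.Classical
open Cfsg.Agent.Classical.TensorPowerMax
open Cfsg.Agent.Classical.TensorMax (kr kr_val kr_mul kr_one kr_inv)
open Cfsg.Agent.Classical.TensorMax.Form (SForm)
open scoped Kronecker

variable {F : Type*} [Field F] [Fintype F] {m t : ℕ} {f : (Fin m → F) → (Fin m → F) → F}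

/-- With one factor everything is standard. -/
theorem std_one (g : GL (Fin 1 → Fin m) F) : g ∈ tensorWreathStandard m 1 F := by
  obtain ⟨G, rfl⟩ := (J (F := F) (m := m) (t := 0) 0).surjective g
  let e : (Fin 0 → Fin m) × Fin m ≃ Fin m :=
    ⟨Prod.snd, fun x => (default, x), fun p => Prod.ext (Subsingleton.elim _ _) rfl, fun _ => rfl⟩
  rw [show G = kr (1 : GL (Fin 0 → Fin m) F) (glReindex e G) from Units.ext (by
    ext ⟨u, k⟩ ⟨v, l⟩
    rw [kr_val, kroneckerMap_apply, Subsingleton.elim u default, Subsingleton.elim v default, Units.val_one,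
      Matrix.one_apply_eq, one_mul]
    rfl), J_kr_right]
  exact facGL_mem _ _

/-- An overgroup of the factor groups with scalar central operators is standard. -/
theorem le_std (S : SForm f) (hm : m = 2 ∨ 4 ≤ m) (hex : ¬ (Fintype.card F = 3 ∧ m = 2)) :
    ∀ (t : ℕ) (X : Subgroup (GL (Fin (t + 1) → Fin m) F)), Ks f (t + 1) ≤ X → X ≤ Iso f (t + 1) → Cen f X →
      ((2 : F) ≠ 0 ∨ (6 ≤ m ∧ SlotScal f X)) → X ≤ tensorWreathStandard m (t + 1) F := by
  intro t
  induction t with
  | zero => exact fun X _ _ _ _ g _ => std_one g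
  | succ t ih =>
    intro X hK hI hC hc g hg
    by_contra hgs
    have H : Over f X := ⟨S, hc, hm, hex, Nat.succ_pos t, hK, hI, hC, fun s hs => by
      obtain rfl : s = t := (Nat.succ.inj hs).symm
      exact ih⟩
    obtain ⟨W, i, o, c, z, g', E⟩ := H.exists_ext hg hgs
    rcases hm with hm | hm
    · exact E.false_of_two hm
    · exact E.false_of_four hm

end Cfsg.Agent.Classical.TensorPowerMax.Symplectic
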