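/-
Maximality of the stabilisers of odd tensor powers of symplectic forms in the symplectic group.
-/
import Cfsg.Agent.Lib.Classical.STPow.Main
import Cfsg.Agent.Lib.Classical.STPow.FullMain
import Cfsg.Agent.Lib.Classical.TensorMax.Form.OFinal

set_option autoImplicit false
set_option linter.unusedSectionVars false

namespace Cfsg.Agent.Classical.TensorPowerMax.Symplectic

open Matrix Cfsg.Geo
open Cfsg.Agent.Classical
open Cfsg.Agent.Classical.TensorPowerMax
open Cfsg.Agent.Classical.TensorPowerMax.Unitary (tp fl nm)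
open Cfsg.Agent.Classical.TensorMax.Form (SForm exists_stv)

variable {F : Type*} [Field F] [Fintype F] {m t : ℕ} {f : (Fin m → F) → (Fin m → F) → F}

local notation "idF" => RingEquiv.refl F

/-- The dichotomy. -/
theorem maximal (S : SForm f) (h2 : (2 : F) ≠ 0) (hm : m = 2 ∨ 4 ≤ m) (hex : ¬ (Fintype.card F = 3 ∧ m = 2))
    (hn : Odd (t + 1)) {X : Subgroup (GL (Fin (t + 1) → Fin m) F)}
    (hN : tensorWreathStandard m (t + 1) F ⊓ Iso f (t + 1) ≤ X) (hI : X ≤ Iso f (t + 1)) :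
    X = tensorWreathStandard m (t + 1) F ⊓ Iso f (t + 1) ∨ X = Iso f (t + 1) := by
  have hK : Ks f (t + 1) ≤ X := (le_inf ks_le_std (ks_le_iso S _)).trans hN
  by_cases hC : Cen f X
  · exact Or.inl (le_antisymm (le_inf (le_std S hm hex t X hK hI hC (Or.inl h2)) hI) hN)
  · refine Or.inr (le_antisymm hI (iso_le S h2 ?_ hn hK (fun σ => hN ⟨factorPermGL_mem σ, perm_iso σ⟩) hI hC))
    rcases hm with h | h <;> omega

/-- The stabiliser is proper. -/
theorem not_iso_le_std (S : SForm f) (h2 : (2 : F) ≠ 0) (hm : m = 2 ∨ 4 ≤ m) (ht : 0 < t) (hn : Odd (t + 1)) :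
    ¬ Iso f (t + 1) ≤ tensorWreathStandard m (t + 1) F := by
  classical
  intro h
  have B := tp_sform (m := m) S h2 hn
  have hm2 : 2 ≤ m := by rcases hm with e | e <;> omega
  haveI : Nonempty (Fin (t + 1) → Fin m) := ⟨fun _ => ⟨0, by omega⟩⟩
  obtain ⟨v, hv⟩ : ∃ v : (Fin (t + 1) → Fin m) → F, v ≠ 0 :=
    ⟨Pi.single (fun _ => ⟨0, by omega⟩) 1, by simp⟩
  obtain ⟨g, hg, -, hgi⟩ := exists_stv B v 1
  obtain ⟨D, hD⟩ : ∃ D, D = (g : Matrix (Fin (t + 1) → Fin m) (Fin (t + 1) → Fin m) F) - 1 := ⟨_, rfl⟩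
  have hDv : ∀ x, D *ᵥ x = tp idF f (t + 1) x v • v := fun x => by
    rw [hD, Matrix.sub_mulVec, Matrix.one_mulVec, hg, one_mul, add_sub_cancel_left]
  have hr : D.rank ≤ 1 := by
    refine (Submodule.finrank_mono (t := Submodule.span F {v}) ?_).trans ?_
    · rintro _ ⟨x, rfl⟩
      rw [Matrix.mulVecLin_apply, hDv]
      exact Submodule.smul_mem _ _ (Submodule.mem_span_singleton_self v)
    · rw [finrank_span_singleton hv]
  have hsq : D * D = 0 := Matrix.toLin'.injective (LinearMap.ext fun x => by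
    rw [Matrix.toLin'_apply, map_zero, LinearMap.zero_apply, ← Matrix.mulVec_mulVec, hDv x, Matrix.mulVec_smul, hDv,
      B.alt, zero_smul, smul_zero])
  have hne : g ≠ 1 := fun h1 => by
    obtain ⟨x, hx⟩ := (B.refl.nondeg v hv).1
    have := hDv x
    rw [hD, h1, Units.val_one, sub_self, Matrix.zero_mulVec, eq_comm, smul_eq_zero, or_iff_left hv] at this
    exact hx this
  rw [hD] at hr hsq
  have hpow : 1 < m ^ t := Nat.one_lt_pow (by omega) (by omega)
  obtain ⟨j, hj⟩ := classify (hm.imp_left fun e => ⟨e, h2⟩) (h hgi) hsq hne (hr.trans hpow.le)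
  have := hj.rank (by omega)
  omega

/-- The stabiliser of an odd tensor power is maximal in the symplectic group. -/
theorem isMaximalIn {k : ℕ} (hm7 : 4 ≤ m) (hodd : Odd (Fintype.card F)) (ht : Odd t) (ht3 : 3 ≤ t)
    (hex : ¬ (Fintype.card F = 3 ∧ k = 2)) (e : (Fin m ⊕ Fin m) ≃ (Fin t → Fin k)) (P : GL (Fin m ⊕ Fin m) F)
    (f₁ : (Fin k → F) → (Fin k → F) → F) (hf₁ : IsSymplecticForm f₁)
    (hT : IsTensorPowerFormStructure id (sympForm m F) f₁ e P) :
    IsMaximalIn (spGL m F) (tensorWreathSubgroup k t e P ⊓ spGL m F) := by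
  classical
  have h2 : (2 : F) ≠ 0 := fun h => by
    have hchar : ringChar F = 2 := CharP.ringChar_of_prime_eq_zero Nat.prime_two (by exact_mod_cast h)
    exact (Nat.not_even_iff_odd.mpr hodd) (Nat.even_iff.mpr (FiniteField.even_card_of_char_two hchar))
  have hcard : 2 * m = k ^ t := by
    have := Fintype.card_congr e
    simp only [Fintype.card_sum, Fintype.card_fin, Fintype.card_fun] at this
    omega
  have hk : k = 2 ∨ 4 ≤ k := by
    obtain ⟨d, rfl⟩ := TensorMax.Form.even_of_symplectic hf₁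
    rcases Nat.eq_zero_or_pos d with rfl | hd
    · rw [Nat.add_zero, zero_pow (by omega)] at hcard; omega
    · omega
  have S : SForm f₁ := ⟨reflexForm_of_symplectic hf₁, hf₁.alternating⟩
  obtain ⟨t, rfl⟩ : ∃ s, t = s + 1 := ⟨t - 1, by omega⟩
  obtain ⟨c₀, hc₀, hT⟩ := hT
  obtain ⟨T, hTdef⟩ : ∃ T : ((Fin (t + 1) → Fin k) → F) → (Fin m ⊕ Fin m → F),
      T = fun x => (P : Matrix (Fin m ⊕ Fin m) (Fin m ⊕ Fin m) F) *ᵥ (x ∘ e) := ⟨_, rfl⟩
  have hTh : ∀ x y, sympForm m F (T x) (T y) = c₀ * tp idF f₁ (t + 1) x y := fun x y => by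
    rw [hTdef]
    exact (hT x y).trans (by simp [tp, formOfGram, pureM])
  have hTsurj : ∀ v, ∃ x, T x = v := fun v =>
    ⟨(((P⁻¹ : GL (Fin m ⊕ Fin m) F) : Matrix (Fin m ⊕ Fin m) (Fin m ⊕ Fin m) F) *ᵥ v) ∘ e.symm, by
      rw [hTdef]
      simp only [Function.comp_assoc, Equiv.symm_comp_self, Function.comp_id, gl_mulVec_inv_cancel]⟩
  let φ : GL (Fin (t + 1) → Fin k) F ≃* GL (Fin m ⊕ Fin m) F := (glReindex (F := F) e.symm).trans (MulAut.conj P)
  have hφ : ∀ g x, glToMat (Fin m ⊕ Fin m) F (φ g) *ᵥ T x =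
      T ((g : Matrix (Fin (t + 1) → Fin k) (Fin (t + 1) → Fin k) F) *ᵥ x) := fun g x => by
    have hre : ((glReindex (F := F) e.symm g : GL (Fin m ⊕ Fin m) F) : Matrix (Fin m ⊕ Fin m) (Fin m ⊕ Fin m) F) =
        (g : Matrix (Fin (t + 1) → Fin k) (Fin (t + 1) → Fin k) F).submatrix e e := rfl
    show ((φ g : GL (Fin m ⊕ Fin m) F) : Matrix (Fin m ⊕ Fin m) (Fin m ⊕ Fin m) F) *ᵥ T x = _
    rw [hTdef]
    simp only [φ, MulEquiv.trans_apply, MulAut.conj_apply, gl_mul_mulVec, gl_inv_mulVec_cancel]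
    rw [hre, Matrix.submatrix_mulVec_equiv, Function.comp_assoc, Equiv.self_comp_symm, Function.comp_id]
  have hiso : ∀ g, φ g ∈ spGL m F ↔ g ∈ Iso f₁ (t + 1) := fun g => by
    constructor
    · intro h x y
      have := h (T x) (T y)
      change sympForm m F _ _ = sympForm m F _ _ at this
      rw [hφ, hφ, hTh, hTh] at this
      exact mul_left_cancel₀ hc₀ this
    · intro h u v
      obtain ⟨x, rfl⟩ := hTsurj u
      obtain ⟨y, rfl⟩ := hTsurj v
      rw [hφ, hφ, hTh, hTh, h]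
  have hkr : ∀ g, φ g ∈ tensorWreathSubgroup k (t + 1) e P ↔ g ∈ tensorWreathStandard k (t + 1) F := fun g => by
    constructor
    · rintro ⟨y, ⟨x, hx, rfl⟩, hy⟩
      have : φ x = φ g := hy
      rw [← φ.injective this]
      exact hx
    · intro hg
      exact ⟨_, ⟨_, hg, rfl⟩, rfl⟩
  refine ⟨lt_of_le_of_ne inf_le_right fun hEq => not_iso_le_std S h2 hk (by omega) ht (fun g hg => ?_),
    fun M hM hMS => ?_⟩
  · exact (hkr g).1 (hEq.symm ▸ (hiso g).2 hg : φ g ∈ tensorWreathSubgroup k (t + 1) e P ⊓ spGL m F).1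
  rcases maximal S h2 hk hex ht (X := M.comap φ.toMonoidHom) (fun g hg => hM ⟨(hkr g).2 hg.1, (hiso g).2 hg.2⟩)
      (fun g hg => (hiso g).1 (hMS hg)) with h | h
  · refine Or.inl (le_antisymm (fun g hg => ?_) hM)
    obtain ⟨x, rfl⟩ := φ.surjective g
    have hx : x ∈ tensorWreathStandard k (t + 1) F ⊓ Iso f₁ (t + 1) := h ▸ (show x ∈ M.comap φ.toMonoidHom from hg)
    exact ⟨(hkr x).2 hx.1, (hiso x).2 hx.2⟩
  · refine Or.inr (le_antisymm hMS fun g hg => ?_)
    obtain ⟨x, rfl⟩ := φ.surjective g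
    exact h.symm.le ((hiso x).1 hg)

end Cfsg.Agent.Classical.TensorPowerMax.Symplectic
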