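/-
The tensor power of a symplectic form as a quadratic space, and its splittings.
-/
import Cfsg.Agent.Lib.Classical.STPow.Main
import Cfsg.Agent.Lib.Classical.STPow.FullEnd
import Cfsg.Agent.Lib.Classical.TensorMax.Form.OGen

set_option autoImplicit false
set_option linter.unusedSectionVars false

namespace Cfsg.Agent.Classical.TensorPowerMax.Symplectic

open Matrix Cfsg.Geo
open Cfsg.Agent.Classical
open Cfsg.Agent.Classical.TensorPowerMax
open Cfsg.Agent.Classical.TensorPowerMax.Unitary (tp tp_spl tens_tm)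
open Cfsg.Agent.Classical.TensorMax (kr kr_val kr_mul kr_one kr_inv)
open Cfsg.Agent.Classical.TensorMax.Form (SForm OCtx tm tm_apply tm_add_left tm_smul_left tm_zero_left tf tf_tm tgen_iso
  Param)
open scoped Kronecker

variable {F : Type*} [Field F] [Fintype F] {m t : ℕ} {f : (Fin m → F) → (Fin m → F) → F}
  {Q : QuadraticForm F ((Fin (t + 1) → Fin m) → F)} {X : Subgroup (GL (Fin (t + 1) → Fin m) F)}

local notation "idF" => RingEquiv.refl F

/-- The Siegel element with centre `v` and parameter `y` lies in the group. -/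
def SP {ι : Type} [Fintype ι] [DecidableEq ι] (Q : QuadraticForm F (ι → F)) (X : Subgroup (GL ι F)) (v y : ι → F) : Prop :=
  ∃ g ∈ X, ∀ x, (g : Matrix ι ι F) *ᵥ x =
    x + QuadraticMap.polar (⇑Q) v x • y - (QuadraticMap.polar (⇑Q) y x + Q y * QuadraticMap.polar (⇑Q) v x) • v

/-- A group of isometries of the quadratic space containing the factor groups of the even tensor power. -/
structure OPow (f : (Fin m → F) → (Fin m → F) → F) (Q : QuadraticForm F ((Fin (t + 1) → Fin m) → F))
    (X : Subgroup (GL (Fin (t + 1) → Fin m) F)) : Prop where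
  sf : SForm f
  ht : 0 < t
  par : (2 : F) = 0 ∨ Even (t + 1)
  pol : ∀ x y, QuadraticMap.polar (⇑Q) x y = tp (RingEquiv.refl F) f (t + 1) x y
  pure : ∀ u : Fin (t + 1) → Fin m → F, Q (pv u) = 0
  iso : ∀ g ∈ X, ∀ x, Q ((g : Matrix (Fin (t + 1) → Fin m) (Fin (t + 1) → Fin m) F) *ᵥ x) = Q x
  small : ∀ (i : Fin (t + 1)) (s : GL (Fin t → Fin m) F) (b : GL (Fin m) F), s ∈ tensorWreathStandard m t F →
    s ∈ Iso f t → (∀ u v, f ((b : Matrix (Fin m) (Fin m) F) *ᵥ u) ((b : Matrix (Fin m) (Fin m) F) *ᵥ v) = f u v) →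
    J i (kr s b) ∈ X

theorem OPow.le_iso (H : OPow f Q X) : X ≤ Iso f (t + 1) := fun g hg x y => by
  rw [← H.pol, ← H.pol]
  simp only [QuadraticMap.polar, ← Matrix.mulVec_add, H.iso g hg]

theorem OPow.ks_le (H : OPow f Q X) : Ks f (t + 1) ≤ X := (Subgroup.closure_le _).2 fun g ⟨i, b, hb, hg⟩ => by
  rw [hg, SetLike.mem_coe, ← J_kr_right]
  exact H.small i 1 b (one_mem _) (one_mem _) hb

/-- The product of the other factors is alternating. -/
theorem OPow.alt (H : OPow f Q X) : SForm (tp idF f t) := by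
  by_cases h2 : (2 : F) = 0
  · exact tp_sform_two H.sf h2 H.ht
  · refine tp_sform H.sf h2 ?_
    obtain ⟨k, hk⟩ := H.par.resolve_left h2
    exact ⟨k - 1, by omega⟩

/-- The quadratic form in the coordinates of a splitting. -/
noncomputable def spQ (Q : QuadraticForm F ((Fin (t + 1) → Fin m) → F)) (i : Fin (t + 1)) :
    QuadraticForm F ((Fin t → Fin m) × Fin m → F) :=
  Q.comp (LinearMap.funLeft F F ((spl i).symm : (Fin (t + 1) → Fin m) → (Fin t → Fin m) × Fin m))

theorem spQ_apply (i : Fin (t + 1)) (x : (Fin t → Fin m) × Fin m → F) : spQ Q i x = Q (x ∘ (spl i).symm) := rfl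

theorem spQ_comp (i : Fin (t + 1)) (x : (Fin (t + 1) → Fin m) → F) : spQ Q i (x ∘ spl i) = Q x := by
  rw [spQ_apply, Function.comp_assoc, Equiv.self_comp_symm, Function.comp_id]

theorem OPow.spQ_pol (H : OPow f Q X) (i : Fin (t + 1)) (x y : (Fin t → Fin m) × Fin m → F) :
    QuadraticMap.polar (⇑(spQ Q i)) x y = tf idF (tp idF f t) f x y := by
  have e : QuadraticMap.polar (⇑(spQ Q i)) x y = QuadraticMap.polar (⇑Q) (x ∘ (spl i).symm) (y ∘ (spl i).symm) := by
    simp only [QuadraticMap.polar, spQ_apply]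
    rfl
  rw [e, H.pol, tp_spl i, Function.comp_assoc, Equiv.symm_comp_self, Function.comp_id, Function.comp_assoc,
    Equiv.symm_comp_self, Function.comp_id]

theorem OPow.spQ_pure (H : OPow f Q X) (i : Fin (t + 1)) (a : (Fin t → Fin m) → F) (w : Fin m → F) :
    spQ Q i (tm a w) = 0 := by
  classical
  have hsingle : ∀ x : Fin t → Fin m, tm (Pi.single x (1 : F)) w =
      pv (i.insertNth w fun k => (Pi.single (x k) (1 : F) : Fin m → F)) ∘ spl i := fun x => by
    funext p
    obtain ⟨u, c⟩ := p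
    have e : ∀ k, spl i (u, c) (i.succAbove k) = u k := fun k => by simp [spl]
    have e' : spl i (u, c) i = c := by simp [spl]
    simp only [tm_apply, Function.comp_apply, pv]
    rw [Fin.prod_univ_succAbove _ i]
    simp only [Fin.insertNth_apply_same, Fin.insertNth_apply_succAbove, e, e']
    by_cases h : u = x
    · subst h; simp
    · obtain ⟨k, hk⟩ := Function.ne_iff.1 h
      rw [Pi.single_eq_of_ne h, zero_mul, Finset.prod_eq_zero (Finset.mem_univ k) (Pi.single_eq_of_ne hk _), mul_zero]
  rw [pi_eq_sum_univ' a]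
  induction (Finset.univ : Finset (Fin t → Fin m)) using Finset.induction_on with
  | empty => rw [Finset.sum_empty, tm_zero_left, QuadraticMap.map_zero]
  | insert x T hx ih =>
    rw [Finset.sum_insert hx, tm_add_left, QuadraticMap.map_add ⇑(spQ Q i), ih, H.spQ_pol, tm_smul_left,
      QuadraticMap.map_smul, hsingle, spQ_comp, H.pure, ← hsingle, ← tm_smul_left,
      tf_tm (data H.sf t), H.sf.alt]
    simp

/-- The setting of two alternating forms at a splitting. -/
theorem OPow.octx (H : OPow f Q X) (i : Fin (t + 1)) (h6 : 6 ≤ m) : OCtx (tp idF f t) f (spQ Q i) (XI X i) :=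
  { a := H.alt
    b := H.sf
    isot := fun _ hg x y => (mem_iso_iff i).1 (H.le_iso hg) x y
    right := fun b hb => H.small i 1 b (one_mem _) (one_mem _) (tgen_iso H.sf hb).2
    six := by rw [Fintype.card_fin]; exact h6
    pol := H.spQ_pol i
    pure := H.spQ_pure i
    iso := fun g hg x => by
      rw [spQ_apply, spQ_apply]
      have e := J_mulVec i g (x ∘ (spl i).symm)
      rw [Function.comp_assoc, Equiv.symm_comp_self, Function.comp_id] at e
      rw [← e, Function.comp_assoc, Equiv.self_comp_symm, Function.comp_id]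
      exact H.iso _ hg _ }

/-- A parameter at a splitting is a parameter of the whole space. -/
theorem OPow.sp_of_param (H : OPow f Q X) (i : Fin (t + 1)) {v y : (Fin (t + 1) → Fin m) → F}
    (h : Param (spQ Q i) (XI X i) (v ∘ spl i) (y ∘ spl i)) : SP Q X v y := by
  obtain ⟨g, hg, hgx⟩ := h
  refine ⟨J i g, hg, fun x => ?_⟩
  have e := J_mulVec i g x
  have hp : ∀ a b : (Fin (t + 1) → Fin m) → F,
      QuadraticMap.polar (⇑(spQ Q i)) (a ∘ spl i) (b ∘ spl i) = QuadraticMap.polar (⇑Q) a b := fun a b => by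
    rw [H.spQ_pol, H.pol, tp_spl i]
  rw [hgx, hp, hp, spQ_comp] at e
  funext p
  obtain ⟨q, rfl⟩ := (spl i).surjective p
  exact congrFun e q

end Cfsg.Agent.Classical.TensorPowerMax.Symplectic
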