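/-
Factors of dimension at least six: standard, or all Siegel elements.
-/
import Cfsg.Agent.Lib.Classical.STPow.OBase
import Cfsg.Agent.Lib.Classical.STPow.Alg
import Cfsg.Agent.Lib.Classical.STPow.FullPat

set_option autoImplicit false
set_option linter.unusedSectionVars false

namespace Cfsg.Agent.Classical.TensorPowerMax.Symplectic

open Matrix Cfsg.Geo
open Cfsg.Agent.Classical
open Cfsg.Agent.Classical.TensorPowerMax
open Cfsg.Agent.Classical.TensorPowerMax.Unitary (tp perm_tp)
open Cfsg.Agent.Classical.TensorMax (kr kr_val kr_mul kr_one kr_inv)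
open Cfsg.Agent.Classical.TensorMax.Form (SForm InS inS_of_central inS_one slot_conjA slot_zero slot_add closed tgen_iso
  tgen_top param_all dyad ctr_tm)
open scoped Kronecker

variable {F : Type*} [Field F] [Fintype F] {m t : ℕ} {f : (Fin m → F) → (Fin m → F) → F}
  {Q : QuadraticForm F ((Fin (t + 1) → Fin m) → F)} {X : Subgroup (GL (Fin (t + 1) → Fin m) F)}

local notation "idF" => RingEquiv.refl F

/-- With scalar slots the group is standard. -/
theorem OPow.le_std_of_scal (H : OPow f Q X) (h6 : 6 ≤ m) (hS : SlotScal f X) :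
    X ≤ tensorWreathStandard m (t + 1) F := by
  refine le_std H.sf (Or.inr (by omega)) (fun h => by omega) t X H.ks_le H.le_iso ?_ (Or.inr ⟨h6, hS⟩)
  intro i o φ ho hφ
  obtain ⟨g, hg, hgx⟩ := hφ
  obtain ⟨M, hM⟩ := cen_linear H.sf ho hgx
  obtain ⟨l, hl⟩ := hS i M (inS_of_central (H.octx i h6).toSCtx ho hg fun a w => by
    rw [hgx, ctr_tm (data H.sf t), hM, Matrix.mulVec_smul, TensorMax.Form.tm_smul_left])
  exact ⟨l, fun v => by rw [hM, hl, Matrix.smul_mulVec, Matrix.one_mulVec]⟩

/-- A non-scalar slot gives all slots. -/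
theorem OPow.all_inS (H : OPow f Q X) (h6 : 6 ≤ m) (i : Fin (t + 1)) {φ : Matrix (Fin t → Fin m) (Fin t → Fin m) F}
    (hφ : InS (tp idF f t) f (XI X i) φ) (hns : ∀ r : F, φ ≠ r • 1) (M : Matrix (Fin t → Fin m) (Fin t → Fin m) F) :
    InS (tp idF f t) f (XI X i) M := by
  classical
  have C := (H.octx i h6).toSCtx
  have hcl : ∀ (s : GL (Fin t → Fin m) F), s ∈ tensorWreathStandard m t F → s ∈ Iso f t → ∀ ψ,
      InS (tp idF f t) f (XI X i) ψ → InS (tp idF f t) f (XI X i)
        ((s : Matrix (Fin t → Fin m) (Fin t → Fin m) F) * ψ * ((s⁻¹ : GL (Fin t → Fin m) F) : Matrix _ _ F)) :=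
    fun s hs hsi ψ hψ o z ho hoz hz => slot_conjA C hsi (H.small i s 1 hs hsi fun u v => by simp) (hψ o z ho hoz hz)
  let T : Submodule F (Matrix (Fin t → Fin m) (Fin t → Fin m) F) :=
    { carrier := {ψ | InS (tp idF f t) f (XI X i) ψ}
      add_mem' := fun ha hb o z ho hoz hz => slot_add C hoz (ha o z ho hoz hz) (hb o z ho hoz hz)
      zero_mem' := fun o z _ _ _ => slot_zero C
      smul_mem' := fun r ψ hψ o z ho hoz hz => by
        rcases eq_or_ne r 0 with hr | hr
        · rw [hr, zero_smul]; exact slot_zero C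
        refine (TensorMax.Form.slot_smulz C r).mp (hψ o (r • z) ho (by rw [H.sf.smul_right, hoz, mul_zero]) fun e => hz ?_)
        obtain ⟨s, hs⟩ := Submodule.mem_span_singleton.mp e
        exact Submodule.mem_span_singleton.mpr
          ⟨r⁻¹ * s, by rw [← smul_smul, hs, smul_smul, inv_mul_cancel₀ hr, one_smul]⟩ }
  have hmul : ∀ a ∈ T, ∀ b ∈ T, a * b ∈ T := fun a ha b hb => TensorMax.Form.inS_mul C ha hb
  obtain ⟨h1, hfac⟩ := alg_cases H.sf (by omega) t T hmul
    (fun g hg ψ hψ => hcl g (ks_le_std hg) (ks_le_iso H.sf t hg) ψ hψ)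
    ⟨φ, hφ, fun e => hns 0 (by rw [e, zero_smul])⟩
  obtain ⟨j, hj⟩ := hfac ⟨φ, hφ, hns⟩
  refine mem_of_all_facs T h1 hmul (fun j' Y => ?_) M
  have := hcl (factorPermGL m F (Equiv.swap j j')) (factorPermGL_mem _) (perm_iso _) _ (hj Y)
  rw [facM, perm_pureM] at this
  show InS (tp idF f t) f (XI X i) (facM j' Y)
  convert this using 1
  rw [facM]
  congr 1
  funext k
  simp only [Equiv.symm_swap]
  rcases eq_or_ne k j' with rfl | hk
  · rw [Equiv.swap_apply_right, Function.update_self, Function.update_self]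
  · rw [Function.update_of_ne hk, Function.update_of_ne]
    intro e
    exact hk (by rw [← Equiv.swap_apply_self j j' k, e, Equiv.swap_apply_left])

/-- Standard, or all Siegel elements. -/
theorem OPow.six_cases (H : OPow f Q X) (h6 : 6 ≤ m) :
    X ≤ tensorWreathStandard m (t + 1) F ∨
      ∀ v y, Q v = 0 → QuadraticMap.polar (⇑Q) v y = 0 → SP Q X v y := by
  classical
  by_cases hS : SlotScal f X
  · exact Or.inl (H.le_std_of_scal h6 hS)
  right
  unfold SlotScal at hS
  push Not at hS
  obtain ⟨i, φ, hφ, hns⟩ := hS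
  intro v y hv hvy
  have h2 : 2 ≤ Fintype.card (Fin t → Fin m) := by
    rw [Fintype.card_fun, Fintype.card_fin, Fintype.card_fin]
    exact le_trans (by omega) (Nat.le_self_pow (by have := H.ht; omega) m)
  refine H.sp_of_param i (param_all (H.octx i h6) h2 (fun u w => H.all_inS h6 i hφ hns _) ?_ ?_)
  · rw [spQ_comp]; exact hv
  · rwa [H.spQ_pol, ← Unitary.tp_spl i, ← H.pol]

end Cfsg.Agent.Classical.TensorPowerMax.Symplectic
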