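/-
Parameters of Siegel elements in a group of isometries of a quadratic space.
-/
import Cfsg.Agent.Lib.Classical.STPow.OBase

set_option autoImplicit false
set_option linter.unusedSectionVars false

namespace Cfsg.Agent.Classical.TensorPowerMax.Symplectic

open Matrix Cfsg.Geo
open Cfsg.Agent.Classical

variable {ι : Type} [Fintype ι] [DecidableEq ι] {F : Type*} [Field F] [Fintype F]
variable {Q : QuadraticForm F (ι → F)} {X : Subgroup (GL ι F)}

local notation:max g:max " ⬝ₘ " x:max => ((g : GL ι F) : Matrix ι ι F) *ᵥ x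
local notation "⟪" x ", " y "⟫" => QuadraticMap.polar (DFunLike.coe Q) x y

/-- A group of isometries of a non-degenerate quadratic space of dimension other than four. -/
structure QIso (Q : QuadraticForm F (ι → F)) (X : Subgroup (GL ι F)) : Prop where
  pnd : OCount.PND Q
  card : Fintype.card ι ≠ 4
  iso : ∀ g ∈ X, ∀ x, Q ((g : Matrix ι ι F) *ᵥ x) = Q x

variable (C : QIso Q X)

include C

theorem QIso.exists_E {p y : ι → F} (hp : Q p = 0) (hy : ⟪p, y⟫ = 0) :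
    ∃ g : GL ι F, ∀ x, g ⬝ₘ x = x + ⟪p, x⟫ • y - (⟪y, x⟫ + Q y * ⟪p, x⟫) • p := by
  obtain ⟨g, -, hg⟩ := ONotMax.exists_siegel C.pnd C.card hp hy
  exact ⟨g, hg⟩

theorem QIso.self_zero {p : ι → F} (hp : Q p = 0) : ⟪p, p⟫ = 0 := by
  rw [QuadraticMap.polar_self, hp, smul_zero]

theorem QIso.polar_iso {g : GL ι F} (hg : g ∈ X) (u v : ι → F) : ⟪g ⬝ₘ u, g ⬝ₘ v⟫ = ⟪u, v⟫ := by
  simp only [QuadraticMap.polar, ← Matrix.mulVec_add, C.iso g hg]

theorem sp_zero {p : ι → F} : SP Q X p 0 :=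
  ⟨1, one_mem X, fun x => by simp [QuadraticMap.polar_zero_left]⟩

theorem sp_zero' {y : ι → F} : SP Q X 0 y :=
  ⟨1, one_mem X, fun x => by simp [QuadraticMap.polar_zero_left]⟩

theorem sp_self {p : ι → F} (hp : Q p = 0) (c : F) : SP Q X p (c • p) :=
  ⟨1, one_mem X, fun x => by
    rw [QuadraticMap.polar_smul_left, QuadraticMap.map_smul, hp, Units.val_one, Matrix.one_mulVec]
    simp only [smul_eq_mul, mul_zero, zero_mul, add_zero]
    module⟩

theorem sp_add {p y y' : ι → F} (hp : Q p = 0) (hy : ⟪p, y⟫ = 0) (hy' : ⟪p, y'⟫ = 0)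
    (h : SP Q X p y) (h' : SP Q X p y') : SP Q X p (y + y') := by
  obtain ⟨g, hg, hgx⟩ := h
  obtain ⟨g', hg', hgx'⟩ := h'
  refine ⟨g * g', mul_mem hg hg', fun x => ?_⟩
  have e1 : ⟪y, p⟫ = 0 := by rw [QuadraticMap.polar_comm]; exact hy
  rw [gl_mul_mulVec, hgx, hgx']
  simp only [QuadraticMap.polar_sub_right, QuadraticMap.polar_add_right, QuadraticMap.polar_smul_right,
    QuadraticMap.polar_add_left, smul_eq_mul, C.self_zero hp, hy', e1, QuadraticMap.map_add ⇑Q y y']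
  module

theorem sp_smul {p y : ι → F} {l : F} (h : SP Q X p (l • y)) : SP Q X (l • p) y := by
  obtain ⟨g, hg, hgx⟩ := h
  refine ⟨g, hg, fun x => ?_⟩
  rw [hgx, QuadraticMap.polar_smul_left, QuadraticMap.polar_smul_left, QuadraticMap.map_smul]
  simp only [smul_eq_mul]
  module

theorem sp_conj {g : GL ι F} (hg : g ∈ X) {p y : ι → F} (h : SP Q X p y) : SP Q X (g ⬝ₘ p) (g ⬝ₘ y) := by
  obtain ⟨k, hk, hkx⟩ := h
  refine ⟨g * k * g⁻¹, mul_mem (mul_mem hg hk) (inv_mem hg), fun x => ?_⟩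
  obtain ⟨z, rfl⟩ : ∃ z, x = g ⬝ₘ z := ⟨_, (gl_mulVec_inv_cancel g x).symm⟩
  rw [gl_mul_mulVec, gl_mul_mulVec, gl_inv_mulVec_cancel, hkx, C.polar_iso hg, C.polar_iso hg, C.iso g hg]
  simp only [Matrix.mulVec_sub, Matrix.mulVec_add, Matrix.mulVec_smul]

/-- Two parameters with one non-zero product give a third. -/
theorem sp_chain {p r r' s : ι → F} (hp : Q p = 0) (hr : Q r = 0) (hr' : Q r' = 0) (hs : Q s = 0)
    (hpr : ⟪p, r⟫ = 0) (hrs' : ⟪r', s⟫ = 0) (hpr' : ⟪p, r'⟫ = 0) (hps : ⟪p, s⟫ = 0) (hrs : ⟪r, s⟫ = 0)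
    (hrr : ⟪r, r'⟫ = 1) (h : SP Q X p r) (h' : SP Q X r' s) : SP Q X p s := by
  obtain ⟨g, hg, hgx⟩ := h
  obtain ⟨k, hk, hkx⟩ := h'
  obtain ⟨E, hE⟩ := C.exists_E hp hps
  refine ⟨E, ?_, hE⟩
  have key : E * (g * k) = k * g := gl_ext_mulVec fun x => by
    simp only [gl_mul_mulVec, hgx, hkx, hE, hr, hs, zero_mul, add_zero, QuadraticMap.polar_sub_right,
      QuadraticMap.polar_add_right, QuadraticMap.polar_smul_right, smul_eq_mul, C.self_zero hp, C.self_zero hr,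
      C.self_zero hr', C.self_zero hs, hpr, hrs', hpr', hps, hrs, hrr,
      show ⟪r, p⟫ = 0 by rw [QuadraticMap.polar_comm]; exact hpr,
      show ⟪s, r'⟫ = 0 by rw [QuadraticMap.polar_comm]; exact hrs',
      show ⟪r', p⟫ = 0 by rw [QuadraticMap.polar_comm]; exact hpr',
      show ⟪s, p⟫ = 0 by rw [QuadraticMap.polar_comm]; exact hps,
      show ⟪s, r⟫ = 0 by rw [QuadraticMap.polar_comm]; exact hrs,
      show ⟪r', r⟫ = 1 by rw [QuadraticMap.polar_comm]; exact hrr]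
    module
  rw [show E = k * g * (g * k)⁻¹ by rw [← key]; group]
  exact mul_mem (mul_mem hk hg) (inv_mem (mul_mem hg hk))

/-- All parameters at a spanning family of singular centres give all parameters. -/
theorem sp_all {P : Set (ι → F)} (hP0 : ∀ p ∈ P, Q p = 0) (hspan : ∀ x, (∀ p ∈ P, ⟪p, x⟫ = 0) → x = 0)
    (hcen : ∀ p ∈ P, ∀ y, ⟪p, y⟫ = 0 → SP Q X p y) {v y : ι → F} (hv : Q v = 0) (hy : ⟪v, y⟫ = 0) : SP Q X v y := by
  classical
  rcases eq_or_ne v 0 with hv0 | hv0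
  · rw [hv0]; exact sp_zero' C
  have hex : ∀ x, x ≠ 0 → ∃ p ∈ P, ⟪p, x⟫ ≠ 0 := fun x hx => by
    by_contra hcon
    push Not at hcon
    exact hx (hspan x hcon)
  obtain ⟨p, hpP, hP⟩ := hex v hv0
  obtain ⟨p', hpP', hP'⟩ := hex p fun e => hP (by rw [e, QuadraticMap.polar_zero_left])
  obtain ⟨l, hl⟩ : ∃ l, l = ⟪p, v⟫ / ⟪p', p⟫ := ⟨_, rfl⟩
  have hl0 : l ≠ 0 := hl ▸ div_ne_zero hP hP'
  obtain ⟨z, hz⟩ : ∃ z, z = (⟪p, v⟫)⁻¹ • (l • p' - v) := ⟨_, rfl⟩
  have hzp : ⟪p, z⟫ = 0 := by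
    rw [hz, QuadraticMap.polar_smul_right, QuadraticMap.polar_sub_right, QuadraticMap.polar_smul_right,
      QuadraticMap.polar_comm (⇑Q) p p', smul_eq_mul, smul_eq_mul, hl, div_mul_cancel₀ _ hP', sub_self, mul_zero]
  obtain ⟨g, hg, hgx⟩ := hcen p hpP z hzp
  have hgv : g ⬝ₘ v = l • p' := by
    obtain ⟨m, hm⟩ : ∃ m, m = ⟪z, v⟫ + Q z * ⟪p, v⟫ := ⟨_, rfl⟩
    have e : g ⬝ₘ v = l • p' + (-m) • p := by
      rw [hgx, ← hm, hz, smul_smul, mul_inv_cancel₀ hP, one_smul]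
      module
    have h0 := C.iso g hg v
    rw [hv, e, QuadraticMap.map_add ⇑Q, QuadraticMap.map_smul, QuadraticMap.map_smul, hP0 p hpP, hP0 p' hpP',
      QuadraticMap.polar_smul_left, QuadraticMap.polar_smul_right] at h0
    simp only [smul_eq_mul, mul_zero, zero_add, mul_eq_zero, neg_eq_zero, hl0, hP', false_or, or_false] at h0
    rw [e, h0, neg_zero, zero_smul, add_zero]
  have hgy : ⟪p', l • g ⬝ₘ y⟫ = 0 := by
    have : ⟪g ⬝ₘ v, g ⬝ₘ y⟫ = 0 := by rw [C.polar_iso hg]; exact hy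
    rwa [hgv, QuadraticMap.polar_smul_left, ← QuadraticMap.polar_smul_right] at this
  have h1 := sp_smul C (hcen p' hpP' _ hgy)
  rw [← hgv] at h1
  have h2' := sp_conj C (inv_mem hg) h1
  rwa [gl_inv_mulVec_cancel, gl_inv_mulVec_cancel] at h2'

end Cfsg.Agent.Classical.TensorPowerMax.Symplectic
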