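/-
Elementary elements of an even tensor power: swaps of two factors leave one factor of the second kind.
-/
import Cfsg.Agent.Lib.Classical.STPow.FullStep
import Cfsg.Agent.Lib.Classical.STPow.Reduce

set_option autoImplicit false
set_option linter.unusedSectionVars false

namespace Cfsg.Agent.Classical.TensorPowerMax.Symplectic

open Matrix Cfsg.Geo
open Cfsg.Agent.Classical
open Cfsg.Agent.Classical.TensorPowerMax
open Cfsg.Agent.Classical.TensorPowerMax.Unitary (tp fl nm)
open Cfsg.Agent.Classical.TensorMax (kr kr_val)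
open Cfsg.Agent.Classical.TensorMax.Form (SForm)
open scoped Kronecker

variable {F : Type*} [Field F] [Fintype F] {m n : ℕ} {f : (Fin m → F) → (Fin m → F) → F}

local notation "Mm" => Matrix (Fin m) (Fin m) F

variable (S : SForm f) {X : Subgroup (GL (Fin n → Fin m) F)}

omit [Fintype F] in
theorem pureM_update_add (A : Fin n → Mm) (k : Fin n) (Y Z : Mm) :
    pureM (Function.update A k (Y + Z)) = pureM (Function.update A k Y) + pureM (Function.update A k Z) := by
  ext x y
  simp only [pureM, Matrix.of_apply, Matrix.add_apply]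
  rw [← Finset.mul_prod_erase _ _ (Finset.mem_univ k), ← Finset.mul_prod_erase _ _ (Finset.mem_univ k),
    ← Finset.mul_prod_erase _ _ (Finset.mem_univ k), Function.update_self, Function.update_self, Function.update_self,
    Matrix.add_apply, add_mul]
  have e : ∀ W : Mm, (∏ l ∈ Finset.univ.erase k, Function.update A k W l (x l) (y l)) =
      ∏ l ∈ Finset.univ.erase k, A l (x l) (y l) := fun W => Finset.prod_congr rfl fun l hl => by
    rw [Function.update_of_ne (Finset.ne_of_mem_erase hl)]
  rw [e, e, e]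

include S

/-- The step that leaves one factor unprojected. -/
theorem step_open (h2 : (2 : F) ≠ 0) (hm : 0 < m) (hX : Ks f n ≤ X) {τ τ' : Fin n → Ty} (hp : Pat f X τ) (hp' : Pat f X τ')
    (hr : Real' f τ) (hr' : Real' f τ') {x r y z : Fin n} (hx : τ x = Ty.N) (hx' : τ' x ≠ Ty.N) (hr1 : τ' r = Ty.N)
    (hr2 : τ r ≠ Ty.N) (h1 : ∀ k, τ k = Ty.O → τ' k = Ty.N) (h1' : ∀ k, τ' k = Ty.O → τ k = Ty.N)
    (hzx : z ≠ x) (hyx : y ≠ x) (hyz : y ≠ z) {Az Bz : Mm} (hAz : Re f (τ z) Az) (hBz : Re f (τ' z) Bz) :
    ∃ (u : Fin n → Fin m → F) (α β : F), (∀ k, u k ≠ 0) ∧ α ≠ 0 ∧ β ≠ 0 ∧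
      El X (pureM (Function.update (fun k => nm f (u k)) z (α • (Az * Bz) + β • (Bz * Az)))) := by
  classical
  have hxr : x ≠ r := fun e => hx' (e ▸ hr1)
  obtain ⟨o₀, ho₀⟩ : ∃ o : Fin m → F, o ≠ 0 := ⟨Pi.single ⟨0, hm⟩ 1, by simp⟩
  have hch : ∀ k, ∃ A B w, Re f (τ k) A ∧ Re f (τ' k) B ∧
      (k ≠ z → (τ k ≠ Ty.O ∧ τ' k ≠ Ty.O) → f ((A * B) *ᵥ w) w ≠ 0) ∧
      (k ≠ z → (τ k = Ty.O ∨ τ' k = Ty.O) → A * B = nm f w ∧ B * A = A * B) ∧ w ≠ 0 ∧
      (k = z → A = Az ∧ B = Bz) := by
    intro k
    by_cases hk : k = z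
    · exact ⟨Az, Bz, o₀, hk ▸ hAz, hk ▸ hBz, fun h => absurd hk h, fun h => absurd hk h, ho₀, fun _ => ⟨rfl, rfl⟩⟩
    by_cases ha : τ k = Ty.O
    · exact ⟨1, nm f o₀, o₀, by rw [ha]; rfl, by rw [h1 k ha]; exact ⟨o₀, ho₀, rfl⟩, fun _ h => absurd ha h.1,
        fun _ _ => ⟨one_mul _, by rw [one_mul, mul_one]⟩, ho₀, fun h => absurd h hk⟩
    by_cases hb : τ' k = Ty.O
    · exact ⟨nm f o₀, 1, o₀, by rw [h1' k hb]; exact ⟨o₀, ho₀, rfl⟩, by rw [hb]; rfl, fun _ h => absurd hb h.2,
        fun _ _ => ⟨mul_one _, by rw [one_mul, mul_one]⟩, ho₀, fun h => absurd h hk⟩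
    obtain ⟨A, B, w, hA, hB, hw, hw'⟩ := exists_coeff S ha hb (hr k) (hr' k)
    exact ⟨A, B, w, hA, hB, fun _ _ => hw', fun _ h => h.elim (absurd · ha) (absurd · hb), hw, fun h => absurd h hk⟩
  choose A B w hA hB hw hO hw0 hz using hch
  obtain ⟨C, hC⟩ : ∃ C, C = fun k => A k * B k := ⟨_, rfl⟩
  obtain ⟨D, hD⟩ : ∃ D, D = fun k => B k * A k := ⟨_, rfl⟩
  have hAx : A x * A x = 0 := re_sq S (hA x) (by rw [hx]; decide)
  have hBr : B r * B r = 0 := re_sq S (hB r) (by rw [hr1]; decide)
  have hABAx : A x * B x * A x = 0 := nsq_zero S hx' (hx ▸ hA x) (hB x)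
  have hBABr : B r * A r * B r = 0 := nsq_zero S hr2 (hr1 ▸ hB r) (hA r)
  have hcd : El X ((1 : F) • pureM C + (-1 : F) • pureM D) := by
    have ea := hp A hA 1
    have eb := hp' B hB 1
    rw [one_smul] at ea eb
    have := El.comm S ea eb (by rw [pureM_mul]; exact pureM_eq_zero x hAx) (by rw [pureM_mul]; exact pureM_eq_zero r hBr)
      (by rw [pureM_mul, pureM_mul]; exact pureM_eq_zero x hABAx)
      (by rw [pureM_mul, pureM_mul]; exact pureM_eq_zero r hBABr)
    rwa [one_smul, neg_one_smul, ← sub_eq_add_neg, hC, hD, ← pureM_mul, ← pureM_mul]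
  have hxsq : C x * C x = 0 ∧ C x * D x = 0 ∧ D x * C x = 0 ∧ D x * D x = 0 := by
    simp only [hC, hD]
    have hBB : B x * B x = 0 ∨ B x = 1 := by
      by_cases h : τ' x = Ty.O
      · exact Or.inr (by have := hB x; rwa [h] at this)
      · exact Or.inl (re_sq S (hB x) h)
    refine ⟨?_, ?_, ?_, ?_⟩
    · rw [← mul_assoc, hABAx, zero_mul]
    · rcases hBB with h | h
      · rw [mul_assoc, ← mul_assoc (B x) (B x), h, zero_mul, mul_zero]
      · rw [h, mul_one, one_mul, hAx]
    · rw [mul_assoc, ← mul_assoc (A x) (A x), hAx, zero_mul, mul_zero]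
    · rw [mul_assoc, ← mul_assoc (A x) (B x) (A x), hABAx, mul_zero]
  obtain ⟨K, hKdef⟩ : ∃ K : Finset (Fin n),
      K = Finset.univ.filter fun k => k ≠ x ∧ k ≠ z ∧ τ k ≠ Ty.O ∧ τ' k ≠ Ty.O := ⟨_, rfl⟩
  let P : Finset (Fin n) → (Fin n → Mm) → Fin n → Mm := fun T Z k => if k ∈ T then nm f (w k) else Z k
  have iter : ∀ T ⊆ K, ∃ α β : F, α ≠ 0 ∧ β ≠ 0 ∧ El X (α • pureM (P T C) + β • pureM (P T D)) := by
    intro T
    induction T using Finset.induction_on with
    | empty => intro _; exact ⟨1, -1, one_ne_zero, by simp, by simpa [P] using hcd⟩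
    | insert k T hk ih =>
      intro hT
      obtain ⟨α, β, hα, hβ, hE⟩ := ih ((Finset.subset_insert _ _).trans hT)
      have hkK : k ∈ K := hT (Finset.mem_insert_self _ _)
      rw [hKdef, Finset.mem_filter] at hkK
      have hxT : x ∉ T := fun e => by
        have := hT (Finset.mem_insert_of_mem e)
        rw [hKdef, Finset.mem_filter] at this
        exact this.2.1 rfl
      have := proj S hX (C := P T C) (D := P T D) (y := x) (k := k) (Ne.symm hkK.2.1)
        (by simp only [P, if_neg hxT]; exact hxsq.1)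
        (by simp only [P, if_neg hxT]; exact hxsq.2.1) (by simp only [P, if_neg hxT]; exact hxsq.2.2.1)
        (by simp only [P, if_neg hxT]; exact hxsq.2.2.2) (w k) hE
      have eP : ∀ Z, Function.update (P T Z) k (nm f (w k)) = P (insert k T) Z := fun Z => funext fun l => by
        rcases eq_or_ne l k with rfl | hl
        · simp [P]
        · simp [P, Function.update_of_ne hl, hl]
      rw [eP, eP] at this
      have hne := hw k hkK.2.2.1 hkK.2.2.2
      refine ⟨_, _, mul_ne_zero (mul_ne_zero (neg_ne_zero.2 h2) hα) ?_, mul_ne_zero (mul_ne_zero (neg_ne_zero.2 h2) hβ) ?_,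
        this⟩
      · rw [show P T C k = C k from if_neg hk, hC]; exact hne
      · rw [show P T D k = D k from if_neg hk, hD]
        simp only
        rw [flip_coeff S (hA k) (hB k)]
        refine mul_ne_zero (neg_ne_zero.2 (mul_ne_zero ?_ ?_)) hne
        · cases τ k <;> simp [sg]
        · cases τ' k <;> simp [sg]
  obtain ⟨α, β, hα, hβ, hE⟩ := iter K subset_rfl
  have hxK : x ∉ K := by rw [hKdef]; simp
  have hzK : z ∉ K := by rw [hKdef]; simp
  have hrest : ∀ k, k ≠ x → k ≠ z → P K C k = nm f (w k) ∧ P K D k = nm f (w k) := by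
    intro k hk hk'
    by_cases h : k ∈ K
    · simp only [P, if_pos h, and_self]
    · simp only [P, if_neg h]
      have ho : τ k = Ty.O ∨ τ' k = Ty.O := by
        simp only [hKdef, Finset.mem_filter, Finset.mem_univ, true_and] at h
        by_contra hcon
        push Not at hcon
        exact h ⟨hk, hk', hcon⟩
      obtain ⟨e1, e2⟩ := hO k hk' ho
      simp only [hC, hD]
      exact ⟨e1, e2.trans e1⟩
  have hzC : P K C z = Az * Bz ∧ P K D z = Bz * Az := by
    simp only [P, if_neg hzK, hC, hD, (hz z rfl).1, (hz z rfl).2, and_self]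
  -- the factor `x`
  have hfin : ∃ (C' D' : Fin n → Mm) (α β : F), (∀ k, k ≠ z → C' k = nm f (w k) ∧ D' k = nm f (w k)) ∧
      C' z = Az * Bz ∧ D' z = Bz * Az ∧ α ≠ 0 ∧ β ≠ 0 ∧ El X (α • pureM C' + β • pureM D') := by
    by_cases hxO : τ' x = Ty.O
    · refine ⟨P K C, P K D, α, β, fun k hk => ?_, hzC.1, hzC.2, hα, hβ, hE⟩
      rcases eq_or_ne k x with rfl | hk'
      · obtain ⟨e1, e2⟩ := hO k hk (Or.inr hxO)
        simp only [P, if_neg hxK, hC, hD]
        exact ⟨e1, e2.trans e1⟩
      · exact hrest k hk' hk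
    · obtain ⟨e1, e2⟩ := hrest y hyx hyz
      have hyy : nm f (w y) * nm f (w y) = 0 := nm_sq S _
      have h := proj S hX (C := P K C) (D := P K D) (y := y) (k := x) hyx (by rw [e1]; exact hyy)
        (by rw [e1, e2]; exact hyy) (by rw [e1, e2]; exact hyy) (by rw [e2]; exact hyy) (w x) hE
      have hne := hw x (Ne.symm hzx) ⟨by rw [hx]; decide, hxO⟩
      refine ⟨_, _, _, _, fun k hk => ?_, ?_, ?_, mul_ne_zero (mul_ne_zero (neg_ne_zero.2 h2) hα) ?_,
        mul_ne_zero (mul_ne_zero (neg_ne_zero.2 h2) hβ) ?_, h⟩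
      · rcases eq_or_ne k x with rfl | hk'
        · simp
        · rw [Function.update_of_ne hk', Function.update_of_ne hk']; exact hrest k hk' hk
      · rw [Function.update_of_ne hzx]; exact hzC.1
      · rw [Function.update_of_ne hzx]; exact hzC.2
      · simp only [P, if_neg hxK, hC]; exact hne
      · simp only [P, if_neg hxK, hD]
        rw [flip_coeff S (hA x) (hB x)]
        refine mul_ne_zero (neg_ne_zero.2 (mul_ne_zero ?_ ?_)) hne
        · rw [hx]; simp [sg]
        · cases τ' x <;> simp [sg]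
  obtain ⟨C', D', α', β', hoff, hC', hD', hα', hβ', hE'⟩ := hfin
  refine ⟨w, α', β', hw0, hα', hβ', ?_⟩
  rw [pureM_update_add, pureM_update_smul, pureM_update_smul]
  have e1 : C' = Function.update (fun k => nm f (w k)) z (Az * Bz) := funext fun k => by
    rcases eq_or_ne k z with rfl | hk
    · rw [Function.update_self, hC']
    · rw [Function.update_of_ne hk, (hoff k hk).1]
  have e2 : D' = Function.update (fun k => nm f (w k)) z (Bz * Az) := funext fun k => by
    rcases eq_or_ne k z with rfl | hk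
    · rw [Function.update_self, hD']
    · rw [Function.update_of_ne hk, (hoff k hk).2]
  rwa [← e1, ← e2]

/-- A non-scalar operator in one factor beside factors of the first type gives one of the second type. -/
theorem pat_NL_of_open (h2 : (2 : F) ≠ 0) (hm : 2 ≤ m) (hn : Even n) (hX : Ks f n ≤ X) (hI : X ≤ Iso f n) {z x : Fin n}
    (hxz : x ≠ z) {u : Fin n → Fin m → F} (hu : ∀ k, u k ≠ 0) {Z : Mm} (hZ : ∀ r : F, Z ≠ r • 1)
    (h : El X (pureM (Function.update (fun k => nm f (u k)) z Z))) :
    Pat f X (Function.update (fun _ => Ty.N) z Ty.L) := by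
  classical
  have hsq : ∀ (a b : F) (Y Y' : Mm), pureM (Function.update (Function.update (fun k => nm f (u k)) x (nm f (a • u x))) z Y) *
      pureM (Function.update (Function.update (fun k => nm f (u k)) x (nm f (b • u x))) z Y') = 0 := fun a b Y Y' => by
    rw [pureM_mul]
    refine pureM_eq_zero x ?_
    simp only [Function.update_of_ne hxz, Function.update_self, nm_smul_vec S, Matrix.smul_mul, Matrix.mul_smul, nm_sq S,
      smul_zero]
  have hbase : ∀ Y, Function.update (Function.update (fun k => nm f (u k)) x (nm f ((1 : F) • u x))) z Y =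
      Function.update (fun k => nm f (u k)) z Y := fun Y => by
    rw [one_smul, show Function.update (fun k => nm f (u k)) x (nm f (u x)) = fun k => nm f (u k) from
      Function.update_eq_self x _]
  let T : Submodule F Mm :=
    { carrier := {Y | El X (pureM (Function.update (fun k => nm f (u k)) z Y))}
      add_mem' := fun {Y Y'} hY hY' => by
        show El X _
        rw [pureM_update_add]
        exact El.add hY hY' (by rw [← hbase Y, ← hbase Y']; exact hsq 1 1 Y Y')
      zero_mem' := by
        show El X _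
        rw [pureM_eq_zero z (Function.update_self _ _ _)]
        exact El.zero
      smul_mem' := fun c Y hY => by
        show El X _
        have sq : ∀ a : F, El X (pureM (Function.update (fun k => nm f (u k)) z ((a * a) • Y))) := fun a => by
          rcases eq_or_ne a 0 with rfl | ha
          · rw [mul_zero, zero_smul, pureM_eq_zero z (Function.update_self _ _ _)]
            exact El.zero
          obtain ⟨b, hb, e⟩ := re_move S (a := Ty.N) (A := nm f (u x)) (A' := nm f (a • u x)) ⟨u x, hu x, rfl⟩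
            ⟨a • u x, smul_ne_zero ha (hu x), rfl⟩
          have := El.conj hY (hX (facGL_mem_ks x hb))
          rw [facM_conj', Function.update_of_ne hxz, e, nm_smul_vec S, pureM_update_smul, ← pureM_update_smul] at this
          convert this using 1
          rw [pureM_update_smul, pureM_update_smul]
          congr 2
          funext k
          rcases eq_or_ne k x with rfl | hk
          · rw [Function.update_self, Function.update_of_ne hxz]
          · rw [Function.update_of_ne hk]
        obtain ⟨a, b, hab⟩ := exists_sq_sum h2 c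
        have := El.add (sq a) (sq b) (by rw [← hbase ((a * a) • Y), ← hbase ((b * b) • Y)]; exact hsq 1 1 _ _)
        rwa [← pureM_update_add, ← add_smul, hab] at this }
  let e : (Fin 0 → Fin m) × Fin m ≃ Fin m :=
    ⟨Prod.snd, fun a => (default, a), fun p => Prod.ext (Subsingleton.elim _ _) rfl, fun _ => rfl⟩
  let R := Matrix.reindexAlgEquiv F F e
  have hR : ∀ (B : Matrix (Fin 0 → Fin m) (Fin 0 → Fin m) F) (Y : Mm), R (B ⊗ₖ Y) = B default default • Y := fun B Y => by
    ext a b
    simp [R, e, Matrix.reindexAlgEquiv_apply]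
  have hcases := slot_cases S (data S 0) h2 hm (T.comap R.toLinearMap) (fun b hb M hM => by
    show R (_ * M * _) ∈ T
    have hk : ∀ c : GL (Fin m) F, R (kr (1 : GL (Fin 0 → Fin m) F) c : Matrix _ _ F) = (c : Mm) := fun c => by
      rw [kr_val, hR, Units.val_one, Matrix.one_apply_eq, one_smul]
    rw [map_mul, map_mul, TensorMax.kr_inv, inv_one, hk, hk]
    have := El.conj (hM : El X _) (hX (facGL_mem_ks z hb))
    rw [facM_conj', Function.update_self, Function.update_idem] at this
    exact this) (M := R.symm Z) (show R (R.symm Z) ∈ T by rw [AlgEquiv.apply_symm_apply]; exact h)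
  have hB : ∀ {B : Matrix (Fin 0 → Fin m) (Fin 0 → Fin m) F}, B ≠ 0 → B default default ≠ 0 := fun {B} hB e => hB (by
    ext i j; rw [Subsingleton.elim i default, Subsingleton.elim j default, e, Matrix.zero_apply])
  rcases hcases with ⟨B, v, hB0, hv, hBv⟩ | ⟨B, v, v', hB0, hv, hv', hvv, hBv⟩ | ⟨B, hBZ⟩
  · exfalso
    have h1 : El X ((1 : F) • pureM (Function.update (fun k => nm f (u k)) z (nm f v))) := by
      have := T.smul_mem (B default default)⁻¹ (show R (B ⊗ₖ nm f v) ∈ T from hBv)
      rw [hR, smul_smul, inv_mul_cancel₀ (hB hB0), one_smul] at this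
      rw [one_smul]
      exact this
    have := parity S (by omega) hI (τ := fun _ => Ty.N) (fun k => by
      rcases eq_or_ne k z with rfl | hk
      · rw [Function.update_self]; exact ⟨v, hv, rfl⟩
      · rw [Function.update_of_ne hk]; exact ⟨u k, hu k, rfl⟩) (x := x) (by decide) one_ne_zero h1
    simp only [sg, Finset.prod_const, Finset.card_univ, Fintype.card_fin, hn.neg_one_pow] at this
    exact h2 (by linear_combination this)
  · have h1 : El X ((1 : F) • pureM (Function.update (fun k => nm f (u k)) z (lam f v v'))) := by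
      have := T.smul_mem (B default default)⁻¹ (show R (B ⊗ₖ lam f v v') ∈ T from hBv)
      rw [hR, smul_smul, inv_mul_cancel₀ (hB hB0), one_smul] at this
      rw [one_smul]
      exact this
    refine pat_of_one S h2 hX (x := x) (Function.update_of_ne hxz _ _) (fun k => ?_) one_ne_zero h1
    rcases eq_or_ne k z with rfl | hk
    · rw [Function.update_self, Function.update_self]; exact ⟨v, v', hv, hv', hvv, rfl⟩
    · rw [Function.update_of_ne hk, Function.update_of_ne hk]; exact ⟨u k, hu k, rfl⟩
  · exfalso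
    refine hZ (B default default) ?_
    have := congrArg R hBZ
    rwa [AlgEquiv.apply_symm_apply, hR] at this

end Cfsg.Agent.Classical.TensorPowerMax.Symplectic
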