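/-
Elementary elements of an even tensor power: reduction to one factor of the second or third kind.
-/
import Cfsg.Agent.Lib.Classical.STPow.OStep

set_option autoImplicit false
set_option linter.unusedSectionVars false

namespace Cfsg.Agent.Classical.TensorPowerMax.Symplectic

open Matrix Cfsg.Geo
open Cfsg.Agent.Classical
open Cfsg.Agent.Classical.TensorPowerMax
open Cfsg.Agent.Classical.TensorPowerMax.Unitary (fl nm)
open Cfsg.Agent.Classical.TensorMax.Form (SForm)

variable {F : Type*} [Field F] [Fintype F] {m n : ℕ} {f : (Fin m → F) → (Fin m → F) → F}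

local notation "Mm" => Matrix (Fin m) (Fin m) F

variable (S : SForm f) {X : Subgroup (GL (Fin n → Fin m) F)}

include S

theorem real_N (hm : 0 < m) {υ : Fin n → Ty} (h : ∀ k, υ k ≠ Ty.L) : Real' f υ := fun k => by
  cases e : υ k with
  | N => exact ⟨_, Pi.single ⟨0, hm⟩ 1, by simp, rfl⟩
  | L => exact absurd e (h k)
  | O => exact ⟨1, rfl⟩

/-- Operators with two different rank one parts are not scalar. -/
theorem comb_ne_scalar (h4 : 4 ≤ m) {a b : Fin m → F} (hab : b ∉ Submodule.span F {a}) (ha : a ≠ 0) (hb : b ≠ 0) {α β : F}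
    (hα : α ≠ 0) (hβ : β ≠ 0) (r : F) :
    α • vecMulVec a (fl f b) + β • vecMulVec b (fl f a) ≠ r • (1 : Mm) := by
  intro e
  have hv : ∀ x, α • (f x b • a) + β • (f x a • b) = r • x := fun x => by
    have := congrArg (fun M => M *ᵥ x) e
    simpa only [Matrix.add_mulVec, Matrix.smul_mulVec, Matrix.one_mulVec, Matrix.vecMulVec_mulVec, fl_dot S,
      op_smul_eq_smul] using this
  obtain ⟨x₀, hx₀, h0⟩ : ∃ x, x ∈ S.refl.perp (Submodule.span F {a} ⊔ Submodule.span F {b}) ∧ x ≠ 0 := by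
    by_contra hcon
    push Not at hcon
    have hle : S.refl.perp (Submodule.span F {a} ⊔ Submodule.span F {b}) = ⊥ := (Submodule.eq_bot_iff _).2 hcon
    have h1 := S.refl.finrank_perp (Submodule.span F {a} ⊔ Submodule.span F {b})
    have h2 := Submodule.finrank_add_le_finrank_add_finrank (Submodule.span F {a}) (Submodule.span F {b})
    have h3 : Module.finrank F (Submodule.span F {a}) ≤ 1 := le_trans (finrank_span_le_card (R := F) {a}) (by simp)
    have h5 : Module.finrank F (Submodule.span F {b}) ≤ 1 := le_trans (finrank_span_le_card (R := F) {b}) (by simp)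
    rw [hle, finrank_bot, Fintype.card_fin] at h1
    omega
  have hr : r = 0 := by
    have e0 := hv x₀
    rw [hx₀ b (Submodule.mem_sup_right (Submodule.mem_span_singleton_self b)),
      hx₀ a (Submodule.mem_sup_left (Submodule.mem_span_singleton_self a))] at e0
    simp only [zero_smul, smul_zero, add_zero] at e0
    exact (smul_eq_zero.1 e0.symm).resolve_right h0
  obtain ⟨x, hx⟩ := (S.refl.nondeg b hb).1
  have e1 := hv x
  rw [hr, zero_smul, smul_smul, smul_smul] at e1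
  by_cases h : β * f x a = 0
  · rw [h, zero_smul, add_zero] at e1
    exact mul_ne_zero hα hx ((smul_eq_zero.1 e1).resolve_right ha)
  · refine hab (Submodule.mem_span_singleton.2 ⟨-(β * f x a)⁻¹ * (α * f x b), ?_⟩)
    have e3 : (β * f x a) • b = -((α * f x b) • a) := eq_neg_of_add_eq_zero_right e1
    rw [← smul_smul, neg_smul, ← smul_neg, ← e3, smul_smul, inv_mul_cancel₀ h, one_smul]

/-- One swap removes the second kind. -/
theorem swap_one (h2 : (2 : F) ≠ 0) (hm : 0 < m) (hX : Ks f n ≤ X) (hperm : ∀ σ, factorPermGL m F σ ∈ X)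
    {τ : Fin n → Ty} (hp : Pat f X τ) (hr : Real' f τ) {x r : Fin n} (hx : τ x = Ty.N) (hrN : τ r ≠ Ty.N)
    (hE : (∏ l, if τ l ≠ Ty.O then (-1 : F) else 1) = (if τ r = Ty.O then 1 else -1)) :
    ∃ υ : Fin n → Ty, Pat f X υ ∧ (∀ k, υ k ≠ Ty.L) ∧ ∀ k, τ k ≠ Ty.O → υ k = Ty.N := by
  classical
  choose A hA using hr
  obtain ⟨E, hEd⟩ : ∃ E, E = fun l => if τ l ≠ Ty.O then (-1 : F) else 1 := ⟨_, rfl⟩
  replace hE : (∏ l, E l) = (if τ r = Ty.O then 1 else -1) := hEd ▸ hE
  have hxr : x ≠ r := fun e => hrN (e ▸ hx)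
  have hother : ∀ l, l ≠ x → l ≠ r → Equiv.swap x r l = l := fun l h h' => Equiv.swap_apply_of_ne_of_ne h h'
  have hstep := step S h2 hm hX hp (hp.perm S hperm (Equiv.swap x r)) (fun l => ⟨A l, hA l⟩)
    (fun l => ⟨A (Equiv.swap x r l), hA _⟩) hx (r := r) (by rw [Equiv.swap_apply_left]; exact hrN)
    (by rw [Equiv.swap_apply_right]; exact hx) hrN (fun l hl => ?_) (fun l hl => ?_) ?_
  · exact ⟨_, hstep, fun k => by split_ifs <;> simp, fun k hk => if_neg fun h => hk h.1⟩
  · rcases eq_or_ne l r with rfl | h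
    · rw [Equiv.swap_apply_right, hx]; decide
    rcases eq_or_ne l x with rfl | h'
    · rw [hx] at hl; exact absurd hl (by decide)
    · rw [hother l h' h, hl]; decide
  · rcases eq_or_ne l x with rfl | h'
    · rw [hx]; decide
    rcases eq_or_ne l r with rfl | h
    · rw [Equiv.swap_apply_right, hx] at hl; exact absurd hl (by decide)
    · rw [hother l h' h] at hl; rw [hl]; decide
  · have hsame : ∀ l ∈ (Finset.univ.erase x).erase r,
        (if l ≠ x ∧ τ l ≠ Ty.O ∧ τ (Equiv.swap x r l) ≠ Ty.O then -(sg F (τ l) * sg F (τ (Equiv.swap x r l))) else 1) =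
          E l := fun l hl => by
      simp only [Finset.mem_erase] at hl
      rw [hother l hl.2.1 hl.1, hEd]
      cases h : τ l <;> simp [sg, h, hl.2.1]
    rw [split_two _ hxr, Finset.prod_congr rfl hsame]
    rw [split_two E hxr] at hE
    simp only [hEd, hx] at hE ⊢
    simp only [Equiv.swap_apply_right, hx, ne_eq, not_true_eq_false, false_and, if_false, one_mul, hxr.symm,
      not_false_eq_true, true_and, reduceCtorEq, and_true, if_true] at hE ⊢
    cases h : τ r with
    | N => exact absurd h hrN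
    | L => simp [sg, h] at hE ⊢; linear_combination hE
    | O => simp [sg, h] at hE ⊢; linear_combination -hE

/-- Two swaps remove two factors of the third kind. -/
theorem swap_two (h2 : (2 : F) ≠ 0) (hm : 0 < m) (hX : Ks f n ≤ X) (hperm : ∀ σ, factorPermGL m F σ ∈ X)
    (hI : X ≤ Iso f n) {τ : Fin n → Ty} (hp : Pat f X τ) (hL : ∀ k, τ k ≠ Ty.L) {x x' r r' : Fin n}
    (hx : τ x = Ty.N) (hx' : τ x' = Ty.N) (hxx' : x' ≠ x) (hrO : τ r = Ty.O) (hr'O : τ r' = Ty.O) (hrr' : r' ≠ r) :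
    ∃ υ : Fin n → Ty, Pat f X υ ∧ (∀ k, υ k ≠ Ty.L) ∧ (∀ k, τ k ≠ Ty.O → υ k = Ty.N) ∧ υ r = Ty.N := by
  classical
  choose A hA using real_N S hm hL
  have hpar : ∏ l, sg F (τ l) = -1 := parity S hm hI hA (x := x) (by rw [hx]; decide) one_ne_zero (hp A hA 1)
  have d1 : x ≠ r := fun e => by rw [e, hrO] at hx; cases hx
  have d2 : x ≠ r' := fun e => by rw [e, hr'O] at hx; cases hx
  have d3 : x' ≠ r := fun e => by rw [e, hrO] at hx'; cases hx'
  have d4 : x' ≠ r' := fun e => by rw [e, hr'O] at hx'; cases hx'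
  obtain ⟨σ, hσ⟩ : ∃ σ, σ = Equiv.swap x r * Equiv.swap x' r' := ⟨_, rfl⟩
  have s1 : σ x = r := by
    rw [hσ, Equiv.Perm.mul_apply, Equiv.swap_apply_of_ne_of_ne hxx'.symm d2, Equiv.swap_apply_left]
  have s2 : σ r = x := by
    rw [hσ, Equiv.Perm.mul_apply, Equiv.swap_apply_of_ne_of_ne d3.symm hrr'.symm, Equiv.swap_apply_right]
  have s3 : σ x' = r' := by
    rw [hσ, Equiv.Perm.mul_apply, Equiv.swap_apply_left, Equiv.swap_apply_of_ne_of_ne d2.symm hrr']
  have s4 : σ r' = x' := by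
    rw [hσ, Equiv.Perm.mul_apply, Equiv.swap_apply_right, Equiv.swap_apply_of_ne_of_ne hxx' d3]
  have s5 : ∀ l, l ≠ x → l ≠ r → l ≠ x' → l ≠ r' → σ l = l := fun l h1 h2 h3 h4 => by
    rw [hσ, Equiv.Perm.mul_apply, Equiv.swap_apply_of_ne_of_ne h3 h4, Equiv.swap_apply_of_ne_of_ne h1 h2]
  have hstep := step S h2 hm hX hp (hp.perm S hperm σ) (fun l => ⟨A l, hA l⟩) (fun l => ⟨A (σ l), hA _⟩) hx (r := r)
    (by rw [s1, hrO]; decide) (by rw [s2]; exact hx) (by rw [hrO]; decide) (fun l _ => hL _) (fun l _ => hL _) ?_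
  · exact ⟨_, hstep, fun k => by split_ifs <;> simp, fun k hk => if_neg fun h => hk h.1,
      if_neg fun h => by rw [s2, hx] at h; exact absurd h.2 (by decide)⟩
  have hsplit : ∀ g : Fin n → F, ∏ l, g l = g x * g r * (g x' * g r' *
      ∏ l ∈ (((Finset.univ.erase x).erase r).erase x').erase r', g l) := fun g => by
    rw [split_two g d1, ← Finset.mul_prod_erase _ g (Finset.mem_erase.2 ⟨d3, Finset.mem_erase.2 ⟨hxx', Finset.mem_univ _⟩⟩),
      ← Finset.mul_prod_erase _ g (Finset.mem_erase.2 ⟨d4.symm, Finset.mem_erase.2 ⟨hrr', Finset.mem_erase.2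
        ⟨d2.symm, Finset.mem_univ _⟩⟩⟩), ← mul_assoc (g x')]
  have e := hsplit fun l => sg F (τ l)
  rw [hpar, hx, hx', hrO, hr'O] at e
  have hrest : ∀ l ∈ (((Finset.univ.erase x).erase r).erase x').erase r',
      (if l ≠ x ∧ τ l ≠ Ty.O ∧ τ (σ l) ≠ Ty.O then -(sg F (τ l) * sg F (τ (σ l))) else 1) = sg F (τ l) := fun l hl => by
    simp only [Finset.mem_erase] at hl
    rw [s5 l hl.2.2.2.1 hl.2.2.1 hl.2.1 hl.1]
    cases h : τ l with
    | N => simp [sg, hl.2.2.2.1]
    | L => exact absurd h (hL l)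
    | O => simp [sg]
  rw [hsplit, Finset.prod_congr rfl hrest, s1, s2, s3, s4, hx, hx', hrO, hr'O]
  simp [sg] at e ⊢
  linear_combination -e

/-- Without the second kind one reaches a single factor of the third kind. -/
theorem pat_NO (h2 : (2 : F) ≠ 0) (hm : 0 < m) (hn : Even n) (hX : Ks f n ≤ X) (hperm : ∀ σ, factorPermGL m F σ ∈ X)
    (hI : X ≤ Iso f n) : ∀ τ : Fin n → Ty, Pat f X τ → (∀ k, τ k ≠ Ty.L) →
      (∃ a b, a ≠ b ∧ τ a ≠ Ty.O ∧ τ b ≠ Ty.O) → ∃ z, Pat f X (Function.update (fun _ => Ty.N) z Ty.O) := by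
  classical
  suffices key : ∀ (j : ℕ) (τ : Fin n → Ty), (Finset.univ.filter fun l => τ l = Ty.O).card ≤ j → Pat f X τ →
      (∀ k, τ k ≠ Ty.L) → (∃ a b, a ≠ b ∧ τ a ≠ Ty.O ∧ τ b ≠ Ty.O) →
        ∃ z, Pat f X (Function.update (fun _ => Ty.N) z Ty.O) from fun τ => key _ τ le_rfl
  intro j
  induction j with
  | zero =>
    intro τ hc hp hL ⟨a, b, _, ha, _⟩
    exfalso
    have hall : τ = fun _ => Ty.N := funext fun l => by
      cases h : τ l with
      | N => rfl
      | L => exact absurd h (hL l)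
      | O => exact absurd (Nat.le_zero.1 hc) (Finset.card_pos.2 ⟨l, by simpa using h⟩).ne'
    choose A hA using real_N S hm hL
    have := parity S hm hI hA (x := a) ha one_ne_zero (hp A hA 1)
    rw [hall] at this
    simp only [sg, Finset.prod_const, Finset.card_univ, Fintype.card_fin, hn.neg_one_pow] at this
    exact h2 (by linear_combination this)
  | succ j ih =>
    intro τ hc hp hL ⟨a, b, hab, ha, hb⟩
    have hN : ∀ l, τ l ≠ Ty.O → τ l = Ty.N := fun l h => by
      cases h' : τ l with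
      | N => rfl
      | L => exact absurd h' (hL l)
      | O => exact absurd h' h
    by_cases hO : ∃ r r', r' ≠ r ∧ τ r = Ty.O ∧ τ r' = Ty.O
    · obtain ⟨r, r', hrr', hr, hr'⟩ := hO
      obtain ⟨υ, hυ, hυL, hυN, hυr⟩ := swap_two S h2 hm hX hperm hI hp hL (hN a ha) (hN b hb) hab.symm hr hr' hrr'
      refine ih υ ?_ hυ hυL ⟨a, b, hab, by rw [hυN a ha]; decide, by rw [hυN b hb]; decide⟩
      have : (Finset.univ.filter fun l => υ l = Ty.O).card < (Finset.univ.filter fun l => τ l = Ty.O).card := by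
        refine Finset.card_lt_card (Finset.ssubset_iff_of_subset (fun l hl => ?_) |>.2 ⟨r, by simpa using hr, by simp [hυr]⟩)
        simp only [Finset.mem_filter, Finset.mem_univ, true_and] at hl ⊢
        by_contra h
        rw [hυN l h] at hl
        cases hl
      omega
    · push Not at hO
      by_cases h1 : ∃ r, τ r = Ty.O
      · obtain ⟨r, hr⟩ := h1
        refine ⟨r, ?_⟩
        convert hp using 1
        funext l
        rcases eq_or_ne l r with rfl | hl
        · rw [Function.update_self, hr]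
        · rw [Function.update_of_ne hl, hN l (hO r l hl hr)]
      · push Not at h1
        refine ih τ ?_ hp hL ⟨a, b, hab, ha, hb⟩
        rw [Finset.filter_false_of_mem fun l _ => h1 l]
        simp

/-- From a single factor of the third kind to one of the second kind. -/
theorem pat_NL_of_NO (h2 : (2 : F) ≠ 0) (h4 : 4 ≤ m) (hn : Even n) (h3 : 3 ≤ n) (hX : Ks f n ≤ X)
    (hperm : ∀ σ, factorPermGL m F σ ∈ X) (hI : X ≤ Iso f n) {r : Fin n}
    (hp : Pat f X (Function.update (fun _ => Ty.N) r Ty.O)) :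
    ∃ z, Pat f X (Function.update (fun _ => Ty.N) z Ty.L) := by
  classical
  obtain ⟨x, hxr⟩ : ∃ x, x ≠ r := by
    haveI : Nontrivial (Fin n) := Fin.nontrivial_iff_two_le.2 (by omega)
    exact exists_ne r
  obtain ⟨z, hzr, hzx⟩ : ∃ z, z ≠ r ∧ z ≠ x := by
    by_contra hcon
    push Not at hcon
    have : (Finset.univ : Finset (Fin n)) ⊆ {r, x} := fun z _ => by
      by_cases h : z = r
      · simp [h]
      · simp [hcon z h]
    have := (Finset.card_le_card this).trans Finset.card_le_two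
    rw [Finset.card_univ, Fintype.card_fin] at this
    omega
  obtain ⟨τ, hτ⟩ : ∃ τ : Fin n → Ty, τ = Function.update (fun _ => Ty.N) r Ty.O := ⟨_, rfl⟩
  rw [← hτ] at hp
  have hN : ∀ l, l ≠ r → τ l = Ty.N := fun l h => by rw [hτ, Function.update_of_ne h]
  have hrO : τ r = Ty.O := by rw [hτ, Function.update_self]
  have hLn : ∀ l, τ l ≠ Ty.L := fun l => by
    rcases eq_or_ne l r with rfl | h
    · rw [hrO]; decide
    · rw [hN l h]; decide
  obtain ⟨σ, hσ⟩ : ∃ σ, σ = Equiv.swap x r := ⟨_, rfl⟩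
  have hσz : σ z = z := by rw [hσ, Equiv.swap_apply_of_ne_of_ne hzx hzr]
  obtain ⟨p, hp0⟩ : ∃ p : Fin m → F, p ≠ 0 := ⟨Pi.single ⟨0, by omega⟩ 1, by simp⟩
  obtain ⟨q, hq, hq'⟩ := exists_partner S hp0
  have hq0 : q ≠ 0 := fun e => one_ne_zero (hq.symm.trans (by rw [e, S.refl.zero_left]))
  have hAB : nm f p * nm f q = f q p • vecMulVec p (fl f q) := by
    rw [nm, nm, Matrix.vecMulVec_mul_vecMulVec, fl_dot S, Matrix.vecMulVec_smul]
  have hBA : nm f q * nm f p = f p q • vecMulVec q (fl f p) := by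
    rw [nm, nm, Matrix.vecMulVec_mul_vecMulVec, fl_dot S, Matrix.vecMulVec_smul]
  have k1 : ∀ l, τ l = Ty.O → τ (σ l) = Ty.N := fun l hl => by
    have : l = r := by_contra fun h => by rw [hN l h] at hl; cases hl
    rw [this, hσ, Equiv.swap_apply_right, hN x hxr]
  have k2 : ∀ l, τ (σ l) = Ty.O → τ l = Ty.N := fun l hl => by
    refine hN l fun e => ?_
    rw [e, hσ, Equiv.swap_apply_right, hN x hxr] at hl
    cases hl
  obtain ⟨u, α, β, hu, hα, hβ, hE⟩ := step_open S h2 (by omega) hX hp (hp.perm S hperm σ) (real_N S (by omega) hLn)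
    (real_N S (by omega) fun l => hLn _) (x := x) (r := r) (y := r) (z := z) (hN x hxr)
    (by rw [hσ, Equiv.swap_apply_left, hrO]; decide) (by rw [hσ, Equiv.swap_apply_right]; exact hN x hxr)
    (by rw [hrO]; decide) k1 k2 hzx hxr.symm hzr.symm (Az := nm f p) (Bz := nm f q)
    (by rw [hN z hzr]; exact ⟨p, hp0, rfl⟩) (by rw [hσz, hN z hzr]; exact ⟨q, hq0, rfl⟩)
  refine ⟨z, pat_NL_of_open S h2 (by omega) hn hX hI hzx.symm hu (fun c => ?_) hE⟩
  rw [hAB, hBA, hq, hq', smul_smul, smul_smul]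
  refine comb_ne_scalar S h4 (fun e => ?_) hp0 hq0 (mul_ne_zero hα one_ne_zero) (mul_ne_zero hβ (by simp)) c
  obtain ⟨d, hd⟩ := Submodule.mem_span_singleton.1 e
  rw [← hd, S.refl.semi.smul_left, S.alt, mul_zero] at hq
  exact zero_ne_one hq

/-- Factors of dimension four: one factor of the second kind. -/
theorem pat_NL (h2 : (2 : F) ≠ 0) (h4 : 4 ≤ m) (hn : Even n) (hX : Ks f n ≤ X)
    (hperm : 3 ≤ n → ∀ σ, factorPermGL m F σ ∈ X) (hI : X ≤ Iso f n) {τ : Fin n → Ty} (hp : Pat f X τ)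
    (hreal : Real' f τ) (hne : ∃ a b, a ≠ b ∧ τ a ≠ Ty.O ∧ τ b ≠ Ty.O) {x : Fin n} (hx : τ x = Ty.N) :
    ∃ z, Pat f X (Function.update (fun _ => Ty.N) z Ty.L) := by
  classical
  obtain ⟨a, b, hab, ha, hb⟩ := hne
  by_cases hdone : ∃ z, τ = Function.update (fun _ => Ty.N) z Ty.L
  · obtain ⟨z, rfl⟩ := hdone; exact ⟨z, hp⟩
  choose A hA using hreal
  have hpar : ∏ l, sg F (τ l) = -1 := parity S (by omega) hI hA (x := a) ha one_ne_zero (hp A hA 1)
  obtain ⟨r, hr⟩ : ∃ r, τ r ≠ Ty.N := by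
    by_contra hcon
    push Not at hcon
    rw [Finset.prod_congr rfl fun l _ => show sg F (τ l) = -1 by rw [hcon l]; rfl, Finset.prod_const,
      Finset.card_univ, Fintype.card_fin, hn.neg_one_pow] at hpar
    exact h2 (by linear_combination hpar)
  -- noL
  have noL : ∀ υ : Fin n → Ty, Pat f X υ → (∀ k, υ k ≠ Ty.L) → (∃ a b, a ≠ b ∧ υ a ≠ Ty.O ∧ υ b ≠ Ty.O) → 3 ≤ n →
      ∃ z, Pat f X (Function.update (fun _ => Ty.N) z Ty.L) := fun υ hυ hL hne h3 => by
    obtain ⟨z, hz⟩ := pat_NO S h2 (by omega) hn hX (hperm h3) hI υ hυ hL hne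
    exact pat_NL_of_NO S h2 h4 hn h3 hX (hperm h3) hI hz
  by_cases hall : ∀ l, τ l ≠ Ty.L
  · refine noL τ hp hall ⟨a, b, hab, ha, hb⟩ ?_
    have hrO : τ r = Ty.O := by
      cases h : τ r with
      | N => exact absurd h hr
      | L => exact absurd h (hall r)
      | O => rfl
    by_contra h3
    have h := r.isLt
    have := a.isLt
    have := b.isLt
    have e : r = a ∨ r = b := by
      have : a.val ≠ b.val := fun e => hab (Fin.ext e)
      rcases (show r.val = a.val ∨ r.val = b.val by omega) with e | e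
      · exact Or.inl (Fin.ext e)
      · exact Or.inr (Fin.ext e)
    rcases e with rfl | rfl
    · exact ha hrO
    · exact hb hrO
  push Not at hall
  obtain ⟨l, hl⟩ := hall
  have hxl : x ≠ l := fun e => by rw [e, hl] at hx; cases hx
  -- a further factor which is not of the first kind
  obtain ⟨y, hyl, hy⟩ : ∃ y, y ≠ l ∧ τ y ≠ Ty.N := by
    by_contra hcon
    push Not at hcon
    refine hdone ⟨l, funext fun k => ?_⟩
    rcases eq_or_ne k l with rfl | hk
    · rw [Function.update_self, hl]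
    · rw [Function.update_of_ne hk, hcon k hk]
  have hyx : y ≠ x := fun e => hy (e ▸ hx)
  have h3 : 3 ≤ n := by
    have : ({x, l, y} : Finset (Fin n)).card = 3 := Finset.card_eq_three.2 ⟨x, l, y, hxl, hyx.symm, hyl.symm, rfl⟩
    have := this ▸ Finset.card_le_univ ({x, l, y} : Finset (Fin n))
    rwa [Fintype.card_fin] at this
  have hswap : ∀ r, τ r ≠ Ty.N → (∏ k, if τ k ≠ Ty.O then (-1 : F) else 1) = (if τ r = Ty.O then 1 else -1) →
      ∃ z, Pat f X (Function.update (fun _ => Ty.N) z Ty.L) := fun r hr hE => by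
    obtain ⟨υ, hυ, hυL, hυN⟩ := swap_one S h2 (by omega) hX (hperm h3) hp (fun k => ⟨A k, hA k⟩) hx hr hE
    exact noL υ hυ hυL ⟨a, b, hab, by rw [hυN a ha]; decide, by rw [hυN b hb]; decide⟩ h3
  by_cases hO : ∃ r, τ r = Ty.O
  · obtain ⟨r, hrO⟩ := hO
    rcases Finset.prod_induction (s := Finset.univ) (fun k => if τ k ≠ Ty.O then (-1 : F) else 1)
        (fun z : F => z = 1 ∨ z = -1) (by rintro _ _ (rfl | rfl) (rfl | rfl) <;> simp) (Or.inl rfl)
        (fun k _ => by split_ifs <;> simp) with h | h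
    · exact hswap r (by rw [hrO]; decide) (by rw [h]; simp [hrO])
    · exact hswap l (by rw [hl]; decide) (by rw [h]; simp [hl])
  push Not at hO
  obtain ⟨σ, hσ⟩ : ∃ σ, σ = Equiv.swap x l := ⟨_, rfl⟩
  obtain ⟨v, w, hv, hw, hvw⟩ : ∃ v w : Fin m → F, v ≠ 0 ∧ w ∉ Submodule.span F {v} ∧ f v w = 0 := by
    have := hA l
    rw [hl] at this
    obtain ⟨v, w, hv, hw, hvw, -⟩ := this
    exact ⟨v, w, hv, hw, hvw⟩
  obtain ⟨g, hg1, hg2⟩ : ∃ g, f g v = 1 ∧ f g w = 0 := by
    obtain ⟨d, hd, hvd, -⟩ := TensorMax.Form.exists_avoid S (W := Submodule.span F {w}) (u := v) (v := v) (fun e => by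
      obtain ⟨c, hc⟩ := Submodule.mem_span_singleton.1 e
      have hc0 : c ≠ 0 := fun e0 => hv (by rw [← hc, e0, zero_smul])
      exact hw (Submodule.mem_span_singleton.2 ⟨c⁻¹, by rw [← hc, smul_smul, inv_mul_cancel₀ hc0, one_smul]⟩)) (fun e => by
      obtain ⟨c, hc⟩ := Submodule.mem_span_singleton.1 e
      have hc0 : c ≠ 0 := fun e0 => hv (by rw [← hc, e0, zero_smul])
      exact hw (Submodule.mem_span_singleton.2 ⟨c⁻¹, by rw [← hc, smul_smul, inv_mul_cancel₀ hc0, one_smul]⟩))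
    have hdv : f d v ≠ 0 := fun e => hvd (S.refl.eq_zero_swap e)
    exact ⟨(f d v)⁻¹ • d, by rw [S.refl.semi.smul_left, inv_mul_cancel₀ hdv],
      by rw [S.refl.semi.smul_left, hd w (Submodule.mem_span_singleton_self w), mul_zero]⟩
  have hg0 : g ≠ 0 := fun e => one_ne_zero (hg1.symm.trans (by rw [e, S.refl.zero_left]))
  have hw0 : w ≠ 0 := fun e => hw (e ▸ Submodule.zero_mem _)
  obtain ⟨u, α, β, hu, hα, hβ, hE⟩ := step_open S h2 (by omega) hX hp (hp.perm S (hperm h3) σ)
    (fun k => ⟨A k, hA k⟩) (fun k => ⟨A (σ k), hA _⟩) (x := x) (r := l) (y := y) (z := l) hx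
    (by rw [hσ, Equiv.swap_apply_left, hl]; decide) (by rw [hσ, Equiv.swap_apply_right]; exact hx)
    (by rw [hl]; decide) (fun k hk => absurd hk (hO k)) (fun k hk => absurd hk (hO _)) hxl.symm hyx hyl
    (Az := lam f v w) (Bz := nm f g) (by rw [hl]; exact ⟨v, w, hv, hw, hvw, rfl⟩)
    (by rw [hσ, Equiv.swap_apply_right, hx]; exact ⟨g, hg0, rfl⟩)
  refine ⟨l, pat_NL_of_open S h2 (by omega) hn hX hI hxl hu (fun c => ?_) hE⟩
  have hAg : lam f v w *ᵥ g = w := by rw [lam_mulVec S, hg1, hg2, one_smul, zero_smul, sub_zero]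
  have hAB : lam f v w * nm f g = vecMulVec w (fl f g) := by
    rw [nm, Matrix.mul_vecMulVec, hAg]
  have hBA : nm f g * lam f v w = vecMulVec g (fl f w) := Matrix.toLin'.injective (LinearMap.ext fun x => by
    rw [Matrix.toLin'_apply, Matrix.toLin'_apply, ← Matrix.mulVec_mulVec, nm_mulVec S, Matrix.vecMulVec_mulVec,
      fl_dot S, op_smul_eq_smul, re_adj S (a := Ty.L) ⟨v, w, hv, hw, hvw, rfl⟩, hAg]
    simp [sg])
  rw [hAB, hBA]
  refine comb_ne_scalar S h4 (fun e => ?_) hw0 hg0 hα hβ c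
  obtain ⟨d, hd⟩ := Submodule.mem_span_singleton.1 e
  rw [← hd, S.refl.semi.smul_left, S.refl.eq_zero_swap hvw, mul_zero] at hg1
  exact zero_ne_one hg1

end Cfsg.Agent.Classical.TensorPowerMax.Symplectic
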