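/-
Siegel elements with pure centres and pure parameters.
-/
import Cfsg.Agent.Lib.Classical.STPow.OParam
import Cfsg.Agent.Lib.Classical.STPow.OSwap

set_option autoImplicit false
set_option linter.unusedSectionVars false

namespace Cfsg.Agent.Classical.TensorPowerMax.Symplectic

open Matrix Cfsg.Geo
open Cfsg.Agent.Classical
open Cfsg.Agent.Classical.TensorPowerMax
open Cfsg.Agent.Classical.TensorPowerMax.Unitary (tp fl nm)
open Cfsg.Agent.Classical.TensorMax.Form (SForm)

variable {F : Type*} [Field F] [Fintype F] {m n : ℕ} {f : (Fin m → F) → (Fin m → F) → F}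
  {Q : QuadraticForm F ((Fin n → Fin m) → F)} {X : Subgroup (GL (Fin n → Fin m) F)}

local notation "Mm" => Matrix (Fin m) (Fin m) F

/-- A quadratic tensor power with a group of isometries. -/
structure PQ (f : (Fin m → F) → (Fin m → F) → F) (Q : QuadraticForm F ((Fin n → Fin m) → F))
    (X : Subgroup (GL (Fin n → Fin m) F)) : Prop where
  sf : SForm f
  q : QIso Q X
  pol : ∀ x y, QuadraticMap.polar (⇑Q) x y = tp (RingEquiv.refl F) f n x y
  pure : ∀ u : Fin n → Fin m → F, Q (pv u) = 0

/-- All Siegel elements with the given pure centre and a multiple of the given pure parameter. -/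
def PG (Q : QuadraticForm F ((Fin n → Fin m) → F)) (X : Subgroup (GL (Fin n → Fin m) F)) (p s : Fin n → Fin m → F) :
    Prop :=
  ∀ c : F, SP Q X (pv p) (c • pv s)

theorem pv_zero {u : Fin n → Fin m → F} {k : Fin n} (h : u k = 0) : pv u = 0 :=
  funext fun _ => Finset.prod_eq_zero (Finset.mem_univ k) (by rw [h, Pi.zero_apply])

theorem pv_update_add (u : Fin n → Fin m → F) (k : Fin n) (a b : Fin m → F) :
    pv (Function.update u k (a + b)) = pv (Function.update u k a) + pv (Function.update u k b) := by
  funext x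
  simp only [pv, Pi.add_apply]
  rw [← Finset.mul_prod_erase _ _ (Finset.mem_univ k), ← Finset.mul_prod_erase _ _ (Finset.mem_univ k),
    ← Finset.mul_prod_erase _ _ (Finset.mem_univ k), Function.update_self, Function.update_self, Function.update_self,
    Pi.add_apply, add_mul]
  have e : ∀ w : Fin m → F, (∏ l ∈ Finset.univ.erase k, Function.update u k w l (x l)) =
      ∏ l ∈ Finset.univ.erase k, u l (x l) := fun w => Finset.prod_congr rfl fun l hl => by
    rw [Function.update_of_ne (Finset.ne_of_mem_erase hl)]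
  rw [e, e, e]

theorem pv_update_smul (u : Fin n → Fin m → F) (k : Fin n) (c : F) (a : Fin m → F) :
    pv (Function.update u k (c • a)) = c • pv (Function.update u k a) := by
  funext x
  simp only [pv, Pi.smul_apply, smul_eq_mul]
  rw [← Finset.mul_prod_erase _ _ (Finset.mem_univ k), ← Finset.mul_prod_erase _ _ (Finset.mem_univ k),
    Function.update_self, Function.update_self, Pi.smul_apply, smul_eq_mul, mul_assoc]
  congr 2
  exact Finset.prod_congr rfl fun l hl => by
    rw [Function.update_of_ne (Finset.ne_of_mem_erase hl), Function.update_of_ne (Finset.ne_of_mem_erase hl)]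

/-- Proportional factors off one position. -/
theorem pv_prop {p s : Fin n → Fin m → F} {z : Fin n} (h : ∀ k, k ≠ z → s k ∈ Submodule.span F {p k}) :
    ∃ l : F, pv s = l • pv (Function.update p z (s z)) := by
  classical
  choose c hc using fun k : {k // k ≠ z} => Submodule.mem_span_singleton.1 (h k.1 k.2)
  refine ⟨∏ k, if hk : k = z then 1 else c ⟨k, hk⟩, funext fun x => ?_⟩
  simp only [pv, Pi.smul_apply, smul_eq_mul, ← Finset.prod_mul_distrib]
  refine Finset.prod_congr rfl fun k _ => ?_
  rcases eq_or_ne k z with rfl | hk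
  · rw [dif_pos rfl, Function.update_self, one_mul]
  · rw [dif_neg hk, Function.update_of_ne hk, ← hc ⟨k, hk⟩, Pi.smul_apply, smul_eq_mul]

theorem pureM_vmv (S : SForm f) (a b : Fin n → Fin m → F) :
    pureM (fun k => vecMulVec (a k) (fl f (b k))) = vecMulVec (pv a) (pv fun k => fl f (b k)) := by
  ext x y
  simp [pureM, vecMulVec_apply, pv, Finset.prod_mul_distrib]

variable (H : PQ f Q X)

include H

theorem PQ.polar_pv (a b : Fin n → Fin m → F) :
    QuadraticMap.polar (⇑Q) (pv a) (pv b) = ∏ k, f (a k) (b k) := by rw [H.pol, tp_pv_pv H.sf]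

theorem PQ.zero_at {a b : Fin n → Fin m → F} (k : Fin n) (h : f (a k) (b k) = 0) :
    QuadraticMap.polar (⇑Q) (pv a) (pv b) = 0 := by
  rw [H.polar_pv]; exact Finset.prod_eq_zero (Finset.mem_univ k) h

theorem pg_zero_left {p s : Fin n → Fin m → F} {k : Fin n} (h : p k = 0) : PG Q X p s := fun _ => by
  rw [pv_zero h]; exact sp_zero' H.q

theorem pg_zero_right {p s : Fin n → Fin m → F} {k : Fin n} (h : s k = 0) : PG Q X p s := fun _ => by
  rw [pv_zero h, smul_zero]; exact sp_zero H.q

theorem pg_congr {p s s' : Fin n → Fin m → F} {l : F} (e : pv s' = l • pv s) (h : PG Q X p s) : PG Q X p s' := fun c => by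
  rw [e, smul_smul]; exact h _

theorem pg_prop {p s : Fin n → Fin m → F} (h : ∀ k, s k ∈ Submodule.span F {p k}) : PG Q X p s := fun c => by
  classical
  by_cases hn : ∃ k : Fin n, True
  · obtain ⟨z, -⟩ := hn
    obtain ⟨l, hl⟩ := pv_prop (z := z) fun k _ => h k
    obtain ⟨d, hd⟩ := Submodule.mem_span_singleton.1 (h z)
    rw [hl, ← hd, pv_update_smul, Function.update_eq_self, smul_smul, smul_smul]
    exact sp_self H.q (H.pure p) _
  · rw [show s = p from funext fun k => absurd ⟨k, trivial⟩ hn]
    exact sp_self H.q (H.pure p) _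

/-- Chaining two pure parameters. -/
theorem pg_chain {p r r' s : Fin n → Fin m → F} {a b c d e : Fin n} (hpr : f (p a) (r a) = 0)
    (hrs' : f (r' b) (s b) = 0) (hpr' : f (p c) (r' c) = 0) (hps : f (p d) (s d) = 0) (hrs : f (r e) (s e) = 0)
    (hrr : ∀ k, f (r k) (r' k) ≠ 0) (h : PG Q X p r) (h' : PG Q X r' s) : PG Q X p s := by
  intro l
  obtain ⟨μ, hμ⟩ : ∃ μ, μ = (∏ k, f (r k) (r' k))⁻¹ := ⟨_, rfl⟩
  have h1 : SP Q X (pv p) (pv r) := by simpa using h 1
  have h2 : SP Q X (μ • pv r') (l • pv s) := sp_smul H.q (by rw [smul_smul]; exact h' _)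
  refine sp_chain H.q (H.pure p) (H.pure r) (by rw [QuadraticMap.map_smul, H.pure, smul_zero])
    (by rw [QuadraticMap.map_smul, H.pure, smul_zero]) (H.zero_at a hpr) ?_ ?_ ?_ ?_ ?_ h1 h2
  · rw [QuadraticMap.polar_smul_left, QuadraticMap.polar_smul_right, H.zero_at b hrs', smul_zero, smul_zero]
  · rw [QuadraticMap.polar_smul_right, H.zero_at c hpr', smul_zero]
  · rw [QuadraticMap.polar_smul_right, H.zero_at d hps, smul_zero]
  · rw [QuadraticMap.polar_smul_right, H.zero_at e hrs, smul_zero]
  · rw [QuadraticMap.polar_smul_right, H.polar_pv, smul_eq_mul, hμ,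
      inv_mul_cancel₀ (Finset.prod_ne_zero_iff.2 fun k _ => hrr k)]

/-- An elementary element of the second kind is a Siegel element. -/
theorem pg_of_el {p s : Fin n → Fin m → F} {z : Fin n} (hps : ∀ k, k ≠ z → s k = p k)
    (h : ∀ c : F, El X (c • pureM (Function.update (fun k => nm f (p k)) z (lam f (p z) (s z))))) : PG Q X p s := by
  classical
  have S := H.sf
  intro c
  obtain ⟨g, hg, eg⟩ := h c
  refine ⟨g, hg, fun x => ?_⟩
  have e : pureM (Function.update (fun k => nm f (p k)) z (lam f (p z) (s z))) =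
      vecMulVec (pv s) (pv fun k => fl f (p k)) - vecMulVec (pv p) (pv fun k => fl f (s k)) := by
    rw [lam, sub_eq_add_neg, ← neg_one_smul F (vecMulVec (p z) _), pureM_update_add, pureM_update_smul, neg_one_smul,
      ← sub_eq_add_neg, ← pureM_vmv S, ← pureM_vmv S]
    congr 1 <;>
    · congr 1
      funext k
      rcases eq_or_ne k z with rfl | hk
      · rw [Function.update_self]
      · rw [Function.update_of_ne hk, hps k hk]; rfl
  rw [eg, Matrix.add_mulVec, Matrix.one_mulVec, Matrix.smul_mulVec, e, Matrix.sub_mulVec, Matrix.vecMulVec_mulVec,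
    Matrix.vecMulVec_mulVec, op_smul_eq_smul, op_smul_eq_smul, ← tp_pv S, ← tp_pv S, ← H.pol, ← H.pol,
    QuadraticMap.map_smul, H.pure, QuadraticMap.polar_smul_left, QuadraticMap.polar_comm (⇑Q) x,
    QuadraticMap.polar_comm (⇑Q) x]
  simp only [smul_eq_mul, mul_zero, zero_mul, add_zero]
  module

omit H in
/-- In a plane the second kind is the third. -/
theorem lam_two (S : SForm f) (hm : m = 2) {u v : Fin m → F} (huv : f u v ≠ 0) :
    lam f u v = (-f u v) • (1 : Mm) := by
  refine Matrix.toLin'.injective (LinearMap.ext fun x => ?_)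
  rw [Matrix.toLin'_apply, Matrix.toLin'_apply, lam_mulVec S, Matrix.smul_mulVec, Matrix.one_mulVec]
  rw [← sub_eq_zero]
  obtain ⟨w, hw⟩ : ∃ w, w = f x u • v - f x v • u - (-f u v) • x := ⟨_, rfl⟩
  rw [← hw]
  have hu : u ≠ 0 := fun e => huv (by rw [e, S.refl.zero_left])
  have h1 : f w u = 0 := by
    rw [hw, S.sub_left, S.sub_left, S.refl.semi.smul_left, S.refl.semi.smul_left, S.refl.semi.smul_left, S.alt,
      S.swap u v]
    ring
  have h2 : f w v = 0 := by
    rw [hw, S.sub_left, S.sub_left, S.refl.semi.smul_left, S.refl.semi.smul_left, S.refl.semi.smul_left, S.alt]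
    ring
  obtain ⟨r, hr⟩ := Submodule.mem_span_singleton.1 (line_of_two S hm hu h1)
  rw [← hr, S.refl.semi.smul_left, mul_eq_zero, or_iff_left huv] at h2
  rw [← hr, h2, zero_smul]

/-- In a plane every two agreeing off one position. -/
theorem pg_base_two (hm : m = 2) {z : Fin n} (hp : Pat f X (Function.update (fun _ => Ty.N) z Ty.O))
    {p s : Fin n → Fin m → F} (hp0 : ∀ k, p k ≠ 0) (h : ∀ k, k ≠ z → f (p k) (s k) = 0) : PG Q X p s := by
  classical
  have S := H.sf
  have hspan : ∀ k, f (p k) (s k) = 0 → s k ∈ Submodule.span F {p k} := fun k h =>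
    line_of_two S hm (hp0 k) (S.refl.eq_zero_swap h)
  by_cases hz : f (p z) (s z) = 0
  · exact pg_prop H fun k => by
      rcases eq_or_ne k z with rfl | hk
      · exact hspan k hz
      · exact hspan k (h k hk)
  obtain ⟨l, hl⟩ := pv_prop (z := z) fun k hk => hspan k (h k hk)
  refine pg_congr H hl (pg_of_el H (z := z) (fun k hk => Function.update_of_ne hk _ _) fun c => ?_)
  rw [Function.update_self, lam_two S hm hz, pureM_update_smul, smul_smul]
  exact hp _ (fun k => by
    rcases eq_or_ne k z with rfl | hk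
    · rw [Function.update_self, Function.update_self]; rfl
    · rw [Function.update_of_ne hk, Function.update_of_ne hk]; exact ⟨p k, hp0 k, rfl⟩) _

/-- The base at one position. -/
def Near (f : (Fin m → F) → (Fin m → F) → F) (Q : QuadraticForm F ((Fin n → Fin m) → F))
    (X : Subgroup (GL (Fin n → Fin m) F)) (z : Fin n) : Prop :=
  ∀ p s : Fin n → Fin m → F, f (p z) (s z) = 0 → (∀ k, k ≠ z → s k ∈ Submodule.span F {p k}) → PG Q X p s

theorem near_of_pat {z : Fin n} (hp : Pat f X (Function.update (fun _ => Ty.N) z Ty.L)) : Near f Q X z := by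
  classical
  intro p s h h'
  by_cases h0 : ∃ k, p k = 0
  · obtain ⟨k, hk⟩ := h0; exact pg_zero_left H hk
  push Not at h0
  by_cases hz : s z ∈ Submodule.span F {p z}
  · exact pg_prop H fun k => by
      rcases eq_or_ne k z with rfl | hk
      · exact hz
      · exact h' k hk
  obtain ⟨l, hl⟩ := pv_prop h'
  refine pg_congr H hl (pg_of_el H (z := z) (fun k hk => Function.update_of_ne hk _ _) fun c => ?_)
  rw [Function.update_self]
  exact hp _ (fun k => by
    rcases eq_or_ne k z with rfl | hk
    · rw [Function.update_self, Function.update_self]; exact ⟨p k, s k, h0 k, hz, h, rfl⟩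
    · rw [Function.update_of_ne hk, Function.update_of_ne hk]; exact ⟨p k, h0 k, rfl⟩) _

/-- Pure parameters give all parameters. -/
theorem sp_all_of_pure (hm : 0 < m) (hpure : ∀ p s : Fin n → Fin m → F, ∀ k, f (p k) (s k) = 0 → PG Q X p s)
    {v y : (Fin n → Fin m) → F} (hv : Q v = 0) (hy : QuadraticMap.polar (⇑Q) v y = 0) : SP Q X v y := by
  classical
  have S := H.sf
  refine sp_all H.q (P := Set.range pv) (by rintro _ ⟨p, rfl⟩; exact H.pure p) (fun x hx => ?_) ?_ hv hy
  · refine H.q.pnd x fun z => ?_
    rw [QuadraticMap.polar_comm, pi_eq_sum_univ' z]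
    induction (Finset.univ : Finset (Fin n → Fin m)) using Finset.induction_on with
    | empty => rw [Finset.sum_empty]; exact QuadraticMap.polar_zero_left _ _
    | insert a T ha ih =>
      rw [Finset.sum_insert ha, QuadraticMap.polar_add_left, ih, add_zero, QuadraticMap.polar_smul_left,
        show (Pi.single a (1 : F) : (Fin n → Fin m) → F) = pv fun k => Pi.single (a k) 1 from ?_,
        hx _ ⟨_, rfl⟩, smul_zero]
      funext b
      by_cases h : b = a
      · subst h; simp [pv]
      · obtain ⟨k, hk⟩ := Function.ne_iff.1 h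
        rw [Pi.single_eq_of_ne h]
        exact (Finset.prod_eq_zero (Finset.mem_univ k) (Pi.single_eq_of_ne hk _)).symm
  rintro _ ⟨p, rfl⟩ y hy
  by_cases h0 : ∃ k, p k = 0
  · obtain ⟨k, hk⟩ := h0; rw [pv_zero hk]; exact sp_zero' H.q
  push Not at h0
  choose q hq hq' using fun k => exists_partner S (h0 k)
  obtain ⟨W, hW⟩ : ∃ W : Set ((Fin n → Fin m) → F),
      W = {y | QuadraticMap.polar (⇑Q) (pv p) y = 0 ∧ ∀ c : F, SP Q X (pv p) (c • y)} := ⟨_, rfl⟩
  let W' : Submodule F ((Fin n → Fin m) → F) :=
    { carrier := W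
      zero_mem' := hW ▸ ⟨QuadraticMap.polar_zero_right _ _, fun c => by rw [smul_zero]; exact sp_zero H.q⟩
      add_mem' := fun {a b} ha hb => by
        rw [hW] at ha hb ⊢
        refine ⟨by rw [QuadraticMap.polar_add_right, ha.1, hb.1, add_zero], fun c => ?_⟩
        rw [smul_add]
        exact sp_add H.q (H.pure p) (by rw [QuadraticMap.polar_smul_right, ha.1, smul_zero])
          (by rw [QuadraticMap.polar_smul_right, hb.1, smul_zero]) (ha.2 c) (hb.2 c)
      smul_mem' := fun r a ha => by
        rw [hW] at ha ⊢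
        exact ⟨by rw [QuadraticMap.polar_smul_right, ha.1, smul_zero], fun c => by rw [smul_smul]; exact ha.2 _⟩ }
  have horth : ∀ (s : Fin n → Fin m → F) k, f (p k) (s k) = 0 → pv s ∈ W' := fun s k h => by
    show pv s ∈ W
    rw [hW]
    exact ⟨H.zero_at k h, hpure p s k h⟩
  have hdec : ∀ (c : Fin n → Fin m → F) (T : Finset (Fin n)), (∀ k, k ∉ T → c k = q k) →
      pv c - (∏ k ∈ T, f (p k) (c k) / f (p k) (q k)) • pv q ∈ W' := by
    intro c T
    induction T using Finset.induction_on generalizing c with
    | empty =>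
      intro h
      rw [show c = q from funext fun k => h k (by simp), Finset.prod_empty, one_smul, sub_self]
      exact W'.zero_mem
    | insert k T hk ih =>
      intro h
      obtain ⟨μ, hμ⟩ : ∃ μ, μ = f (p k) (c k) / f (p k) (q k) := ⟨_, rfl⟩
      have hqne : f (p k) (q k) ≠ 0 := by rw [hq']; simp
      have e1 : pv c = pv (Function.update c k (c k - μ • q k)) + μ • pv (Function.update c k (q k)) := by
        rw [← pv_update_smul, ← pv_update_add, sub_add_cancel, Function.update_eq_self]
      have h1 : pv (Function.update c k (c k - μ • q k)) ∈ W' := horth _ k (by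
        rw [Function.update_self, S.sub_right, S.smul_right, hμ, div_mul_cancel₀ _ hqne, sub_self])
      have h2 := ih (Function.update c k (q k)) fun l hl => by
        rcases eq_or_ne l k with rfl | hlk
        · exact Function.update_self _ _ _
        · rw [Function.update_of_ne hlk]; exact h l (by simp [hlk, hl])
      rw [Finset.prod_congr rfl fun l hl => show f (p l) (Function.update c k (q k) l) / f (p l) (q l) =
        f (p l) (c l) / f (p l) (q l) by rw [Function.update_of_ne fun e : l = k => hk (e ▸ hl)]] at h2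
      rw [e1, Finset.prod_insert hk, ← hμ, ← smul_smul]
      have e2 : ∀ u v w : (Fin n → Fin m) → F, u + μ • v - μ • w = u + μ • (v - w) := fun u v w => by module
      rw [e2]
      exact W'.add_mem h1 (W'.smul_mem μ h2)
  have hμ : ∀ z, ∃ l : F, z - l • pv q ∈ W' := fun z => by
    rw [pi_eq_sum_univ' z]
    induction (Finset.univ : Finset (Fin n → Fin m)) using Finset.induction_on with
    | empty => exact ⟨0, by rw [Finset.sum_empty, zero_smul, sub_zero]; exact W'.zero_mem⟩
    | insert a T ha ih =>
      obtain ⟨l, hl⟩ := ih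
      have h1 := W'.smul_mem (z a) (hdec (fun k => (Pi.single (a k) (1 : F) : Fin m → F)) Finset.univ (by simp))
      have hs : pv (fun k => (Pi.single (a k) (1 : F) : Fin m → F)) = (Pi.single a 1 : (Fin n → Fin m) → F) := by
        funext b
        by_cases h : b = a
        · subst h; simp [pv]
        · obtain ⟨k, hk⟩ := Function.ne_iff.1 h
          rw [Pi.single_eq_of_ne h]
          exact Finset.prod_eq_zero (Finset.mem_univ k) (Pi.single_eq_of_ne hk _)
      rw [hs] at h1
      refine ⟨z a * (∏ k, f (p k) ((Pi.single (a k) (1 : F) : Fin m → F)) / f (p k) (q k)) + l, ?_⟩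
      have h2 := W'.add_mem h1 hl
      rw [Finset.sum_insert ha]
      convert h2 using 1
      module
  obtain ⟨l, hl⟩ := hμ y
  replace hl : y - l • pv q ∈ W := hl
  rw [hW] at hl
  have hl0 : l = 0 := by
    have := hl.1
    rw [QuadraticMap.polar_sub_right, hy, zero_sub, neg_eq_zero, QuadraticMap.polar_smul_right, H.polar_pv,
      smul_eq_mul] at this
    exact (mul_eq_zero.1 this).resolve_right (Finset.prod_ne_zero_iff.2 fun k _ => by rw [hq']; simp)
  have := hl.2 1
  rwa [hl0, zero_smul, sub_zero, one_smul] at this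

end Cfsg.Agent.Classical.TensorPowerMax.Symplectic
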