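/-
From one elementary type to all pure parameters.
-/
import Cfsg.Agent.Lib.Classical.STPow.OPure

set_option autoImplicit false
set_option linter.unusedSectionVars false

namespace Cfsg.Agent.Classical.TensorPowerMax.Symplectic

open Matrix Cfsg.Geo
open Cfsg.Agent.Classical
open Cfsg.Agent.Classical.TensorPowerMax
open Cfsg.Agent.Classical.TensorMax.Form (SForm)

variable {F : Type*} [Field F] [Fintype F] {m n : ℕ} {f : (Fin m → F) → (Fin m → F) → F}
  {Q : QuadraticForm F ((Fin n → Fin m) → F)} {X : Subgroup (GL (Fin n → Fin m) F)}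

theorem avoid_two (S : SForm f) {u v : Fin m → F} (hu : u ≠ 0) (hv : v ≠ 0) :
    ∃ w, f u w ≠ 0 ∧ f v w ≠ 0 ∧ f w u ≠ 0 ∧ f w v ≠ 0 := by
  obtain ⟨w, -, h1, h2⟩ := TensorMax.Form.exists_avoid S (W := ⊥) (u := u) (v := v) (by simpa using hu) (by simpa using hv)
  exact ⟨w, h1, h2, fun e => h1 (S.refl.eq_zero_swap e), fun e => h2 (S.refl.eq_zero_swap e)⟩

theorem perp_avoid (S : SForm f) {u v : Fin m → F} (h : u ∉ Submodule.span F {v}) :
    ∃ w, f v w = 0 ∧ f w v = 0 ∧ f u w ≠ 0 ∧ f w u ≠ 0 := by
  obtain ⟨w, hw, h1, -⟩ := TensorMax.Form.exists_avoid S (W := Submodule.span F {v}) h h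
  have h0 : f w v = 0 := hw v (Submodule.mem_span_singleton_self v)
  exact ⟨w, S.refl.eq_zero_swap h0, h0, h1, fun e => h1 (S.refl.eq_zero_swap e)⟩

variable (H : PQ f Q X)

include H

/-- Factors of dimension two: every orthogonal pair of pure tensors. -/
theorem pg_all_two (hm : m = 2) (hn : 4 ≤ n) (hp : ∀ z, Pat f X (Function.update (fun _ => Ty.N) z Ty.O))
    (p s : Fin n → Fin m → F) (k₀ : Fin n) (hk₀ : f (p k₀) (s k₀) = 0) : PG Q X p s := by
  classical
  have S := H.sf
  have hflip : ∀ {u v : Fin m → F}, f u v ≠ 0 → f v u ≠ 0 := fun h e => h (S.refl.eq_zero_swap e)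
  -- exactly two positions
  have two : ∀ (p s : Fin n → Fin m → F), (∀ k, p k ≠ 0) → (∀ k, s k ≠ 0) → ∀ b c, b ≠ c → f (p b) (s b) = 0 →
      f (p c) (s c) = 0 → (∀ k, k ≠ b → k ≠ c → f (p k) (s k) ≠ 0) → PG Q X p s := by
    intro p s hp0 hs0 b c hbc hb hc hne
    obtain ⟨w, hw1, hw2, hw3, hw4⟩ := avoid_two S (hp0 b) (hs0 b)
    obtain ⟨w', hw1', hw2', hw3', hw4'⟩ := avoid_two S (hp0 c) (hs0 c)
    obtain ⟨r, hr⟩ : ∃ r, r = Function.update p b w := ⟨_, rfl⟩
    obtain ⟨r', hr'⟩ : ∃ r', r' = Function.update s c w' := ⟨_, rfl⟩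
    have rc : r c = p c := by rw [hr, Function.update_of_ne hbc.symm]
    have r'b : r' b = s b := by rw [hr', Function.update_of_ne hbc]
    have hr'0 : ∀ k, r' k ≠ 0 := fun k => by
      rcases eq_or_ne k c with rfl | hk
      · rw [hr', Function.update_self]; exact fun e => hw3' (by rw [e, S.refl.zero_left])
      · rw [hr', Function.update_of_ne hk]; exact hs0 k
    refine pg_chain H (r := r) (r' := r') (a := c) (b := b) (c := b) (d := b) (e := c) (by rw [rc]; exact S.alt _) (by rw [r'b]; exact S.alt _)
      (by rw [r'b]; exact hb) hb (by rw [rc]; exact hc) (fun k => ?_)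
      (pg_base_two H hm (hp b) hp0 fun k hk => by rw [hr, Function.update_of_ne hk]; exact S.alt _)
      (pg_base_two H hm (hp c) hr'0 fun k hk => by rw [hr', Function.update_of_ne hk]; exact S.alt _)
    rcases eq_or_ne k b with rfl | hkb
    · rw [r'b, hr, Function.update_self]; exact hw4
    rcases eq_or_ne k c with rfl | hkc
    · rw [rc, hr', Function.update_self]; exact hw1'
    · rw [hr, hr', Function.update_of_ne hkb, Function.update_of_ne hkc]; exact hne k hkb hkc
  by_cases h0 : ∃ k, p k = 0 ∨ s k = 0
  · obtain ⟨k, hk | hk⟩ := h0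
    · exact pg_zero_left H hk
    · exact pg_zero_right H hk
  push Not at h0
  have hp0 : ∀ k, p k ≠ 0 := fun k => (h0 k).1
  have hs0 : ∀ k, s k ≠ 0 := fun k => (h0 k).2
  by_cases hA : ∃ a, a ≠ k₀ ∧ f (p a) (s a) = 0
  · -- at least two positions
    obtain ⟨a, hab, ha⟩ := hA
    by_cases hcA : ∃ c, f (p c) (s c) ≠ 0
    · obtain ⟨c, hc⟩ := hcA
      have hcb : c ≠ k₀ := fun e => hc (e ▸ hk₀)
      choose w hw1 hw2 hw3 hw4 using fun k => avoid_two S (hp0 k) (hs0 k)
      obtain ⟨r, hr⟩ : ∃ r, r = Function.update p k₀ (w k₀) := ⟨_, rfl⟩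
      obtain ⟨r', hr'⟩ : ∃ r', r' = fun k => if k = k₀ ∨ k = c then s k else w k := ⟨_, rfl⟩
      have ra : r a = p a := by rw [hr, Function.update_of_ne hab]
      have r'b : r' k₀ = s k₀ := by simp [hr']
      refine pg_chain H (r := r) (r' := r') (a := a) (b := k₀) (c := k₀) (d := k₀) (e := a) (by rw [ra]; exact S.alt _)
        (by rw [r'b]; exact S.alt _) (by rw [r'b]; exact hk₀) hk₀ (by rw [ra]; exact ha) (fun k => ?_)
        (pg_base_two H hm (hp k₀) hp0 fun k hk => by rw [hr, Function.update_of_ne hk]; exact S.alt _)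
        (two r' s (fun k => ?_) hs0 k₀ c hcb.symm (by rw [r'b]; exact S.alt _) (by simp [hr', S.alt])
          fun k hkb hkc => by simp only [hr', hkb, hkc, or_self, if_false]; exact hw4 k)
      · rcases eq_or_ne k k₀ with rfl | hkb
        · rw [r'b, hr, Function.update_self]; exact hw4 k
        rw [hr, Function.update_of_ne hkb]
        rcases eq_or_ne k c with rfl | hkc
        · simp only [hr', or_true, if_true]; exact hc
        · simp only [hr', hkb, hkc, or_self, if_false]; exact hw1 k
      · simp only [hr']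
        split_ifs
        · exact hs0 k
        · exact fun e => hw3 k (by rw [e, S.refl.zero_left])
    · push Not at hcA
      exact pg_base_two H hm (hp k₀) hp0 fun k _ => hcA k
  · -- exactly one position
    push Not at hA
    have hex : ∀ T : Finset (Fin n), T.card < n → ∃ x, x ∉ T := fun T hT => by
      by_contra hcon
      push Not at hcon
      rw [show T = Finset.univ from Finset.eq_univ_iff_forall.2 hcon, Finset.card_univ, Fintype.card_fin] at hT
      omega
    obtain ⟨c, hc⟩ := hex {k₀} (by rw [Finset.card_singleton]; omega)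
    obtain ⟨d, hd⟩ := hex {k₀, c} (lt_of_le_of_lt Finset.card_le_two (by omega))
    obtain ⟨e, he⟩ := hex {k₀, c, d} (lt_of_le_of_lt Finset.card_le_three (by omega))
    simp only [Finset.mem_insert, Finset.mem_singleton, not_or] at hc hd he
    choose w hw1 hw2 hw3 hw4 using fun k => avoid_two S (hp0 k) (hs0 k)
    have hne : ∀ k, k ≠ k₀ → f (p k) (s k) ≠ 0 := hA
    obtain ⟨r, hr⟩ : ∃ r, r = fun k => if k = k₀ ∨ k = c then p k else if k = d then s k else w k := ⟨_, rfl⟩
    obtain ⟨r', hr'⟩ : ∃ r', r' = fun k => if k = k₀ then w k else if k = c ∨ k = e then s k else p k := ⟨_, rfl⟩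
    have ra : r k₀ = p k₀ := by simp [hr]
    have rc : r c = p c := by simp [hr]
    have rd : r d = s d := by simp [hr, hd.1, hd.2]
    have r'a : r' k₀ = w k₀ := by simp [hr']
    have r'c : r' c = s c := by simp [hr', hc]
    have r'e : r' e = s e := by simp [hr', he.1]
    have r'd : r' d = p d := by simp [hr', hd.1, hd.2, Ne.symm he.2.2]
    refine pg_chain H (r := r) (r' := r') (a := k₀) (b := c) (c := d) (d := k₀) (e := d) (by rw [ra]; exact S.alt _)
      (by rw [r'c]; exact S.alt _) (by rw [r'd]; exact S.alt _) hk₀ (by rw [rd]; exact S.alt _) (fun k => ?_)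
      (two p r hp0 (fun k => ?_) k₀ c (Ne.symm hc) (by rw [ra]; exact S.alt _) (by rw [rc]; exact S.alt _)
        fun k hka hkc => ?_)
      (two r' s (fun k => ?_) hs0 c e (Ne.symm he.2.1) (by rw [r'c]; exact S.alt _) (by rw [r'e]; exact S.alt _)
        fun k hkc hke => ?_)
    · rcases eq_or_ne k k₀ with rfl | hka
      · rw [ra, r'a]; exact hw1 k
      rcases eq_or_ne k c with rfl | hkc
      · rw [rc, r'c]; exact hne k hka
      rcases eq_or_ne k d with rfl | hkd
      · rw [rd, r'd]; exact hflip (hne k hka)
      simp only [hr, hr', hka, hkc, hkd, false_or, if_false]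
      split_ifs
      · exact hw4 k
      · exact hw3 k
    · simp only [hr]
      split_ifs
      · exact hp0 k
      · exact hs0 k
      · exact fun e => hw3 k (by rw [e, S.refl.zero_left])
    · simp only [hr, hka, hkc, or_self, if_false]
      split_ifs
      · exact hne k hka
      · exact hw1 k
    · simp only [hr']
      split_ifs
      · exact fun e => hw3 k (by rw [e, S.refl.zero_left])
      · exact hs0 k
      · exact hp0 k
    · simp only [hr', hkc, hke, or_self, if_false]
      split_ifs with h
      · exact hw4 k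
      · exact hne k h

/-- Factors of dimension four: every orthogonal pair of pure tensors. -/
theorem pg_all_four (h4 : 4 ≤ m) (hn : 2 ≤ n) {z : Fin n} (hz : Near f Q X z) (p s : Fin n → Fin m → F) (a : Fin n)
    (ha : f (p a) (s a) = 0) : PG Q X p s := by
  classical
  have S := H.sf
  have hflip : ∀ {u v : Fin m → F}, f u v ≠ 0 → f v u ≠ 0 := fun h e => h (S.refl.eq_zero_swap e)
  have hperp : ∀ {u : Fin m → F}, u ≠ 0 → ∃ v, f u v = 0 ∧ v ∉ Submodule.span F {u} := fun {u} hu => by
    obtain ⟨v, -, -, h, -, hv⟩ := S.exists_mid h4 u u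
    exact ⟨v, S.refl.eq_zero_swap h, hv⟩
  have hnz : ∀ {u v : Fin m → F}, f u v ≠ 0 → u ≠ 0 := fun h e => h (by rw [e, S.refl.zero_left])
  -- proportional at `a`, non-orthogonal elsewhere
  have fprime : ∀ (a : Fin n), Near f Q X a → ∀ p s : Fin n → Fin m → F, p a ≠ 0 → s a ∈ Submodule.span F {p a} →
      (∀ k, k ≠ a → f (p k) (s k) ≠ 0) → PG Q X p s := by
    intro a hN p s hpa hs hne
    obtain ⟨u, hu, hus⟩ := hperp hpa
    obtain ⟨u', hu1, hu2, hu3, -⟩ := perp_avoid S hus
    obtain ⟨l, hl⟩ := Submodule.mem_span_singleton.1 hs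
    have hps : f (p a) (s a) = 0 := by rw [← hl, S.smul_right, S.alt, mul_zero]
    refine pg_chain H (r := Function.update p a u) (r' := Function.update s a u') (a := a) (b := a) (c := a) (d := a)
      (e := a) ?_ ?_ ?_ hps ?_ (fun k => ?_) (hN _ _ ?_ fun k hk => ?_) (hN _ _ ?_ fun k hk => ?_)
    all_goals try simp only [Function.update_self]
    · exact hu
    · rw [← hl, S.smul_right, hu2, mul_zero]
    · exact hu1
    · rw [← hl, S.smul_right, S.refl.eq_zero_swap hu, mul_zero]
    · rcases eq_or_ne k a with rfl | hk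
      · rw [Function.update_self, Function.update_self]; exact hu3
      · rw [Function.update_of_ne hk, Function.update_of_ne hk]; exact hne k hk
    · exact hu
    · rw [Function.update_of_ne hk]; exact Submodule.mem_span_singleton_self _
    · rw [← hl, S.smul_right, hu2, mul_zero]
    · rw [Function.update_of_ne hk]; exact Submodule.mem_span_singleton_self _
  -- two orthogonal positions
  have two : ∀ (a b : Fin n), Near f Q X a → a ≠ b → ∀ p s : Fin n → Fin m → F, f (p a) (s a) = 0 →
      f (p b) (s b) = 0 → PG Q X p s := by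
    intro a b hN hab
    have core : ∀ p s : Fin n → Fin m → F, (∀ k, p k ≠ 0) → (∀ k, s k ≠ 0) → f (p a) (s a) = 0 →
        f (p b) (s b) = 0 → p a ∉ Submodule.span F {s a} → PG Q X p s := by
      intro p s hp0 hs0 ha hb hind
      choose w hw1 hw2 hw3 hw4 using fun k => avoid_two S (hp0 k) (hs0 k)
      obtain ⟨w', hw', hw'', hpw, -⟩ := perp_avoid S hind
      refine pg_chain H (r := Function.update w a (p a)) (r' := Function.update s a w') (a := a) (b := a) (c := b)
        (d := a) (e := a) ?_ ?_ ?_ ha ?_ (fun k => ?_) (fprime a hN _ _ (hp0 a) ?_ fun k hk => ?_)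
        (hN _ _ ?_ fun k hk => ?_)
      all_goals try simp only [Function.update_self]
      · exact S.alt _
      · exact hw''
      · rw [Function.update_of_ne hab.symm]; exact hb
      · exact ha
      · rcases eq_or_ne k a with rfl | hk
        · rw [Function.update_self, Function.update_self]; exact hpw
        · rw [Function.update_of_ne hk, Function.update_of_ne hk]; exact hw4 k
      · exact Submodule.mem_span_singleton_self _
      · rw [Function.update_of_ne hk]; exact hw1 k
      · exact hw''
      · rw [Function.update_of_ne hk]; exact Submodule.mem_span_singleton_self _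
    intro p s ha hb
    by_cases h0 : ∃ k, p k = 0 ∨ s k = 0
    · obtain ⟨k, hk | hk⟩ := h0
      · exact pg_zero_left H hk
      · exact pg_zero_right H hk
    push Not at h0
    by_cases hind : p a ∉ Submodule.span F {s a}
    · exact core p s (fun k => (h0 k).1) (fun k => (h0 k).2) ha hb hind
    push Not at hind
    obtain ⟨v, hv, hvs⟩ := hperp (h0 a).1
    obtain ⟨d, hd⟩ := Submodule.mem_span_singleton.1 hind
    have hd0 : d ≠ 0 := fun e => (h0 a).1 (by rw [← hd, e, zero_smul])
    have hsa : s a ∈ Submodule.span F {p a} :=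
      Submodule.mem_span_singleton.2 ⟨d⁻¹, by rw [← hd, smul_smul, inv_mul_cancel₀ hd0, one_smul]⟩
    -- the parameter splits into two independent ones
    have key : ∀ x : Fin m → F, f (p a) x = 0 → x ∉ Submodule.span F {p a} → PG Q X p (Function.update s a x) := by
      intro x hx hxs
      refine core p _ (fun k => (h0 k).1) (fun k => ?_) (by rwa [Function.update_self])
        (by rw [Function.update_of_ne hab.symm]; exact hb) ?_
      · rcases eq_or_ne k a with rfl | hk
        · rw [Function.update_self]; exact fun e => hxs (e ▸ Submodule.zero_mem _)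
        · rw [Function.update_of_ne hk]; exact (h0 k).2
      · rw [Function.update_self]
        intro e
        obtain ⟨r, hr⟩ := Submodule.mem_span_singleton.1 e
        have hr0 : r ≠ 0 := fun e0 => (h0 a).1 (by rw [← hr, e0, zero_smul])
        exact hxs (Submodule.mem_span_singleton.2 ⟨r⁻¹, by rw [← hr, smul_smul, inv_mul_cancel₀ hr0, one_smul]⟩)
    intro c
    have e : pv s = pv (Function.update s a (s a + v)) + pv (Function.update s a (-v)) := by
      rw [← pv_update_add, add_neg_cancel_right, Function.update_eq_self]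
    rw [e, smul_add]
    refine sp_add H.q (H.pure p) ?_ ?_ (key _ ?_ ?_ c) (key _ ?_ ?_ c)
    · rw [QuadraticMap.polar_smul_right, H.zero_at b (by rw [Function.update_of_ne hab.symm]; exact hb), smul_zero]
    · rw [QuadraticMap.polar_smul_right, H.zero_at b (by rw [Function.update_of_ne hab.symm]; exact hb), smul_zero]
    · rw [S.refl.semi.add_right, ha, hv, add_zero]
    · intro e'
      have := sub_mem e' hsa
      rw [add_sub_cancel_left] at this
      exact hvs this
    · rw [← neg_one_smul F v, S.smul_right, hv, mul_zero]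
    · intro e'
      exact hvs (neg_mem_iff.1 e')
  have near : ∀ b, Near f Q X b := fun b => by
    rcases eq_or_ne b z with rfl | hb
    · exact hz
    intro p s h h'
    obtain ⟨l, hl⟩ := Submodule.mem_span_singleton.1 (h' z hb.symm)
    exact two z b hz hb.symm p s (by rw [← hl, S.smul_right, S.alt, mul_zero]) h
  by_cases hb : ∃ b, b ≠ a ∧ f (p b) (s b) = 0
  · obtain ⟨b, hba, hb⟩ := hb
    exact two a b (near a) hba.symm p s ha hb
  push Not at hb
  by_cases hpa : p a = 0
  · exact pg_zero_left H hpa
  by_cases hs : s a ∈ Submodule.span F {p a}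
  · exact fprime a (near a) p s hpa hs hb
  have hind : p a ∉ Submodule.span F {s a} := fun e => by
    obtain ⟨r, hr⟩ := Submodule.mem_span_singleton.1 e
    have hr0 : r ≠ 0 := fun e0 => hpa (by rw [← hr, e0, zero_smul])
    exact hs (Submodule.mem_span_singleton.2 ⟨r⁻¹, by rw [← hr, smul_smul, inv_mul_cancel₀ hr0, one_smul]⟩)
  obtain ⟨w, hw, hw', hpw, hwp⟩ := perp_avoid S hind
  haveI : Nontrivial (Fin n) := Fin.nontrivial_iff_two_le.2 hn
  obtain ⟨b, hba⟩ := exists_ne a
  have hpr : PG Q X p (Function.update p a w) := by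
    by_cases hc : ∃ c, c ≠ a ∧ c ≠ b
    · obtain ⟨c, hca, hcb⟩ := hc
      exact two b c (near b) hcb.symm _ _ (by rw [Function.update_of_ne hba]; exact S.alt _)
        (by rw [Function.update_of_ne hca]; exact S.alt _)
    · push Not at hc
      refine fprime b (near b) _ _ (hnz (hb b hba)) (by rw [Function.update_of_ne hba]; exact Submodule.mem_span_singleton_self _)
        fun k hk => ?_
      obtain rfl : k = a := by_contra fun e => hk (hc k e)
      rw [Function.update_self]
      exact hpw
  refine pg_chain H (r := Function.update p a w) (r' := Function.update s a (p a)) (a := b) (b := a) (c := a) (d := a)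
    (e := a) ?_ ?_ ?_ ha ?_ (fun k => ?_) hpr (near a _ _ ?_ fun k hk => ?_)
  all_goals try simp only [Function.update_self]
  · rw [Function.update_of_ne hba]; exact S.alt _
  · exact ha
  · exact S.alt _
  · exact hw'
  · rcases eq_or_ne k a with rfl | hk
    · rw [Function.update_self, Function.update_self]; exact hwp
    · rw [Function.update_of_ne hk, Function.update_of_ne hk]; exact hb k hk
  · exact ha
  · rw [Function.update_of_ne hk]; exact Submodule.mem_span_singleton_self _

end Cfsg.Agent.Classical.TensorPowerMax.Symplectic
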