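/-
Factors of dimension two or four in odd characteristic: standard, or all Siegel elements.
-/
import Cfsg.Agent.Lib.Classical.STPow.OBase
import Cfsg.Agent.Lib.Classical.STPow.OSpan

set_option autoImplicit false
set_option linter.unusedSectionVars false

namespace Cfsg.Agent.Classical.TensorPowerMax.Symplectic

open Matrix Cfsg.Geo
open Cfsg.Agent.Classical
open Cfsg.Agent.Classical.TensorPowerMax
open Cfsg.Agent.Classical.TensorPowerMax.Unitary (tp fl nm emb_pureM)
open Cfsg.Agent.Classical.TensorMax (kr)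
open Cfsg.Agent.Classical.TensorMax.Form (SForm)

variable {F : Type*} [Field F] [Fintype F] {m t : ℕ} {f : (Fin m → F) → (Fin m → F) → F}
  {Q : QuadraticForm F ((Fin (t + 1) → Fin m) → F)} {X : Subgroup (GL (Fin (t + 1) → Fin m) F)}

local notation "idF" => RingEquiv.refl F

/-- With three factors or more, all permutations are in the group. -/
theorem OPow.perms (H : OPow f Q X) (h3 : 3 ≤ t + 1) (σ : Equiv.Perm (Fin (t + 1))) : factorPermGL m F σ ∈ X := by
  classical
  induction σ using Equiv.Perm.swap_induction_on with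
  | one => rw [perm_one]; exact one_mem X
  | swap_mul σ a b hab ih =>
    rw [← TensorPowerMax.perm_mul]
    refine mul_mem ?_ ih
    obtain ⟨i, hia, hib⟩ : ∃ i, i ≠ a ∧ i ≠ b := by
      by_contra hcon
      push Not at hcon
      have : (Finset.univ : Finset (Fin (t + 1))) ⊆ {a, b} := fun i _ => by
        by_cases h : i = a
        · simp [h]
        · simp [hcon i h]
      have := (Finset.card_le_card this).trans Finset.card_le_two
      rw [Finset.card_univ, Fintype.card_fin] at this
      omega
    obtain ⟨a', rfl⟩ := Fin.exists_succAbove_eq hia.symm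
    obtain ⟨b', rfl⟩ := Fin.exists_succAbove_eq hib.symm
    have e : permExt i (Equiv.swap a' b') = Equiv.swap (i.succAbove a') (i.succAbove b') := Equiv.ext fun k => by
      rcases Fin.eq_self_or_eq_succAbove i k with rfl | ⟨j, rfl⟩
      · rw [permExt_self, Equiv.swap_apply_of_ne_of_ne hia hib]
      · rw [permExt_succAbove, ← Fin.succAbove_right_injective.map_swap]
    rw [← e, ← J_kr_perm]
    exact H.small i _ 1 (factorPermGL_mem _) (perm_iso _) fun u v => by simp

/-- A non-scalar central operator gives an elementary type with two factors. -/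
theorem pat_of_not_cen (S : SForm f) (h2 : (2 : F) ≠ 0) (hm : 2 ≤ m) (hX : Ks f (t + 1) ≤ X) (hC : ¬ Cen f X) :
    ∃ (τ : Fin (t + 1) → Ty) (x : Fin (t + 1)), Pat f X τ ∧ Real' f τ ∧ τ x = Ty.N ∧
      ∃ a b, a ≠ b ∧ τ a ≠ Ty.O ∧ τ b ≠ Ty.O := by
  classical
  obtain ⟨i, o, φ, ho, hφ, hns⟩ : ∃ (i : Fin (t + 1)) (o : Fin m → F)
      (φ : ((Fin t → Fin m) → F) → (Fin t → Fin m) → F), o ≠ 0 ∧ TensorMax.Form.CenOp f (XI X i) o φ ∧
        ∀ l : F, ∃ v, φ v ≠ l • v := by
    unfold Cen at hC
    push Not at hC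
    exact hC
  obtain ⟨g, hg, hgx⟩ := hφ
  obtain ⟨M, hM⟩ := cen_linear S ho hgx
  have hMel : El X (Emb i (nm f o) M) := by
    simp only [hM] at hgx
    rw [cen_entries S] at hgx
    refine ⟨J i g, hg, ?_⟩
    rw [J_val, hgx, Emb]
    ext x y
    simp [Matrix.reindex_apply, Matrix.one_apply]
  have hsq : ∀ N N', Emb i (nm f o) N * Emb i (nm f o) N' = 0 := fun N N' => by
    rw [emb_mul, nm_sq S]
    ext x y
    simp [Emb]
  have hz : Emb i (nm f o) (0 : Matrix (Fin t → Fin m) (Fin t → Fin m) F) = 0 := by ext x y; simp [Emb]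
  let T : Submodule F (Matrix (Fin t → Fin m) (Fin t → Fin m) F) :=
    { carrier := {N | El X (Emb i (nm f o) N)}
      add_mem' := fun {a b} ha hb => by
        show El X (Emb i (nm f o) (a + b))
        rw [emb_add]
        exact El.add ha hb (hsq a b)
      zero_mem' := by
        show El X (Emb i (nm f o) 0)
        rw [hz]
        exact El.zero
      smul_mem' := fun c N hN => by
        show El X (Emb i (nm f o) (c • N))
        have sq : ∀ a : F, El X (Emb i (nm f o) ((a * a) • N)) := fun a => by
          rcases eq_or_ne a 0 with rfl | ha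
          · rw [mul_zero, zero_smul, hz]
            exact El.zero
          obtain ⟨b, hb, e⟩ := re_move S (a := Ty.N) (A := nm f o) (A' := nm f (a • o)) ⟨o, ho, rfl⟩
            ⟨a • o, smul_ne_zero ha ho, rfl⟩
          have := El.conj hN (hX (facGL_mem_ks i hb))
          rw [emb_conj, e, nm_smul_vec S] at this
          convert this using 1
          ext x y
          simp [Emb]
          ring
        obtain ⟨a, b, hab⟩ := exists_sq_sum h2 c
        have := El.add (sq a) (sq b) (hsq _ _)
        rwa [← emb_add, ← add_smul, hab] at this }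
  have hTinv : ∀ a ∈ Ks f t, ∀ N ∈ T, (a : Matrix (Fin t → Fin m) (Fin t → Fin m) F) * N *
      ((a⁻¹ : GL (Fin t → Fin m) F) : Matrix (Fin t → Fin m) (Fin t → Fin m) F) ∈ T := fun a ha N hN => by
    show El X (Emb i (nm f o) _)
    rw [← emb_left_conj]
    exact El.conj hN (kr_left_mem hX i ha)
  have hMns : ∀ r : F, M ≠ r • 1 := fun r e => by
    obtain ⟨v, hv⟩ := hns r
    exact hv (by rw [hM, e, Matrix.smul_mulVec, Matrix.one_mulVec])
  obtain ⟨τ, A, hA, hAT, hτ⟩ := reduce S h2 hm t T hTinv M hMel (fun e => hMns 0 (by rw [e, zero_smul]))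
  obtain ⟨k, hk⟩ := hτ hMns
  have h1 : El X ((1 : F) • pureM (i.insertNth (nm f o) A)) := by
    rw [one_smul, ← emb_pureM]
    exact hAT
  have hre : ∀ l, Re f ((i.insertNth Ty.N τ : Fin (t + 1) → Ty) l) ((i.insertNth (nm f o) A : Fin (t + 1) → _) l) := by
    intro l
    rcases Fin.eq_self_or_eq_succAbove i l with rfl | ⟨l, rfl⟩
    · rw [Fin.insertNth_apply_same, Fin.insertNth_apply_same]; exact ⟨o, ho, rfl⟩
    · rw [Fin.insertNth_apply_succAbove, Fin.insertNth_apply_succAbove]; exact hA l
  exact ⟨_, i, pat_of_one S h2 hX (x := i) (Fin.insertNth_apply_same ..) hre one_ne_zero h1, fun l => ⟨_, hre l⟩,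
    Fin.insertNth_apply_same .., i, i.succAbove k, Fin.ne_succAbove i k, by rw [Fin.insertNth_apply_same]; decide,
    by rw [Fin.insertNth_apply_succAbove]; exact hk⟩

/-- The quadratic space of an even tensor power with a group of isometries. -/
theorem OPow.pq (H : OPow f Q X) (h4 : m ^ (t + 1) ≠ 4) : PQ f Q X where
  sf := H.sf
  pol := H.pol
  pure := H.pure
  q :=
    { pnd := fun v hv => by
        by_contra hne
        obtain ⟨w, hw⟩ := ((tp_refl H.sf (t + 1)).nondeg v hne).2
        exact hw (by rw [← H.pol, hv])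
      card := by rwa [Fintype.card_fun, Fintype.card_fin, Fintype.card_fin]
      iso := H.iso }

/-- Standard, or all Siegel elements. -/
theorem OPow.small_cases (H : OPow f Q X) (h2 : (2 : F) ≠ 0) (hm : m = 2 ∨ 4 ≤ m)
    (hex : ¬ (Fintype.card F = 3 ∧ m = 2)) (hn : 13 ≤ m ^ (t + 1)) :
    X ≤ tensorWreathStandard m (t + 1) F ∨
      ∀ v y, Q v = 0 → QuadraticMap.polar (⇑Q) v y = 0 → SP Q X v y := by
  classical
  by_cases hC : Cen f X
  · exact Or.inl (le_std H.sf hm hex t X H.ks_le H.le_iso hC (Or.inl h2))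
  right
  intro v y hv hy
  have P := H.pq (by omega)
  have he : Even (t + 1) := H.par.resolve_left h2
  obtain ⟨τ, x, hp, hr, hx, hne⟩ := pat_of_not_cen H.sf h2 (by omega) H.ks_le hC
  refine sp_all_of_pure P (by omega) (fun p s k hk => ?_) hv hy
  rcases hm with hm | hm
  · have hn4 : 4 ≤ t + 1 := by
      by_contra hlt
      rw [hm] at hn
      have := Nat.pow_le_pow_right (show 0 < 2 by omega) (show t + 1 ≤ 3 by omega)
      omega
    have hperm := H.perms (by omega)
    have hL : ∀ l, τ l ≠ Ty.L := fun l hl => by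
      obtain ⟨A, hA⟩ := hr l
      rw [hl] at hA
      obtain ⟨u, w, hu, hw, huw, -⟩ := hA
      exact hw (line_of_two H.sf hm hu (H.sf.refl.eq_zero_swap huw))
    obtain ⟨z, hz⟩ := pat_NO H.sf h2 (by omega) he H.ks_le hperm H.le_iso τ hp hL hne
    refine pg_all_two P hm hn4 (fun z' => ?_) p s k hk
    convert hz.perm H.sf hperm (Equiv.swap z' z) using 1
    funext l
    rcases eq_or_ne l z' with rfl | h
    · rw [Equiv.swap_apply_left, Function.update_self, Function.update_self]
    · rw [Function.update_of_ne h, Function.update_of_ne]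
      intro e
      exact h (by rw [← Equiv.swap_apply_self z' z l, e, Equiv.swap_apply_right])
  · obtain ⟨z, hz⟩ := pat_NL H.sf h2 hm he H.ks_le (fun h => H.perms h) H.le_iso hp hr hne hx
    exact pg_all_four P hm (by have := H.ht; omega) (near_of_pat P hz) p s k hk

end Cfsg.Agent.Classical.TensorPowerMax.Symplectic
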