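/-
Maximality of the stabilisers of tensor powers of symplectic forms in the orthogonal groups of plus type.
-/
import Cfsg.Agent.Lib.Classical.STPow.OSix
import Cfsg.Agent.Lib.Classical.STPow.OSmall
import Cfsg.Agent.Lib.Classical.TensorMax.Form.OFinal

set_option autoImplicit false
set_option linter.unusedSectionVars false

namespace Cfsg.Agent.Classical.TensorPowerMax.Symplectic

open Matrix Cfsg.Geo
open Cfsg.Agent.Classical
open Cfsg.Agent.Classical.TensorPowerMax
open Cfsg.Agent.Classical.TensorPowerMax.Unitary (tp tp_spl fl nm)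
open Cfsg.Agent.Classical.TensorMax (kr kr_val)
open Cfsg.Agent.Classical.TensorMax.Form (SForm tm tf tgen_top kr_mem_of_siegel tf_semi)

variable {F : Type*} [Field F] [Fintype F] {m t : ℕ} {f : (Fin m → F) → (Fin m → F) → F}
  {Q : QuadraticForm F ((Fin (t + 1) → Fin m) → F)}

local notation "idF" => RingEquiv.refl F

/-- A group with all Siegel elements contains the small elements. -/
theorem small_of_siegel (S : SForm f) (ht : 0 < t) (hpar : (2 : F) = 0 ∨ Even (t + 1))
    (hpol : ∀ x y, QuadraticMap.polar (⇑Q) x y = tp idF f (t + 1) x y) (hpure : ∀ u, Q (pv u) = 0)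
    {W : Subgroup (GL (Fin (t + 1) → Fin m) F)}
    (hW : ∀ g ∈ W, ∀ x, Q ((g : Matrix (Fin (t + 1) → Fin m) (Fin (t + 1) → Fin m) F) *ᵥ x) = Q x)
    (hsp : ∀ v y, Q v = 0 → QuadraticMap.polar (⇑Q) v y = 0 → SP Q W v y) (i : Fin (t + 1))
    {s : GL (Fin t → Fin m) F} {b : GL (Fin m) F} (hs : s ∈ Iso f t)
    (hb : ∀ u v, f ((b : Matrix (Fin m) (Fin m) F) *ᵥ u) ((b : Matrix (Fin m) (Fin m) F) *ᵥ v) = f u v) :
    J i (kr s b) ∈ W := by
  -- the operations of the fibre only need the pure centres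
  have A : SForm (tp idF f t) := by
    by_cases h2 : (2 : F) = 0
    · exact tp_sform_two S h2 ht
    · refine tp_sform S h2 ?_
      obtain ⟨k, hk⟩ := hpar.resolve_left h2
      exact ⟨k - 1, by omega⟩
  have hkm : kr s b ∈ XI W i := kr_mem_of_siegel A S (W := XI W i) (fun a c o w h0 => by
    obtain ⟨p, hp⟩ : ∃ p, p = tm a o ∘ (spl i).symm := ⟨_, rfl⟩
    obtain ⟨y, hy⟩ : ∃ y, y = tm c w ∘ (spl i).symm := ⟨_, rfl⟩
    have hsp' : ∀ u : (Fin t → Fin m) → F, ∀ w, Q (tm u w ∘ (spl i).symm) = 0 := fun u w => by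
      induction u using Pi.single_induction with
      | zero =>
        rw [TensorMax.Form.tm_zero_left, show (0 : (Fin t → Fin m) × Fin m → F) ∘ (spl i).symm = 0 from rfl]
        exact QuadraticMap.map_zero _
      | single x c =>
        rw [show (Pi.single x c : (Fin t → Fin m) → F) = c • Pi.single x 1 by rw [← Pi.single_smul, smul_eq_mul, mul_one],
          TensorMax.Form.tm_smul_left, show (c • tm (Pi.single x (1 : F)) w) ∘ (spl i).symm =
            c • pv (i.insertNth w fun k => (Pi.single (x k) (1 : F) : Fin m → F)) from ?_, QuadraticMap.map_smul, hpure,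
          smul_zero]
        funext q
        obtain ⟨⟨u, e⟩, rfl⟩ := (spl i).surjective q
        simp only [Pi.smul_apply, Function.comp_apply, Equiv.symm_apply_apply, TensorMax.Form.tm_apply, smul_eq_mul, pv]
        congr 1
        rw [Fin.prod_univ_succAbove _ i]
        simp only [Fin.insertNth_apply_same, Fin.insertNth_apply_succAbove]
        have e1 : spl i (u, e) i = e := by simp [spl]
        have e2 : ∀ k, spl i (u, e) (i.succAbove k) = u k := fun k => by simp [spl]
        simp only [e1, e2]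
        by_cases h : u = x
        · subst h; simp
        · obtain ⟨k, hk⟩ := Function.ne_iff.1 h
          rw [Pi.single_eq_of_ne h, zero_mul, Finset.prod_eq_zero (Finset.mem_univ k) (Pi.single_eq_of_ne hk _),
            mul_zero]
      | add u v hu hv =>
        rw [TensorMax.Form.tm_add_left, show (tm u w + tm v w) ∘ (spl i).symm =
          tm u w ∘ (spl i).symm + tm v w ∘ (spl i).symm from rfl, QuadraticMap.map_add ⇑Q, hu, hv, hpol, tp_spl i,
          Function.comp_assoc, Equiv.symm_comp_self, Function.comp_id, Function.comp_assoc, Equiv.symm_comp_self,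
          Function.comp_id, TensorMax.Form.tf_tm (data S t), S.alt]
        simp
    have hτ : ∀ x y : (Fin (t + 1) → Fin m) → F, QuadraticMap.polar (⇑Q) x y =
        tf idF (tp idF f t) f (x ∘ spl i) (y ∘ spl i) := fun x y => by rw [hpol, tp_spl i]
    have ecomp : ∀ z : (Fin t → Fin m) × Fin m → F, (z ∘ (spl i).symm) ∘ spl i = z := fun z => by
      rw [Function.comp_assoc, Equiv.symm_comp_self, Function.comp_id]
    obtain ⟨g, hg, hgx⟩ := hsp p y (hp ▸ hsp' a o) (by
      rw [hp, hy, hτ, ecomp, ecomp, TensorMax.Form.tf_tm (data S t), h0])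
    obtain ⟨G, rfl⟩ := (J (F := F) (m := m) i).surjective g
    refine ⟨G, hg, fun x => ?_⟩
    have e := J_mulVec i G (x ∘ (spl i).symm)
    rw [ecomp, hgx] at e
    rw [← e, hτ, hτ, ecomp, hp, hy, ecomp, ecomp, hsp' c w, zero_mul, add_zero]
    funext q
    simp) (tgen_top A s hs) (tgen_top S b hb)
  exact hkm

/-- The stabiliser of the decomposition is maximal in Ω. -/
theorem isMaximalIn_plus {n k : ℕ} (hn : 13 ≤ n) (Qf : (Fin n → F) → F) (hQ : IsNondegenerateQuadraticForm Qf)
    (t : ℕ) (ht : 2 ≤ t) (hqt : Odd (Fintype.card F) → Even t) (hex2 : ¬ (Fintype.card F = 3 ∧ k = 2))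
    (hex3 : ¬ Odd (Fintype.card F) → 6 ≤ k) (e : Fin n ≃ (Fin t → Fin k)) (P : GL (Fin n) F)
    (f₁ : (Fin k → F) → (Fin k → F) → F) (hf₁ : IsSymplecticForm f₁)
    (hT : IsTensorPowerFormStructure id (QuadraticMap.polar Qf) f₁ e P)
    (hpure : ∀ xs : Fin t → (Fin k → F),
      Qf (Matrix.mulVec (P : Matrix (Fin n) (Fin n) F) ((fun a : Fin t → Fin k => ∏ i, xs i (a i)) ∘ e)) = 0) :
    IsMaximalIn (omegaGL Qf) (tensorWreathSubgroup k t e P ⊓ omegaGL Qf) := by
  classical
  obtain ⟨Qf, rfl, hPND⟩ := ONotMax.exists_qform hQ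
  have hcard : n = k ^ t := by simpa using Fintype.card_congr e
  have hk : k = 2 ∨ 4 ≤ k := by
    obtain ⟨d, rfl⟩ := TensorMax.Form.even_of_symplectic hf₁
    rcases Nat.eq_zero_or_pos d with rfl | hd
    · rw [Nat.add_zero, zero_pow (by omega)] at hcard; omega
    · omega
  have S : SForm f₁ := ⟨reflexForm_of_symplectic hf₁, hf₁.alternating⟩
  obtain ⟨t, rfl⟩ : ∃ s, t = s + 1 := ⟨t - 1, by omega⟩
  have hchar : (2 : F) ≠ 0 → Odd (Fintype.card F) := fun h2 => by
    rw [Nat.odd_iff]
    exact FiniteField.odd_card_of_char_ne_two fun e => h2 (by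
      haveI : CharP F 2 := ringChar.of_eq e
      exact_mod_cast CharP.cast_eq_zero F 2)
  have hpar : (2 : F) = 0 ∨ Even (t + 1) := (em ((2 : F) = 0)).imp_right fun h => hqt (hchar h)
  have hlarge : (2 : F) = 0 → 6 ≤ k := fun h2 => hex3 fun hodd => by
    have hc : ringChar F = 2 := CharP.ringChar_of_prime_eq_zero Nat.prime_two (by exact_mod_cast h2)
    exact (Nat.not_even_iff_odd.mpr hodd) (Nat.even_iff.mpr (FiniteField.even_card_of_char_two hc))
  obtain ⟨c, hc, hT⟩ := hT
  let T : ((Fin (t + 1) → Fin k) → F) →ₗ[F] (Fin n → F) :=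
    (P : Matrix (Fin n) (Fin n) F).mulVecLin ∘ₗ LinearMap.funLeft F F (e : Fin n → (Fin (t + 1) → Fin k))
  have hTapp : ∀ x, T x = (P : Matrix (Fin n) (Fin n) F) *ᵥ (x ∘ e) := fun x => rfl
  have hTh : ∀ x y, QuadraticMap.polar (⇑Qf) (T x) (T y) = c * tp idF f₁ (t + 1) x y := fun x y => by
    rw [hTapp, hTapp]
    exact (hT x y).trans (by simp [tp, formOfGram, pureM])
  have hTsurj : ∀ v, ∃ x, T x = v := fun v =>
    ⟨(((P⁻¹ : GL (Fin n) F) : Matrix (Fin n) (Fin n) F) *ᵥ v) ∘ e.symm, by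
      rw [hTapp]
      simp only [Function.comp_assoc, Equiv.symm_comp_self, Function.comp_id, gl_mulVec_inv_cancel]⟩
  have hTinj : ∀ {x y}, T x = T y → x = y := fun {x y} h => by
    rw [hTapp, hTapp] at h
    exact e.surjective.injective_comp_right (gl_mulVec_injective P h)
  let Qk : QuadraticForm F ((Fin (t + 1) → Fin k) → F) := c⁻¹ • Qf.comp T
  have hQk : ∀ x, Qk x = c⁻¹ * Qf (T x) := fun x => rfl
  have hQT : ∀ x, Qf (T x) = c * Qk x := fun x => by rw [hQk, mul_inv_cancel_left₀ hc]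
  have hpol : ∀ x y, QuadraticMap.polar (⇑Qk) x y = tp idF f₁ (t + 1) x y := fun x y => by
    have := hTh x y
    simp only [QuadraticMap.polar] at this ⊢
    simp only [hQk, map_add T x y]
    rw [← mul_sub, ← mul_sub, this, inv_mul_cancel_left₀ hc]
  have hpureQ : ∀ u, Qk (pv u) = 0 := fun u => by
    rw [hQk, hTapp]
    exact mul_eq_zero_of_right _ (hpure u)
  let φ : GL (Fin (t + 1) → Fin k) F ≃* GL (Fin n) F := (glReindex (F := F) e.symm).trans (MulAut.conj P)
  have hφ : ∀ (g : GL (Fin (t + 1) → Fin k) F) x, ((φ g : GL (Fin n) F) : Matrix (Fin n) (Fin n) F) *ᵥ T x =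
      T ((g : Matrix (Fin (t + 1) → Fin k) (Fin (t + 1) → Fin k) F) *ᵥ x) := fun g x => by
    have hre : ((glReindex (F := F) e.symm g : GL (Fin n) F) : Matrix (Fin n) (Fin n) F) =
        (g : Matrix (Fin (t + 1) → Fin k) (Fin (t + 1) → Fin k) F).submatrix e e := rfl
    simp only [hTapp, φ, MulEquiv.trans_apply, MulAut.conj_apply, gl_mul_mulVec, gl_inv_mulVec_cancel]
    rw [hre, Matrix.submatrix_mulVec_equiv, Function.comp_assoc, Equiv.self_comp_symm, Function.comp_id]
  have hkr : ∀ g, φ g ∈ tensorWreathSubgroup k (t + 1) e P ↔ g ∈ tensorWreathStandard k (t + 1) F := fun g => by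
    constructor
    · rintro ⟨y, ⟨x, hx, rfl⟩, hy⟩
      have : φ x = φ g := hy
      rw [← φ.injective this]
      exact hx
    · intro hg
      exact ⟨_, ⟨_, hg, rfl⟩, rfl⟩
  obtain ⟨W, hWdef⟩ : ∃ W, W = (omegaGL ⇑Qf).comap φ.toMonoidHom := ⟨_, rfl⟩
  have hW : ∀ g, g ∈ W ↔ φ g ∈ omegaGL ⇑Qf := fun g => by rw [hWdef]; rfl
  have hWiso : ∀ g ∈ W, ∀ x, Qk ((g : Matrix (Fin (t + 1) → Fin k) (Fin (t + 1) → Fin k) F) *ᵥ x) = Qk x :=
    fun g hg x => by rw [hQk, hQk, ← hφ, ONotMax.omega_isometry ((hW g).1 hg)]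
  have hsp : ∀ v y, Qk v = 0 → QuadraticMap.polar (⇑Qk) v y = 0 → SP Qk W v y := by
    intro p y hp hpy
    obtain ⟨g', hg', hgx⟩ := ONotMax.exists_siegel hPND (by rw [Fintype.card_fin]; omega) (e := T p) (v := c⁻¹ • T y)
      (by rw [hQT, hp, mul_zero])
      (by rw [QuadraticMap.polar_smul_right, hTh, ← hpol, hpy, mul_zero, smul_zero])
    obtain ⟨g, rfl⟩ := φ.surjective g'
    refine ⟨g, (hW g).2 hg', fun x => hTinj ?_⟩
    rw [← hφ, hgx]
    simp only [map_sub, map_add, LinearMap.map_smul, QuadraticMap.polar_smul_left, QuadraticMap.map_smul, hTh, hQT,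
      hpol, smul_eq_mul]
    match_scalars <;> field_simp
  have ht0 : 0 < t := by omega
  have hn' : 13 ≤ k ^ (t + 1) := hcard ▸ hn
  have HW : OPow f₁ Qk W := ⟨S, ht0, hpar, hpol, hpureQ, hWiso, fun i s b _ hs hb =>
    small_of_siegel S ht0 hpar hpol hpureQ hWiso hsp i hs hb⟩
  refine ⟨lt_of_le_of_ne inf_le_right fun hEq => ?_, fun M hM hMS => ?_⟩
  · -- a short root element is not standard
    have hWstd : W ≤ tensorWreathStandard k (t + 1) F := fun g hg =>
      (hkr g).1 (hEq.symm.le ((hW g).1 hg)).1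
    obtain ⟨v, hv⟩ : ∃ v : Fin k → F, v ≠ 0 := ⟨Pi.single ⟨0, by omega⟩ 1, by simp⟩
    obtain ⟨w, hw0, hw⟩ := exists_not_prop (by omega : 2 ≤ k) hv
    have hwv : w ∉ Submodule.span F {v} := fun e => by
      obtain ⟨r, hr⟩ := Submodule.mem_span_singleton.1 e
      have hr0 : r ≠ 0 := fun e0 => hw0 (by rw [← hr, e0, zero_smul])
      exact hw r⁻¹ (by rw [← hr, smul_smul, inv_mul_cancel₀ hr0, one_smul])
    obtain ⟨p, hp⟩ : ∃ p : Fin (t + 1) → Fin k → F, p = fun _ => v := ⟨_, rfl⟩
    obtain ⟨y, hy⟩ : ∃ y, y = Function.update p 0 w := ⟨_, rfl⟩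
    haveI : Nontrivial (Fin (t + 1)) := Fin.nontrivial_iff_two_le.2 (by omega)
    obtain ⟨j, hj⟩ := exists_ne (0 : Fin (t + 1))
    have PQk := HW.pq (by omega)
    have hpp : QuadraticMap.polar (⇑Qk) (pv p) (pv p) = 0 := PQk.q.self_zero (hpureQ p)
    have hyy : QuadraticMap.polar (⇑Qk) (pv y) (pv y) = 0 := PQk.q.self_zero (hpureQ y)
    have hpy : QuadraticMap.polar (⇑Qk) (pv p) (pv y) = 0 :=
      PQk.zero_at j (by rw [hy, Function.update_of_ne hj]; exact S.alt _)
    have hyp : QuadraticMap.polar (⇑Qk) (pv y) (pv p) = 0 := by rw [QuadraticMap.polar_comm]; exact hpy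
    obtain ⟨g, hg, hgx⟩ := hsp (pv p) (pv y) (hpureQ p) hpy
    simp only [hpureQ y, zero_mul, add_zero] at hgx
    obtain ⟨D, hD⟩ : ∃ D, D = (g : Matrix (Fin (t + 1) → Fin k) (Fin (t + 1) → Fin k) F) - 1 := ⟨_, rfl⟩
    have hDv : ∀ x, D *ᵥ x = QuadraticMap.polar (⇑Qk) (pv p) x • pv y - QuadraticMap.polar (⇑Qk) (pv y) x • pv p :=
      fun x => by rw [hD, Matrix.sub_mulVec, Matrix.one_mulVec, hgx]; abel
    have hsq : D * D = 0 := Matrix.toLin'.injective (LinearMap.ext fun x => by
      rw [Matrix.toLin'_apply, map_zero, LinearMap.zero_apply, ← Matrix.mulVec_mulVec, hDv x, Matrix.mulVec_sub,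
        Matrix.mulVec_smul, Matrix.mulVec_smul, hDv, hDv, hpp, hyy, hpy, hyp]
      simp)
    have hr : D.rank ≤ 2 := by
      refine (Submodule.finrank_mono (t := Submodule.span F {pv y} ⊔ Submodule.span F {pv p}) ?_).trans ?_
      · rintro _ ⟨x, rfl⟩
        rw [Matrix.mulVecLin_apply, hDv]
        exact sub_mem (Submodule.mem_sup_left (Submodule.smul_mem _ _ (Submodule.mem_span_singleton_self _)))
          (Submodule.mem_sup_right (Submodule.smul_mem _ _ (Submodule.mem_span_singleton_self _)))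
      · refine (Submodule.finrank_add_le_finrank_add_finrank _ _).trans ?_
        have a1 : Module.finrank F (Submodule.span F {pv y}) ≤ 1 := le_trans (finrank_span_le_card (R := F) {pv y}) (by simp)
        have a2 : Module.finrank F (Submodule.span F {pv p}) ≤ 1 := le_trans (finrank_span_le_card (R := F) {pv p}) (by simp)
        omega
    have hne : g ≠ 1 := fun h1 => by
      choose q hq hq' using fun _ : Fin (t + 1) => exists_partner S hv
      obtain ⟨d, hd, hwd, -⟩ := TensorMax.Form.exists_avoid S (W := Submodule.span F {v}) hwv hwv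
      obtain ⟨x, hx⟩ : ∃ x, x = Function.update q 0 d := ⟨_, rfl⟩
      have e := hDv (pv x)
      have h0 : f₁ (p 0) (x 0) = 0 := by
        rw [hx, Function.update_self, hp]
        exact S.refl.eq_zero_swap (hd v (Submodule.mem_span_singleton_self v))
      rw [hD, h1, Units.val_one, sub_self, Matrix.zero_mulVec, PQk.zero_at 0 (b := x) h0, zero_smul, zero_sub, eq_comm, neg_eq_zero, smul_eq_zero] at e
      rcases e with e | e
      · rw [PQk.polar_pv, Finset.prod_eq_zero_iff] at e
        obtain ⟨l, -, hl⟩ := e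
        rcases eq_or_ne l 0 with rfl | hl0
        · rw [hy, hx, Function.update_self, Function.update_self] at hl; exact hwd hl
        · rw [hy, hx, Function.update_of_ne hl0, Function.update_of_ne hl0, hp, hq'] at hl; simp at hl
      · have h0 := PQk.polar_pv p q
        rw [e, QuadraticMap.polar_zero_left, eq_comm, Finset.prod_eq_zero_iff] at h0
        obtain ⟨l, -, hl⟩ := h0
        rw [hp, hq'] at hl; simp at hl
    rw [hD] at hr hsq
    have h4 : 4 ≤ k ^ t := by
      rcases hk with h | h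
      · subst h
        have : 2 ≤ t := by
          by_contra hlt
          have := Nat.pow_le_pow_right (show 0 < 2 by omega) (show t + 1 ≤ 2 by omega)
          omega
        exact le_trans (by norm_num) (Nat.pow_le_pow_right (by omega : 0 < 2) this)
      · exact h.trans (Nat.le_self_pow (by omega) k)
    obtain ⟨i, hi⟩ := classify (hk.imp_left fun h => ⟨h, fun h2 => by have := hlarge h2; omega⟩) (hWstd hg) hsq hne
      (hr.trans (by omega))
    have := hi.rank (by omega)
    omega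
  obtain ⟨X, hXdef⟩ : ∃ X, X = M.comap φ.toMonoidHom := ⟨_, rfl⟩
  have hX : ∀ g, g ∈ X ↔ φ g ∈ M := fun g => by rw [hXdef]; rfl
  have HX : OPow f₁ Qk X := ⟨S, ht0, hpar, hpol, hpureQ, fun g hg => hWiso g ((hW g).2 (hMS ((hX g).1 hg))),
    fun i s b hs hsi hb => (hX _).2 (hM ⟨(hkr _).2 (J_kr_mem i hs b), (hW _).1 (HW.small i s b hs hsi hb)⟩)⟩
  have hcases : X ≤ tensorWreathStandard k (t + 1) F ∨
      ∀ v y, Qk v = 0 → QuadraticMap.polar (⇑Qk) v y = 0 → SP Qk X v y := by
    by_cases h6 : 6 ≤ k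
    · exact HX.six_cases h6
    · exact HX.small_cases (fun h2 => h6 (hlarge h2)) hk hex2 hn'
  rcases hcases with h | h
  · refine Or.inl (le_antisymm (fun g hg => ?_) hM)
    obtain ⟨g', rfl⟩ := φ.surjective g
    exact ⟨(hkr g').2 (h ((hX g').2 hg)), hMS hg⟩
  · refine Or.inr (le_antisymm hMS (Radical.omega_le_of_siegel hPND (by rw [Fintype.card_fin]; omega)
      fun v hv hv0 g hg => ?_))
    obtain ⟨y, hy, hgx⟩ := hg
    obtain ⟨v', rfl⟩ := hTsurj v
    obtain ⟨y', rfl⟩ := hTsurj y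
    rw [hQT] at hv
    rw [hTh] at hy
    obtain ⟨h', hh, hhx⟩ := h v' (c • y') ((mul_eq_zero.mp hv).resolve_left hc)
      (by rw [QuadraticMap.polar_smul_right, hpol, (mul_eq_zero.mp hy).resolve_left hc, smul_zero])
    rw [show g = φ h' from gl_ext_mulVec fun x => by
      obtain ⟨z, rfl⟩ := hTsurj x
      rw [hgx, hφ, hhx]
      simp only [map_sub, map_add, LinearMap.map_smul, QuadraticMap.map_smul, QuadraticMap.polar_smul_left, hTh, hQT,
        hpol, smul_eq_mul, (tp_refl S (t + 1)).semi.smul_left]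
      module]
    exact (hX h').1 hh

end Cfsg.Agent.Classical.TensorPowerMax.Symplectic
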